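import Cfsg.Agent.Lib.UThreeLocal.Loc.Interface
import Cfsg.Agent.Lib.Coprime.Generation

/-!
# The elementary group `E = C_Q(y)⟨y⟩`: signalizers and the choice of `y`
-/

set_option autoImplicit false
set_option linter.unusedSectionVars false
set_option linter.style.haveILetI false

namespace Cfsg.Agent.UThreeLocal

open Subgroup
open scoped commutatorElement

universe u

theorem sum_facts : ∀ u p p' q q' : ZMod 3, p + p' ≠ 0 → q + q' ≠ 0 →
    ∃ x ∈ [0, p, p'], ∃ w ∈ [0, q, q'], u + x + w = 0 := by decide +kernel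

/-- Two elements off both axes whose sum is off both axes lie on the line of the sum. -/
theorem diag_sum (c c' e : ZMod 3 × ZMod 3) (h1 : c.1 ≠ 0) (h2 : c.2 ≠ 0) (h3 : c'.1 ≠ 0) (h4 : c'.2 ≠ 0)
    (h5 : e.1 ≠ 0) (h6 : e.2 ≠ 0) (hs : c + c' = e) : c = -e := by
  have key : ∀ a b d : ZMod 3, a ≠ 0 → b ≠ 0 → d ≠ 0 → a + b = d → a = -d := by decide +kernel
  exact Prod.ext (key _ _ _ h1 h3 h5 (congrArg Prod.fst hs)) (key _ _ _ h2 h4 h6 (congrArg Prod.snd hs))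

theorem three_nsmul_pair (e : ZMod 3 × ZMod 3) : 3 • e = 0 := by
  have key : ∀ a : ZMod 3, 3 • a = 0 := by decide +kernel
  exact Prod.ext (key e.1) (key e.2)

variable {G : Type u} [Group G] [Finite G] {Z Q Q1 Q2 L1 L2 : Subgroup G} {t1 t2 : G}

namespace Setting

variable (h : Setting Z Q)
include h

theorem not_ne_one {z : G} (hz : z ∈ Z) (hz1 : z ≠ 1) : z⁻¹ ≠ 1 ∧ z * z ≠ 1 := by
  refine ⟨inv_ne_one.2 hz1, fun e => hz1 ?_⟩
  have h3 := h.Z_cube hz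
  rwa [pow_succ, pow_two, e, one_mul] at h3

theorem exists_z : ∃ z ∈ Z, z ≠ 1 := by
  by_contra hc
  push Not at hc
  have e : Z = ⊥ := eq_bot_iff.2 fun x hx => mem_bot.2 (hc x hx)
  have h3 := h.Z_card
  rw [e, card_bot] at h3
  omega

theorem Q_pgroup : IsPGroup 3 ↥Q := by
  haveI : Fact (Nat.Prime 3) := ⟨Nat.prime_three⟩
  exact IsPGroup.of_card (n := 5) (by rw [h.Q_card]; norm_num)

/-- A group of order prime to three, in `C(Z)` and normalised by a self-centralising subgroup of `Q`, is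
trivial. -/
theorem signal_base {K W : Subgroup G} (hKC : K ≤ centralizer (Z : Set G)) (hK : (Nat.card ↥K).Coprime 3)
    (hWQ : W ≤ Q) (hW : ∀ x ∈ Q, (∀ w ∈ W, x * w = w * x) → x ∈ W) (hN : W ≤ normalizer (K : Set G)) : K = ⊥ := by
  refine eq_bot_iff.2 fun k hk => ?_
  rw [mem_bot]
  have hord : k ^ Nat.card ↥K = 1 :=
    (Subgroup.coe_pow K ⟨k, hk⟩ _).symm.trans (congrArg Subtype.val (pow_card_eq_one' (x := (⟨k, hk⟩ : ↥K))))
  have hKQ : ∀ x ∈ K, x ∈ Q → x = 1 := fun x hx hxQ => by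
    have h1 : x ^ Nat.card ↥K = 1 :=
      (Subgroup.coe_pow K ⟨x, hx⟩ _).symm.trans (congrArg Subtype.val (pow_card_eq_one' (x := (⟨x, hx⟩ : ↥K))))
    have h2 : x ^ 9 = 1 := by rw [show 9 = 3 * 3 from rfl, pow_mul, h.Z_cube (h.cube_mem hxQ)]
    have := pow_gcd_eq_one.2 ⟨h1, h2⟩
    rwa [show Nat.gcd (Nat.card ↥K) 9 = 1 from Nat.Coprime.pow_right 2 hK, pow_one] at this
  have hkW : ∀ w ∈ W, k * w * k⁻¹ = w := by
    intro w hw
    refine eq_of_mul_inv_eq_one ?_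
    refine hKQ _ ?_ (mul_mem (h.conj_mem (hKC hk) (hWQ hw)) (inv_mem (hWQ hw)))
    rw [show k * w * k⁻¹ * w⁻¹ = k * (w * k⁻¹ * w⁻¹) by group]
    exact mul_mem hk ((mem_normalizer_iff.1 (hN hw) _).1 (inv_mem hk))
  have hkQ : k ∈ centralizer (Q : Set G) := by
    refine mem_centralizer_iff.2 fun q hq => ?_
    set s := q⁻¹ * (k * q * k⁻¹) with hs
    have hsQ : s ∈ Q := mul_mem (inv_mem hq) (h.conj_mem (hKC hk) hq)
    have hsW : s ∈ W := hW s hsQ fun w hw => by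
      rw [← commutatorElement_eq_one_iff_mul_comm, hs,
        h.comm_mul_left (inv_mem hq) (h.conj_mem (hKC hk) hq) (hWQ hw)]
      have e : ⁅k * q * k⁻¹, w⁆ = ⁅q, w⁆ := by
        calc ⁅k * q * k⁻¹, w⁆ = ⁅k * q * k⁻¹, k * w * k⁻¹⁆ := by rw [hkW w hw]
          _ = k * ⁅q, w⁆ * k⁻¹ := by simp only [commutatorElement_def]; group
          _ = ⁅q, w⁆ := h.conj_Z (hKC hk) (h.comm_mem hq (hWQ hw))
      rw [e, ← h.comm_mul_left (inv_mem hq) hq (hWQ hw), inv_mul_cancel, commutatorElement_one_left]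
    have e1 := pow_conj_fixed (l := k) (u := q) (v := s) (mul_inv_cancel_left q _).symm (hkW s hsW) (Nat.card ↥K)
    rw [hord, one_mul, inv_one, mul_one, left_eq_mul] at e1
    have e2 : s ^ 9 = 1 := by rw [show 9 = 3 * 3 from rfl, pow_mul, h.Z_cube (h.cube_mem hsQ)]
    have hs1 := pow_gcd_eq_one.2 ⟨e1, e2⟩
    rw [show Nat.gcd (Nat.card ↥K) 9 = 1 from Nat.Coprime.pow_right 2 hK, pow_one] at hs1
    have e4 : k * q * k⁻¹ = q := (inv_mul_eq_one.1 hs1).symm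
    exact (mul_inv_eq_iff_eq_mul.1 e4).symm
  exact hKQ k hk (h.Z_le (h.cent.le hkQ))

end Setting

namespace Frame

variable (F : Frame Z Q Q1 Q2 L1 L2 t1 t2)
include F

/-- The sum of two flags is its own centralizer in `Q`. -/
theorem cent_flags {P P' : Subgroup G} {a1 a2 : G} (hf1 : Flag Z Q1 P a1) (hf2 : Flag Z Q2 P' a2) {x : G}
    (hx : x ∈ Q) (hc : ∀ w ∈ (Z ⊔ zpowers a1) ⊔ (Z ⊔ zpowers a2), x * w = w * x) :
    x ∈ (Z ⊔ zpowers a1) ⊔ (Z ⊔ zpowers a2) := by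
  obtain ⟨u, hu, v, hv, rfl⟩ := F.pair.dec x hx
  have h1 := hc a1 (mem_sup_left (mem_sup_right (mem_zpowers a1)))
  have h2 := hc a2 (mem_sup_right (mem_sup_right (mem_zpowers a2)))
  have hu' : u * a1 = a1 * u := by
    refine mul_right_cancel (b := v) ?_
    calc u * a1 * v = u * v * a1 := by rw [mul_assoc, F.pair.comm a1 hf1.mem v hv, ← mul_assoc]
      _ = a1 * u * v := by rw [h1, ← mul_assoc]
  have hv' : v * a2 = a2 * v := by
    refine mul_left_cancel (a := u) ?_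
    calc u * (v * a2) = a2 * (u * v) := by rw [← mul_assoc]; exact h2
      _ = u * (a2 * v) := by rw [← mul_assoc, ← F.pair.comm u hu a2 hf2.mem, mul_assoc]
  refine mul_mem_sup ?_ ?_
  · rw [← F.pair.cent_eq F.set hf1.mem hf1.notZ]
    exact mem_inf.2 ⟨hu, mem_centralizer_singleton_iff.2 hu'⟩
  · rw [← F.pair.symm.cent_eq F.set hf2.mem hf2.notZ]
    exact mem_inf.2 ⟨hv, mem_centralizer_singleton_iff.2 hv'⟩

variable {y : G}

theorem cent_Fx (hpt : IsPt Z y) (hyC : y ∈ centralizer (Z : Set G)) (hyZ : y ∉ Z) {x : G} (hx : x ∈ Q)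
    (hc : ∀ w ∈ Fx Q y, x * w = w * x) : x ∈ Fx Q y := by
  obtain ⟨-, -, -, -, hy3, -⟩ := F.pt_side hpt hyC hyZ
  have hP := F.pgroup_zpowers hy3
  have hPC : zpowers y ≤ centralizer (Z : Set G) := zpowers_le.2 hyC
  obtain ⟨a1, h1⟩ := F.exists_flag' hP hPC
  obtain ⟨a2, h2⟩ := F.symm.exists_flag' hP hPC
  rw [F.good hpt hyC hyZ hP hPC (mem_zpowers y) h1 h2] at hc ⊢
  exact F.cent_flags h1 h2 hx hc

/-- The Sylow 3-subgroups of `C(Z)` have order `3⁶`. -/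
def Small (Z : Subgroup G) : Prop :=
  ∀ P : Subgroup G, IsPGroup 3 ↥P → P ≤ centralizer (Z : Set G) → Nat.card ↥P ∣ 729

theorem card_E (hpt : IsPt Z y) (hyC : y ∈ centralizer (Z : Set G)) (hyZ : y ∉ Z) :
    Nat.card ↥(Fx Q y ⊔ zpowers y) = 81 := by
  obtain ⟨-, -, -, hyQ, hy3, -⟩ := F.pt_side hpt hyC hyZ
  haveI : Fact (Nat.Prime 3) := ⟨Nat.prime_three⟩
  have hy1 : y ≠ 1 := fun e => hyQ (e ▸ one_mem Q)
  have hcy : Nat.card ↥(zpowers y) = 3 := by rw [Nat.card_zpowers, orderOf_eq_prime hy3 hy1]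
  have hc := card_sup_mul_inf (A := Fx Q y) (B := zpowers y) (zpowers_le.2 (Subgroup.mem_normalizer_fintype
    fun w hw => by
      rw [SetLike.mem_coe, (mem_centralizer_singleton_iff.1 (mem_inf.1 hw).2).symm, mul_inv_cancel_right]
      exact hw))
  have hi : Fx Q y ⊓ zpowers y = ⊥ := by
    refine eq_bot_iff.2 fun x hx => ?_
    by_contra hx1
    rw [mem_bot] at hx1
    exact hyQ ((zpowers_eq_of_prime hcy hx.2 hx1).symm ▸ zpowers_le.2 (mem_inf.1 hx.1).1 <| mem_zpowers y)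
  rw [hi, card_bot, mul_one, F.card_Fx_pt hpt hyC hyZ, hcy] at hc
  exact hc

theorem comm_E (hpt : IsPt Z y) (hyC : y ∈ centralizer (Z : Set G)) (hyZ : y ∉ Z) :
    (∀ u ∈ Fx Q y ⊔ zpowers y, ∀ v ∈ Fx Q y ⊔ zpowers y, u * v = v * u) ∧
      ∀ u ∈ Fx Q y ⊔ zpowers y, u ^ 3 = 1 := by
  obtain ⟨-, -, -, -, hy3, -⟩ := F.pt_side hpt hyC hyZ
  have hab := F.abelian_Fx hpt hyC hyZ
  set E := Fx Q y ⊔ zpowers y with hE
  have hyc : zpowers y ≤ centralizer ((Fx Q y : Subgroup G) : Set G) :=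
    zpowers_le.2 (mem_centralizer_iff.2 fun w hw => mem_centralizer_singleton_iff.1 (mem_inf.1 hw).2)
  have hle : E ≤ centralizer (E : Set G) := by
    refine sup_le (fun w hw => ?_) (zpowers_le.2 ?_) <;> refine mem_centralizer_iff.2 fun x hx => ?_
    · have : E ≤ centralizer ({w} : Set G) :=
        sup_le (fun v hv => mem_centralizer_singleton_iff.2 (hab v hv w hw))
          (fun v hv => mem_centralizer_singleton_iff.2 (mem_centralizer_iff.1 (hyc hv) w hw).symm)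
      exact mem_centralizer_singleton_iff.1 (this hx)
    · have : E ≤ centralizer ({y} : Set G) :=
        sup_le inf_le_right (zpowers_le.2 (mem_centralizer_singleton_iff.2 rfl))
      exact mem_centralizer_singleton_iff.1 (this hx)
  have hcomm : ∀ u ∈ E, ∀ v ∈ E, u * v = v * u := fun u hu v hv => mem_centralizer_iff.1 (hle hv) u hu
  refine ⟨hcomm, fun u hu => ?_⟩
  let M : Subgroup G :=
    { carrier := {x | x ∈ E ∧ x ^ 3 = 1}
      one_mem' := ⟨one_mem _, one_pow 3⟩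
      mul_mem' := fun ⟨h1, h1'⟩ ⟨h2, h2'⟩ => ⟨mul_mem h1 h2, by
        rw [(show Commute _ _ from hcomm _ h1 _ h2).mul_pow, h1', h2', one_mul]⟩
      inv_mem' := fun ⟨h1, h1'⟩ => ⟨inv_mem h1, by rw [inv_pow, h1', inv_one]⟩ }
  exact ((sup_le (fun w hw => show w ∈ M from ⟨mem_sup_left hw, F.cube w (mem_inf.1 hw).1⟩)
    (zpowers_le.2 (show y ∈ M from ⟨mem_sup_right (mem_zpowers y), hy3⟩))) hu).2

/-- The shifts of `y` by an element of `Q1` outside the flag and by its inverse. -/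
theorem shifts (hpt : IsPt Z y) (hyC : y ∈ centralizer (Z : Set G)) (hyZ : y ∉ Z) {P : Subgroup G}
    (hP : IsPGroup 3 ↥P) (hPC : P ≤ centralizer (Z : Set G)) (hyP : y ∈ P) {a1 : G} (hf1 : Flag Z Q1 P a1) :
    ∃ b ∈ Q1, y⁻¹ * (b * y * b⁻¹) ∈ Z ⊔ zpowers a1 ∧ y⁻¹ * (b⁻¹ * y * b) ∈ Z ⊔ zpowers a1 ∧
      y⁻¹ * (b * y * b⁻¹) ∉ Z ∧
      y⁻¹ * (b * y * b⁻¹) * (y⁻¹ * (b⁻¹ * y * b)) ∈ Z ∧
      y⁻¹ * (b * y * b⁻¹) * (y⁻¹ * (b⁻¹ * y * b)) ≠ 1 := by
  have h := F.set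
  obtain ⟨hn1, -⟩ := F.nontriv hpt hyC hyZ
  obtain ⟨b, hb, hab⟩ := F.pair.exists_noncomm h hf1.mem hf1.notZ
  have hbQ := F.pair.le1 hb
  set A := Z ⊔ zpowers a1 with hA
  have hAQ1 : A ≤ Q1 := sup_le F.pair.Z1 (zpowers_le.2 hf1.mem)
  have hnA : Q ≤ normalizer (A : Set G) := h.normal_of_Z_le (hAQ1.trans F.pair.le1) le_sup_left
  have hshift : ∀ u ∈ Q1, y⁻¹ * (u * y * u⁻¹) ∈ A := fun u hu => by
    have h1 := hf1.move _ (inv_mem hyP) u hu
    have h2 := (mem_normalizer_iff.1 (hnA (F.pair.le1 hu)) _).1 h1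
    convert h2 using 1; group
  set c := y⁻¹ * (b * y * b⁻¹) with hc
  have hc' : y⁻¹ * (b⁻¹ * y * b) ∈ A := by simpa using hshift b⁻¹ (inv_mem hb)
  have hcA := hshift b hb
  have hbA : b ∉ A := fun hbA => by
    rw [hA, ← F.pair.cent_eq h hf1.mem hf1.notZ] at hbA
    exact hab (mem_centralizer_singleton_iff.1 hbA.2).symm
  have hcZ : c ∉ Z := fun hz => hbA (F.mem_flag hf1 hyP hyC hn1 hb (by
    have e : b⁻¹ * (y * b * y⁻¹) = b⁻¹ * (y * c⁻¹ * y⁻¹) * b := by rw [hc]; group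
    rw [e, h.conj_Z hyC (inv_mem hz), mul_assoc, h.comm_Z hbQ (inv_mem hz), inv_mul_cancel_left]
    exact inv_mem hz))
  have e : y⁻¹ * (b⁻¹ * y * b) = b⁻¹ * c⁻¹ * b := by rw [hc]; group
  have hcomm : c * (b⁻¹ * c⁻¹ * b) = ⁅c, b⁻¹⁆ := by rw [commutatorElement_def]; group
  refine ⟨b, hb, hcA, hc', hcZ, ?_, ?_⟩
  · rw [← hc, e, hcomm]
    exact h.comm_mem (F.pair.le1 (hAQ1 hcA)) (inv_mem hbQ)
  · rw [← hc, e, hcomm, Ne, commutatorElement_eq_one_iff_mul_comm]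
    intro he
    have hcb : b ∈ Z ⊔ zpowers c := by
      rw [← F.pair.cent_eq h (hAQ1 hcA) hcZ]
      exact mem_inf.2 ⟨hb, mem_centralizer_singleton_iff.2
        (Commute.inv_right_iff.1 (show Commute c b⁻¹ from he)).eq.symm⟩
    exact hbA ((sup_le le_sup_left (zpowers_le.2 hcA)) hcb)

/-- The intersection with the other radical has order at least nine. -/
theorem card_radical (hpt : IsPt Z y) (hyC : y ∈ centralizer (Z : Set G)) (hyZ : y ∉ Z) {g : G}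
    (hg : y ∈ cj g Z) : 9 ≤ Nat.card ↥(Fx Q y ⊓ cj g Q) := by
  classical
  haveI : Fact (Nat.Prime 3) := ⟨Nat.prime_three⟩
  have h := F.set
  obtain ⟨g0, hyg0, hzp, -, hy3, hzside, hinf, hcent⟩ := F.pt_side hpt hyC hyZ
  have hgZ : cj g Z = cj g0 Z := by
    rw [← zpowers_eq_of_prime (Z := cj g Z) (by rw [card_cj, h.Z_card]) hg hpt.ne_one, hzp]
  rw [← hgZ] at hzside hcent hinf
  set W := Fx Q y with hW
  set D := W ⊓ cj g Q with hD
  have hWC : W ≤ centralizer ((cj g Z : Subgroup G) : Set G) := by rw [hcent]; exact inf_le_right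
  have hWp : IsPGroup 3 ↥W := h.Q_pgroup.to_le inf_le_left
  obtain ⟨χ, hχ⟩ := (F.conj g).exists_char hWp hWC
  obtain ⟨ψ, hψ⟩ := (F.conj g).symm.exists_char hWp hWC
  let f : ↥W → ZMod 3 × ZMod 3 := fun w => (Multiplicative.toAdd (χ w), Multiplicative.toAdd (ψ w))
  have hf : ∀ v w, f (v * w) = f v + f w := fun v w => by simp [f, map_mul]
  have hker : ∀ w : ↥W, f w = 0 → (w : G) ∈ D := fun w e => by
    obtain ⟨e1, e2⟩ := Prod.mk.inj e
    exact mem_inf.2 ⟨w.2, (F.conj g).mem_Q_of_triv (hWC w.2)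
      ((hχ w).1 (Multiplicative.toAdd.injective (e1.trans toAdd_one.symm)))
      ((hψ w).1 (Multiplicative.toAdd.injective (e2.trans toAdd_one.symm)))⟩
  have hdiag : ∀ w : ↥W, (w : G) ≠ 1 → IsPt Z (y * (w : G)) → (f w).1 ≠ 0 ∧ (f w).2 ≠ 0 := by
    intro w hw1 hp
    have hC : y * (w : G) ∈ centralizer ((cj g Z : Subgroup G) : Set G) :=
      mul_mem ((h.conj g).Q_le ((F.conj g).set.Z_le hg)) (hWC w.2)
    have hnot : y * (w : G) ∉ cj g Z := fun hm =>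
      hw1 (hinf _ (mem_inf.1 w.2).1 ((Subgroup.mul_mem_cancel_left _ hg).1 hm))
    obtain ⟨n1, n2⟩ := (F.conj g).nontriv ((IsPt.cj_iff g).2 hp) hC hnot
    have ht : ∀ R : Subgroup G, R ≤ cj g Q → Triv (cj g Z) R (w : G) → Triv (cj g Z) R (y * (w : G)) := by
      intro R hR ht x hx
      rw [shift_mul, (F.conj g).set.conj_Z ((h.conj g).Q_le ((F.conj g).set.Z_le hg)) (ht x hx)]
      exact mul_mem ((F.conj g).triv_Q ((F.conj g).set.Z_le hg) hR x hx) (ht x hx)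
    exact ⟨fun e => n1 (ht _ (F.conj g).pair.le1 ((hχ w).1 (Multiplicative.toAdd.injective (e.trans toAdd_one.symm)))),
      fun e => n2 (ht _ (F.conj g).pair.le2 ((hψ w).1 (Multiplicative.toAdd.injective (e.trans toAdd_one.symm))))⟩
  have hdz : ∀ w : ↥W, (w : G) ∈ Z → (w : G) ≠ 1 → (f w).1 ≠ 0 ∧ (f w).2 ≠ 0 := by
    intro w hw hw1
    obtain ⟨hC, hnot, -, hp⟩ := hzside _ hw hw1
    obtain ⟨n1, n2⟩ := (F.conj g).nontriv hp hC hnot
    exact ⟨fun e => n1 ((hχ w).1 (Multiplicative.toAdd.injective (e.trans toAdd_one.symm))),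
      fun e => n2 ((hψ w).1 (Multiplicative.toAdd.injective (e.trans toAdd_one.symm)))⟩
  -- the image is the line of `Z`
  obtain ⟨z, hz, hz1⟩ := h.exists_z
  have hZW : Z ≤ W := h.Z_le_Fx hyC
  set L : AddSubgroup (ZMod 3 × ZMod 3) := AddSubgroup.zmultiples (f ⟨z, hZW hz⟩) with hL
  let K : Subgroup G :=
    { carrier := {w | ∃ hw : w ∈ W, f ⟨w, hw⟩ ∈ L}
      one_mem' := ⟨one_mem W, by
        rw [show f ⟨1, one_mem W⟩ = 0 by simp [f, show (⟨1, one_mem W⟩ : ↥W) = 1 from rfl]]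
        exact zero_mem L⟩
      mul_mem' := by
        rintro u v ⟨hu, hu'⟩ ⟨hv, hv'⟩
        exact ⟨mul_mem hu hv, by rw [show (⟨u * v, mul_mem hu hv⟩ : ↥W) = ⟨u, hu⟩ * ⟨v, hv⟩ from rfl, hf]
                                 exact add_mem hu' hv'⟩
      inv_mem' := by
        rintro u ⟨hu, hu'⟩
        refine ⟨inv_mem hu, ?_⟩
        have e : f ⟨u⁻¹, inv_mem hu⟩ = - f ⟨u, hu⟩ := by
          simp [f, show (⟨u⁻¹, inv_mem hu⟩ : ↥W) = ⟨u, hu⟩⁻¹ from rfl]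
        rw [e]
        exact neg_mem hu' }
  have hZK : Z ≤ K := by
    intro w hw
    obtain ⟨n, rfl⟩ := mem_zpowers_iff.1 ((zpowers_eq_of_prime h.Z_card hz hz1).ge hw)
    have hzK : z ∈ K := ⟨hZW hz, AddSubgroup.mem_zmultiples _⟩
    exact zpow_mem hzK n
  have hP := F.pgroup_zpowers hy3
  have hPC : zpowers y ≤ centralizer (Z : Set G) := zpowers_le.2 hyC
  obtain ⟨a1, h1⟩ := F.exists_flag' hP hPC
  obtain ⟨a2, h2⟩ := F.symm.exists_flag' hP hPC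
  have hgood := F.good hpt hyC hyZ hP hPC (mem_zpowers y) h1 h2
  obtain ⟨b1, -, c1, c1', n1, cZ1, cn1⟩ := F.shifts hpt hyC hyZ hP hPC (mem_zpowers y) h1
  obtain ⟨b2, -, d1, d1', n2, dZ1, dn1⟩ := F.symm.shifts hpt hyC hyZ hP hPC (mem_zpowers y) h2
  have hmem : ∀ (c c' : G), c ∈ W → c' ∈ W → c ∉ Z → IsPt Z (y * c) → IsPt Z (y * c') → c * c' ∈ Z →
      c * c' ≠ 1 → c ∈ K := by
    intro c c' hc hc' hcZ hp hp' hZ hn
    refine ⟨hc, ?_⟩
    have hc1 : c ≠ 1 := fun e => hcZ (e ▸ one_mem Z)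
    have hc'1 : c' ≠ 1 := fun e => hcZ (by rw [e, mul_one] at hZ; exact hZ)
    have e := diag_sum (f ⟨c, hc⟩) (f ⟨c', hc'⟩) (f ⟨c * c', hZW hZ⟩) (hdiag ⟨c, hc⟩ hc1 hp).1
      (hdiag ⟨c, hc⟩ hc1 hp).2 (hdiag ⟨c', hc'⟩ hc'1 hp').1 (hdiag ⟨c', hc'⟩ hc'1 hp').2
      (hdz ⟨c * c', hZW hZ⟩ hZ hn).1 (hdz ⟨c * c', hZW hZ⟩ hZ hn).2 (hf ⟨c, hc⟩ ⟨c', hc'⟩).symm
    rw [e]
    exact neg_mem (hZK hZ).2
  have hptc : ∀ b : G, IsPt Z (y * (y⁻¹ * (b * y * b⁻¹))) := fun b => by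
    rw [mul_inv_cancel_left]; exact hpt.conj b
  have hptc' : ∀ b : G, IsPt Z (y * (y⁻¹ * (b⁻¹ * y * b))) := fun b => by
    have := hptc b⁻¹
    rwa [inv_inv] at this
  have hm1 : ∀ {w : G}, w ∈ Z ⊔ zpowers a1 → w ∈ W := fun hw => hgood.ge (mem_sup_left hw)
  have hm2 : ∀ {w : G}, w ∈ Z ⊔ zpowers a2 → w ∈ W := fun hw => hgood.ge (mem_sup_right hw)
  have k1 := hmem _ _ (hm1 c1) (hm1 c1') n1 (hptc b1) (hptc' b1) cZ1 cn1
  have k2 := hmem _ _ (hm2 d1) (hm2 d1') n2 (hptc b2) (hptc' b2) dZ1 dn1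
  have hflag : ∀ (R : Subgroup G) (a c : G), Nat.card ↥(Z ⊔ zpowers a) = 9 → c ∈ Z ⊔ zpowers a → c ∉ Z →
      c ∈ K → Z ⊔ zpowers a ≤ K := by
    intro R a c hcard hc hcZ hcK
    have hle : Z ⊔ zpowers c ≤ Z ⊔ zpowers a := sup_le le_sup_left (zpowers_le.2 hc)
    obtain ⟨k, hk, ek⟩ := (Nat.dvd_prime_pow Nat.prime_three).1 (show Nat.card ↥(Z ⊔ zpowers c) ∣ 3 ^ 2 by
      rw [show (3 : ℕ) ^ 2 = Nat.card ↥(Z ⊔ zpowers a) by rw [hcard]; norm_num]
      exact card_dvd_of_le hle)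
    have hlt : Nat.card ↥Z < Nat.card ↥(Z ⊔ zpowers c) :=
      lt_of_le_of_ne (Subgroup.card_le_of_le le_sup_left) fun e => hcZ
        ((Subgroup.eq_of_le_of_card_ge le_sup_left e.ge).ge (mem_sup_right (mem_zpowers c)))
    rw [h.Z_card, ek] at hlt
    have hk2 : k = 2 := by
      by_contra hk2
      have : 3 ^ k ≤ 3 ^ 1 := Nat.pow_le_pow_right (by norm_num) (by omega)
      omega
    rw [← Subgroup.eq_of_le_of_card_ge hle (by rw [hcard, ek, hk2]; norm_num)]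
    exact sup_le hZK (zpowers_le.2 hcK)
  have hWK : W ≤ K := hgood.le.trans (sup_le (hflag Q1 a1 _ (F.card_flag h1) c1 n1 k1)
    (hflag Q2 a2 _ (F.symm.card_flag h2) d1 n2 k2))
  -- hence the kernel has index at most three
  have hW27 := F.card_Fx_pt hpt hyC hyZ
  let φ : ↥W →* Multiplicative L :=
    MonoidHom.mk' (fun w => Multiplicative.ofAdd ⟨f w, (hWK w.2).2⟩) fun v w => by
      apply Multiplicative.toAdd.injective
      exact Subtype.ext (hf v w)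
  have hL3 : Nat.card ↥L ≤ 3 := by
    rw [hL, Nat.card_zmultiples]
    refine addOrderOf_le_of_nsmul_eq_zero (by norm_num) ?_
    exact three_nsmul_pair _
  have hk : Nat.card ↥φ.ker ≤ Nat.card ↥D := Nat.card_le_card_of_injective
    (fun w => (⟨((w : ↥W) : G), hker _ (congrArg Subtype.val
      (congrArg Multiplicative.toAdd (MonoidHom.mem_ker.1 w.2)))⟩ : ↥D))
    fun v w e => Subtype.ext (Subtype.ext (congrArg (fun x : ↥D => (x : G)) e))
  have hmul := φ.ker.card_mul_index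
  rw [index_ker, hW27] at hmul
  have hr : Nat.card ↥φ.range ≤ 3 := le_trans (Nat.card_le_card_of_injective (fun x : ↥φ.range => Multiplicative.toAdd (x : Multiplicative L))
    fun a b e => Subtype.ext (Multiplicative.toAdd.injective e)) hL3
  nlinarith

/-- Seen from `y`, the same group `E`. -/
theorem other_side (hpt : IsPt Z y) (hyC : y ∈ centralizer (Z : Set G)) (hyZ : y ∉ Z) {z : G}
    (hz : z ∈ Z) (hz1 : z ≠ 1) {g : G} (hg : y ∈ cj g Z) :
    Fx Q y ⊔ zpowers y = Fx (cj g Q) z ⊔ Z := by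
  haveI : Fact (Nat.Prime 3) := ⟨Nat.prime_three⟩
  have h := F.set
  obtain ⟨g0, hyg0, hzp, -, hy3, hzside, hinf, hcent⟩ := F.pt_side hpt hyC hyZ
  have hy1 : y ≠ 1 := hpt.ne_one
  have hgZ : cj g Z = cj g0 Z := by
    rw [← zpowers_eq_of_prime (Z := cj g Z) (by rw [card_cj, h.Z_card]) hg hy1, hzp]
  have hzC : z ∈ centralizer ((cj g Z : Subgroup G) : Set G) := hgZ ▸ (hzside z hz hz1).1
  have hzZ' : z ∉ cj g Z := hgZ ▸ (hzside z hz hz1).2.1
  have hzpt : IsPt (cj g Z) z := (IsPt.cj_iff g).2 (IsPt.of_mem hz hz1)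
  have hW'27 := (F.conj g).card_Fx_pt hzpt hzC hzZ'
  set W := Fx Q y with hW
  set D := W ⊓ cj g Q with hD
  have hWC : W ≤ centralizer ((cj g Z : Subgroup G) : Set G) := by rw [hgZ, hcent]; exact inf_le_right
  have hWN : W ≤ normalizer ((cj g Q : Subgroup G) : Set G) := hWC.trans (F.conj g).set.Q_norm
  have hD9 : 9 ≤ Nat.card ↥D := F.card_radical hpt hyC hyZ hg
  have hDZ : D ⊓ Z = ⊥ := by
    refine eq_bot_iff.2 fun x hx => ?_
    by_contra hx1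
    rw [mem_bot] at hx1
    exact hzZ' ((F.conj g).set.pt_mem hzpt ((zpowers_le.2 (mem_inf.1 hx.1).2)
      (by rw [zpowers_eq_of_prime h.Z_card hx.2 hx1]; exact hz)))
  have hDZW : D ⊔ Z = W := by
    refine Subgroup.eq_of_le_of_card_ge (sup_le inf_le_left (h.Z_le_Fx hyC)) ?_
    have hc := card_sup_mul_inf (A := D) (B := Z) (fun x hx => Subgroup.mem_normalizer_fintype fun w hw => by
      rw [SetLike.mem_coe, h.comm_Z (mem_inf.1 (mem_inf.1 hw).1).1 hx, mul_inv_cancel_right]; exact hw)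
    rw [hDZ, card_bot, mul_one, h.Z_card] at hc
    rw [F.card_Fx_pt hpt hyC hyZ, hc]
    omega
  have hyW' : y ∈ Fx (cj g Q) z := mem_inf.2 ⟨(F.conj g).set.Z_le hg,
    mem_centralizer_singleton_iff.2 (mem_centralizer_iff.1 hyC z hz).symm⟩
  have hDW' : D ≤ Fx (cj g Q) z := fun x hx => mem_inf.2 ⟨(mem_inf.1 hx).2,
    mem_centralizer_singleton_iff.2 (h.comm_Z (mem_inf.1 (mem_inf.1 hx).1).1 hz).symm⟩
  have hW'eq : Fx (cj g Q) z = D ⊔ zpowers y := by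
    refine (Subgroup.eq_of_le_of_card_ge (sup_le hDW' (zpowers_le.2 hyW')) ?_).symm
    have hyD : y ∉ D := fun e => hyZ (h.pt_mem hpt (mem_inf.1 (mem_inf.1 e).1).1)
    obtain ⟨k, hk, ek⟩ := (Nat.dvd_prime_pow Nat.prime_three).1 (show Nat.card ↥(D ⊔ zpowers y) ∣ 3 ^ 3 by
      rw [show (3 : ℕ) ^ 3 = Nat.card ↥(Fx (cj g Q) z) by rw [hW'27]; norm_num]
      exact card_dvd_of_le (sup_le hDW' (zpowers_le.2 hyW')))
    have hlt : Nat.card ↥D < Nat.card ↥(D ⊔ zpowers y) :=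
      lt_of_le_of_ne (Subgroup.card_le_of_le le_sup_left) fun e => hyD
        ((Subgroup.eq_of_le_of_card_ge le_sup_left e.ge).ge (mem_sup_right (mem_zpowers y)))
    rw [hW'27, ek]
    rw [ek] at hlt
    have : 3 ≤ k := by
      by_contra hk2
      have : 3 ^ k ≤ 3 ^ 2 := Nat.pow_le_pow_right (by norm_num) (by omega)
      omega
    exact le_trans (by norm_num) (Nat.pow_le_pow_right (by norm_num : 1 ≤ 3) this)
  rw [hW'eq, ← hDZW]
  exact le_antisymm (sup_le (sup_le (le_sup_left.trans le_sup_left) le_sup_right) (le_sup_right.trans le_sup_left))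
    (sup_le (sup_le (le_sup_left.trans le_sup_left) le_sup_right) (le_sup_right.trans le_sup_left))

/-- For every point of `E` outside `Z` the group `E` is the same. -/
theorem E_eq_of_pt (hpt : IsPt Z y) (hyC : y ∈ centralizer (Z : Set G)) (hyZ : y ∉ Z) {x : G}
    (hx : x ∈ Fx Q y ⊔ zpowers y) (hxpt : IsPt Z x) (hxZ : x ∉ Z) :
    x ∈ centralizer (Z : Set G) ∧ Fx Q x ⊔ zpowers x = Fx Q y ⊔ zpowers y := by
  obtain ⟨hcomm, -⟩ := F.comm_E hpt hyC hyZ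
  set E := Fx Q y ⊔ zpowers y with hE
  have hxC : x ∈ centralizer (Z : Set G) :=
    (sup_le (fun w hw => F.set.Q_le (mem_inf.1 hw).1) (zpowers_le.2 hyC)) hx
  have hWx : Fx Q y ≤ Fx Q x := fun w hw => mem_inf.2
    ⟨(mem_inf.1 hw).1, mem_centralizer_singleton_iff.2 (hcomm w (mem_sup_left hw) x hx)⟩
  have heq : Fx Q y = Fx Q x :=
    Subgroup.eq_of_le_of_card_ge hWx (by rw [F.card_Fx_pt hpt hyC hyZ, F.card_Fx_pt hxpt hxC hxZ])
  refine ⟨hxC, Subgroup.eq_of_le_of_card_ge (sup_le (heq ▸ le_sup_left) (zpowers_le.2 hx)) ?_⟩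
  rw [F.card_E hpt hyC hyZ, F.card_E hxpt hxC hxZ]

/-- Every hyperplane of `E` contains a point. -/
theorem hyper (hpt : IsPt Z y) (hyC : y ∈ centralizer (Z : Set G)) (hyZ : y ∉ Z) {M : Subgroup G}
    (hME : M ≤ Fx Q y ⊔ zpowers y) (hM : Nat.card ↥M = 27) : ∃ x ∈ M, IsPt Z x := by
  classical
  haveI : Fact (Nat.Prime 3) := ⟨Nat.prime_three⟩
  have h := F.set
  obtain ⟨z, hz, hz1⟩ := h.exists_z
  by_cases hzM : z ∈ M
  · exact ⟨z, hzM, IsPt.of_mem hz hz1⟩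
  obtain ⟨-, -, -, -, hy3, -⟩ := F.pt_side hpt hyC hyZ
  have hP := F.pgroup_zpowers hy3
  have hPC : zpowers y ≤ centralizer (Z : Set G) := zpowers_le.2 hyC
  obtain ⟨a1, h1⟩ := F.exists_flag' hP hPC
  obtain ⟨a2, h2⟩ := F.symm.exists_flag' hP hPC
  obtain ⟨b1, hb1, c1, c1', -, cZ1, cn1⟩ := F.shifts hpt hyC hyZ hP hPC (mem_zpowers y) h1
  obtain ⟨b2, hb2, d1, d1', -, dZ1, dn1⟩ := F.symm.shifts hpt hyC hyZ hP hPC (mem_zpowers y) h2
  set E := Fx Q y ⊔ zpowers y with hE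
  have hgood := F.good hpt hyC hyZ hP hPC (mem_zpowers y) h1 h2
  have hsub : (Z ⊔ zpowers a1) ⊔ (Z ⊔ zpowers a2) ≤ E := hgood ▸ le_sup_left
  have hEc := F.card_E hpt hyC hyZ
  obtain ⟨hcomm, -⟩ := F.comm_E hpt hyC hyZ
  haveI : (M.subgroupOf E).Normal := normal_subgroupOf_of_le_normalizer
    (fun u hu => Subgroup.mem_normalizer_fintype fun w hw => by
      rw [SetLike.mem_coe, hcomm u hu w (hME hw), mul_inv_cancel_right]; exact hw)
  have h3 : Nat.card (↥E ⧸ M.subgroupOf E) = 3 := by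
    have := card_eq_card_quotient_mul_card_subgroup (M.subgroupOf E)
    rw [hEc, Nat.card_congr (subgroupOfEquivOfLe hME).toEquiv, hM] at this
    omega
  let e3 := mulEquivOfPrimeCardEq (p := 3) h3 (show Nat.card (Multiplicative (ZMod 3)) = 3 by simp)
  let π : ↥E →* Multiplicative (ZMod 3) := e3.toMonoidHom.comp (QuotientGroup.mk' (M.subgroupOf E))
  have hπ : ∀ w : ↥E, π w = 1 ↔ (w : G) ∈ M := fun w => by
    simp only [π, MonoidHom.comp_apply, MulEquiv.coe_toMonoidHom, map_eq_one_iff e3 e3.injective]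
    exact (QuotientGroup.eq_one_iff w).trans mem_subgroupOf
  let f : ↥E → ZMod 3 := fun w => Multiplicative.toAdd (π w)
  have hf : ∀ v w, f (v * w) = f v + f w := fun v w => by simp [f, map_mul]
  have hf0 : ∀ w : ↥E, f w = 0 ↔ (w : G) ∈ M := fun w => by
    rw [← hπ]; exact ⟨fun e => Multiplicative.toAdd.injective (e.trans toAdd_one.symm), fun e => by simp [f, e]⟩
  -- the sums of two opposite shifts
  have hsum : ∀ (s s' : G) (hs : s ∈ E) (hs' : s' ∈ E), s * s' ∈ Z → s * s' ≠ 1 → f ⟨s, hs⟩ + f ⟨s', hs'⟩ ≠ 0 := by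
    intro s s' hs hs' hZ hn e
    rw [← hf, hf0] at e
    refine hzM ?_
    rw [← zpowers_le]
    exact ((zpowers_eq_of_prime h.Z_card hz hz1).le.trans (zpowers_eq_of_prime h.Z_card hZ hn).ge).trans
      (zpowers_le.2 e)
  have hm1 : ∀ {w : G}, w ∈ Z ⊔ zpowers a1 → w ∈ E := fun hw => hsub (mem_sup_left hw)
  have hm2 : ∀ {w : G}, w ∈ Z ⊔ zpowers a2 → w ∈ E := fun hw => hsub (mem_sup_right hw)
  obtain ⟨u, hu, v, hv, huv⟩ := sum_facts (f ⟨y, mem_sup_right (mem_zpowers y)⟩) _ _ _ _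
    (hsum _ _ (hm1 c1) (hm1 c1') cZ1 cn1) (hsum _ _ (hm2 d1) (hm2 d1') dZ1 dn1)
  -- the conjugate with these shifts
  have key : ∀ s t : G, s ∈ Q1 → t ∈ Q2 → (hs : y⁻¹ * (s * y * s⁻¹) ∈ E) → (ht : y⁻¹ * (t * y * t⁻¹) ∈ E) →
      y⁻¹ * (s * y * s⁻¹) ∈ Q1 →
      f ⟨y, mem_sup_right (mem_zpowers y)⟩ + f ⟨_, hs⟩ + f ⟨_, ht⟩ = 0 → ∃ x ∈ M, IsPt Z x := by
    intro s t hs2 ht2 hs ht hsQ1 he
    refine ⟨t * (s * y * s⁻¹) * t⁻¹, ?_, (hpt.conj s).conj t⟩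
    rw [← hf, ← hf, hf0] at he
    convert he using 1
    have e1 : t * (y⁻¹ * (s * y * s⁻¹)) * t⁻¹ = y⁻¹ * (s * y * s⁻¹) := by
      rw [← F.pair.comm _ hsQ1 t ht2, mul_inv_cancel_right]
    show t * (s * y * s⁻¹) * t⁻¹ = y * (y⁻¹ * (s * y * s⁻¹)) * (y⁻¹ * (t * y * t⁻¹))
    calc t * (s * y * s⁻¹) * t⁻¹ = y * (y⁻¹ * (t * y * t⁻¹)) * (t * (y⁻¹ * (s * y * s⁻¹)) * t⁻¹) := by group
      _ = y * (y⁻¹ * (t * y * t⁻¹)) * (y⁻¹ * (s * y * s⁻¹)) := by rw [e1]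
      _ = y * (y⁻¹ * (s * y * s⁻¹)) * (y⁻¹ * (t * y * t⁻¹)) := by
        rw [mul_assoc y, hcomm _ ht _ hs, ← mul_assoc y]
  have hone : y⁻¹ * ((1 : G) * y * 1⁻¹) = 1 := by group
  have hi1 : y⁻¹ * (b1⁻¹ * y * b1⁻¹⁻¹) = y⁻¹ * (b1⁻¹ * y * b1) := by group
  have hi2 : y⁻¹ * (b2⁻¹ * y * b2⁻¹⁻¹) = y⁻¹ * (b2⁻¹ * y * b2) := by group
  have hA1 : Z ⊔ zpowers a1 ≤ Q1 := sup_le F.pair.Z1 (zpowers_le.2 h1.mem)
  have hf1' : f 1 = 0 := (hf0 1).2 (one_mem M)
  have P1 : ∀ x ∈ [(0 : ZMod 3), f ⟨_, hm1 c1⟩, f ⟨_, hm1 c1'⟩], ∃ s ∈ Q1, ∃ hs : y⁻¹ * (s * y * s⁻¹) ∈ E,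
      y⁻¹ * (s * y * s⁻¹) ∈ Q1 ∧ f ⟨_, hs⟩ = x := by
    intro x hx
    simp only [List.mem_cons, List.not_mem_nil, or_false] at hx
    rcases hx with rfl | rfl | rfl
    · exact ⟨1, one_mem _, hone.symm ▸ one_mem E, hone.symm ▸ one_mem Q1, (congrArg f (Subtype.ext hone)).trans hf1'⟩
    · exact ⟨b1, hb1, hm1 c1, hA1 c1, rfl⟩
    · exact ⟨b1⁻¹, inv_mem hb1, hi1 ▸ hm1 c1', hi1 ▸ hA1 c1', congrArg f (Subtype.ext hi1)⟩
  have P2 : ∀ x ∈ [(0 : ZMod 3), f ⟨_, hm2 d1⟩, f ⟨_, hm2 d1'⟩], ∃ s ∈ Q2, ∃ hs : y⁻¹ * (s * y * s⁻¹) ∈ E,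
      f ⟨_, hs⟩ = x := by
    intro x hx
    simp only [List.mem_cons, List.not_mem_nil, or_false] at hx
    rcases hx with rfl | rfl | rfl
    · exact ⟨1, one_mem _, hone.symm ▸ one_mem E, (congrArg f (Subtype.ext hone)).trans hf1'⟩
    · exact ⟨b2, hb2, hm2 d1, rfl⟩
    · exact ⟨b2⁻¹, inv_mem hb2, hi2 ▸ hm2 d1', congrArg f (Subtype.ext hi2)⟩
  obtain ⟨s, hs, hsE, hsQ, rfl⟩ := P1 u hu
  obtain ⟨t, ht, htE, rfl⟩ := P2 v hv
  exact key s t hs ht hsE htE hsQ huv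

/-- `E` normalises no nontrivial subgroup of order prime to three. -/
theorem signal (hpt : IsPt Z y) (hyC : y ∈ centralizer (Z : Set G)) (hyZ : y ∉ Z)
    {K : Subgroup G} (hK : (Nat.card ↥K).Coprime 3) (hN : Fx Q y ⊔ zpowers y ≤ normalizer (K : Set G)) :
    K = ⊥ := by
  classical
  haveI : Fact (Nat.Prime 3) := ⟨Nat.prime_three⟩
  have h := F.set
  obtain ⟨z, hz, hz1⟩ := h.exists_z
  obtain ⟨hcomm, hexp⟩ := F.comm_E hpt hyC hyZ
  have hEc := F.card_E hpt hyC hyZ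
  set E := Fx Q y ⊔ zpowers y with hE
  have hNC : ∀ S : Subgroup G, S ≤ E →
      E ≤ normalizer ((K ⊓ centralizer (S : Set G) : Subgroup G) : Set G) := by
    intro S hS e he
    refine Subgroup.mem_normalizer_fintype fun k hk => ?_
    refine mem_inf.2 ⟨(mem_normalizer_iff.1 (hN he) k).1 (mem_inf.1 hk).1, mem_centralizer_iff.2 fun s hsS => ?_⟩
    have h1 := mem_centralizer_iff.1 (mem_inf.1 hk).2 s hsS
    have h2 : e * s = s * e := hcomm e he s (hS hsS)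
    calc s * (e * k * e⁻¹) = e * (s * k) * e⁻¹ := by rw [← mul_assoc, ← mul_assoc, ← h2]; group
      _ = e * k * (s * e⁻¹) := by rw [h1]; group
      _ = e * k * e⁻¹ * s := by rw [(show Commute e s from h2).inv_left.eq.symm]; group
  have hcop : ∀ S : Subgroup G, (Nat.card ↥(K ⊓ centralizer (S : Set G))).Coprime 3 := fun S =>
    hK.coprime_dvd_left (card_dvd_of_le inf_le_left)
  -- points centralise nothing
  have hpoint : ∀ x ∈ E, IsPt Z x → K ⊓ centralizer ((zpowers x : Subgroup G) : Set G) = ⊥ := by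
    intro x hxE hxpt
    have hn := hNC (zpowers x) (zpowers_le.2 hxE)
    have hcK := hcop (zpowers x)
    by_cases hxZ : x ∈ Z
    · have hle : K ⊓ centralizer ((zpowers x : Subgroup G) : Set G) ≤ centralizer (Z : Set G) :=
        (zpowers_eq_of_prime h.Z_card hxZ hxpt.ne_one).symm ▸ inf_le_right
      exact h.signal_base hle hcK inf_le_left (fun u hu hc => F.cent_Fx hpt hyC hyZ hu hc) (le_sup_left.trans hn)
    · obtain ⟨hxC, hxE'⟩ := F.E_eq_of_pt hpt hyC hyZ hxE hxpt hxZ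
      obtain ⟨g, hxg, hzp, -, -, hzside, -, -⟩ := F.pt_side hxpt hxC hxZ
      have hW' := F.other_side hxpt hxC hxZ hz hz1 hxg
      obtain ⟨hzC, hzZ', -, hzpt⟩ := hzside z hz hz1
      have hle : K ⊓ centralizer ((zpowers x : Subgroup G) : Set G) ≤ centralizer ((cj g Z : Subgroup G) : Set G) := by
        rw [hzp]; exact inf_le_right
      refine (F.conj g).set.signal_base hle hcK inf_le_left
        (fun u hu hc => (F.conj g).cent_Fx hzpt hzC hzZ' hu hc) (le_trans ?_ hn)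
      rw [hE, ← hxE', hW']
      exact le_sup_left
  -- climb down through the subgroups
  have hlevel : ∀ S : Subgroup G, S ≤ E → Nat.card ↥S * 9 ≤ 81 →
      (∀ S' : Subgroup G, S' ≤ E → S ≤ S' → Nat.card ↥S' = Nat.card ↥S * 3 → K ⊓ centralizer (S' : Set G) = ⊥) →
      K ⊓ centralizer (S : Set G) = ⊥ := by
    intro S hS hcard hnext
    have hstep : ∀ (R : Subgroup G), R ≤ E → ∀ e ∈ E, e ∉ R →
        Nat.card ↥(R ⊔ zpowers e) = Nat.card ↥R * 3 := by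
      intro R hR e he hne
      have he1 : e ≠ 1 := fun h1 => hne (h1 ▸ one_mem R)
      have hce : Nat.card ↥(zpowers e) = 3 := by rw [Nat.card_zpowers, orderOf_eq_prime (hexp e he) he1]
      have hc := card_sup_mul_inf (A := R) (B := zpowers e) (fun w hw => Subgroup.mem_normalizer_fintype
        fun r hr => by
          rw [SetLike.mem_coe, hcomm w ((zpowers_le.2 he) hw) r (hR hr), mul_inv_cancel_right]; exact hr)
      have hi : R ⊓ zpowers e = ⊥ := by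
        refine eq_bot_iff.2 fun x hx => ?_
        by_contra hx1
        rw [mem_bot] at hx1
        exact hne ((zpowers_le.2 (mem_inf.1 hx).1) (by
          rw [zpowers_eq_of_prime hce (mem_inf.1 hx).2 hx1]; exact mem_zpowers e))
      rw [hi, card_bot, mul_one, hce] at hc
      exact hc
    obtain ⟨e1, he1, hne1⟩ : ∃ e ∈ E, e ∉ S := by
      by_contra hc
      push Not at hc
      have := Subgroup.card_le_of_le (show E ≤ S from hc)
      omega
    have hc1 := hstep S hS e1 he1 hne1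
    obtain ⟨e2, he2, hne2⟩ : ∃ e ∈ E, e ∉ S ⊔ zpowers e1 := by
      by_contra hc
      push Not at hc
      have := Subgroup.card_le_of_le (show E ≤ S ⊔ zpowers e1 from hc)
      have : 0 < Nat.card ↥S := Nat.card_pos
      omega
    set T := zpowers e1 ⊔ zpowers e2 with hT
    have hTE : T ≤ E := sup_le (zpowers_le.2 he1) (zpowers_le.2 he2)
    have hc2 := hstep (S ⊔ zpowers e1) (sup_le hS (zpowers_le.2 he1)) e2 he2 hne2
    have he1' : e1 ≠ 1 := fun h1 => hne1 (h1 ▸ one_mem S)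
    have hT9 : Nat.card ↥T = 9 := by
      have := hstep (zpowers e1) (zpowers_le.2 he1) e2 he2 (fun hm => hne2 (mem_sup_right hm))
      rw [this, Nat.card_zpowers, orderOf_eq_prime (hexp e1 he1) he1']
    have hdisj : S ⊓ T = ⊥ := by
      have hc := card_sup_mul_inf (A := S) (B := T) (fun w hw => Subgroup.mem_normalizer_fintype fun r hr => by
        rw [SetLike.mem_coe, hcomm w (hTE hw) r (hS hr), mul_inv_cancel_right]; exact hr)
      rw [← sup_assoc, hc2, hc1, hT9] at hc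
      refine Subgroup.card_eq_one.1 ?_
      have : 0 < Nat.card ↥S := Nat.card_pos
      nlinarith
    haveI : IsMulCommutative ↥T := ⟨⟨fun u v => Subtype.ext (hcomm u (hTE u.2) v (hTE v.2))⟩⟩
    have hTc : ¬ IsCyclic ↥T := fun hcyc => by
      obtain ⟨g, hg⟩ := IsCyclic.exists_ofOrder_eq_natCard (α := ↥T)
      rw [hT9] at hg
      have := orderOf_dvd_of_pow_eq_one (Subtype.ext (by simpa using hexp _ (hTE g.2)) : g ^ 3 = 1)
      rw [hg] at this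
      norm_num at this
    have hgen := Coprime.fixedGen_eq (A := T) (K := K ⊓ centralizer (S : Set G)) hTc (hTE.trans (hNC S hS))
      (by rw [hT9, show (9 : ℕ) = 3 ^ 2 from rfl]; exact Nat.Coprime.pow_left 2 (hcop S).symm)
    rw [← hgen]
    refine eq_bot_iff.2 (iSup₂_le fun a ha => ?_)
    have haS : a ∉ S := fun hm => ha.2 (mem_bot.1 (hdisj.le ⟨hm, ha.1⟩))
    refine le_trans ?_ (hnext (S ⊔ zpowers a) (sup_le hS (zpowers_le.2 (hTE ha.1))) le_sup_left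
      (hstep S hS a (hTE ha.1) haS)).le
    intro k hk
    obtain ⟨hk1, hk2⟩ := mem_inf.1 hk
    obtain ⟨hkK, hkS⟩ := mem_inf.1 hk1
    refine mem_inf.2 ⟨hkK, mem_centralizer_iff.2 fun w hw => ?_⟩
    have : S ⊔ zpowers a ≤ centralizer ({k} : Set G) := sup_le
      (fun s hsS => mem_centralizer_singleton_iff.2 (mem_centralizer_iff.1 hkS s hsS))
      (zpowers_le.2 (mem_centralizer_singleton_iff.2 (mem_centralizer_singleton_iff.1 hk2).symm))
    exact mem_centralizer_singleton_iff.1 (this hw)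
  have h27 : ∀ S : Subgroup G, S ≤ E → Nat.card ↥S = 27 → K ⊓ centralizer (S : Set G) = ⊥ := by
    intro S hS hc
    obtain ⟨x, hx, hxpt⟩ := F.hyper hpt hyC hyZ hS hc
    exact eq_bot_iff.2 ((inf_le_inf_left K (Subgroup.centralizer_le (zpowers_le.2 hx))).trans
      (hpoint x (hS hx) hxpt).le)
  have h9 : ∀ S : Subgroup G, S ≤ E → Nat.card ↥S = 9 → K ⊓ centralizer (S : Set G) = ⊥ := fun S hS hc =>
    hlevel S hS (by omega) fun S' hS' _ hc' => h27 S' hS' (by omega)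
  have h3 : ∀ S : Subgroup G, S ≤ E → Nat.card ↥S = 3 → K ⊓ centralizer (S : Set G) = ⊥ := fun S hS hc =>
    hlevel S hS (by omega) fun S' hS' _ hc' => h9 S' hS' (by omega)
  have h1 := hlevel ⊥ bot_le (by rw [card_bot]; norm_num) fun S' hS' _ hc' => h3 S' hS' (by rw [card_bot] at hc'; omega)
  rwa [show centralizer ((⊥ : Subgroup G) : Set G) = ⊤ by
    rw [centralizer_eq_top_iff_subset]; intro x hx; rw [SetLike.mem_coe, mem_bot] at hx; rw [hx]; exact one_mem _,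
    inf_top_eq] at h1

/-- `y` may be chosen fixed by `t2`. -/
theorem exists_fixed_pt (hpt : IsPt Z y) (hyC : y ∈ centralizer (Z : Set G)) (hyZ : y ∉ Z) :
    ∃ x : G, IsPt Z x ∧ x ∈ centralizer (Z : Set G) ∧ x ∉ Z ∧ t2 * x = x * t2 := by
  classical
  haveI : Fact (Nat.Prime 3) := ⟨Nat.prime_three⟩
  have h := F.set
  obtain ⟨-, -, -, hyQ, hy3, -⟩ := F.pt_side hpt hyC hyZ
  obtain ⟨hn1, hn2⟩ := F.nontriv hpt hyC hyZ
  have hP := F.pgroup_zpowers hy3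
  have hPC : zpowers y ≤ centralizer (Z : Set G) := zpowers_le.2 hyC
  obtain ⟨a1, h1⟩ := F.exists_flag' hP hPC
  obtain ⟨a2, h2⟩ := F.symm.exists_flag' hP hPC
  have hgood := F.good hpt hyC hyZ hP hPC (mem_zpowers y) h1 h2
  set A1 := Z ⊔ zpowers a1 with hA1d
  set A2 := Z ⊔ zpowers a2 with hA2d
  set B := A1 ⊔ A2 with hB
  have hA1 : A1 ≤ Q1 := sup_le F.pair.Z1 (zpowers_le.2 h1.mem)
  have hA2 : A2 ≤ Q2 := sup_le F.pair.Z2 (zpowers_le.2 h2.mem)
  have hBQ : B ≤ Q := sup_le (hA1.trans F.pair.le1) (hA2.trans F.pair.le2)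
  have hZB : Z ≤ B := le_sup_left.trans le_sup_left
  have ht2C : t2 ∈ centralizer (Z : Set G) := F.L2_le F.t2_mem
  have ht22 : t2 * t2 = 1 := by rw [← pow_two, ← F.t2_two, pow_orderOf_eq_one]
  have ti : t2⁻¹ = t2 := inv_eq_of_mul_eq_one_right ht22
  have hfix1 : ∀ x ∈ Q1, t2 * x * t2⁻¹ = x := fun x hx => by
    rw [← mem_centralizer_iff.1 (F.L2_cent F.t2_mem) x hx, mul_inv_cancel_right]
  have hinv2 : ∀ x ∈ Q2, t2 * x * t2⁻¹ * x ∈ Z := F.t2_inv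
  have htB : ∀ v ∈ B, t2 * v * t2⁻¹ ∈ B := by
    intro v hv
    have hle : B ≤ B.comap (MulAut.conj t2).toMonoidHom := by
      refine sup_le (fun w hw => ?_) (sup_le (fun w hw => ?_) (zpowers_le.2 ?_))
      · show t2 * w * t2⁻¹ ∈ B
        rw [hfix1 w (hA1 hw)]; exact mem_sup_left hw
      · show t2 * w * t2⁻¹ ∈ B
        rw [h.conj_Z ht2C hw]; exact hZB hw
      · show t2 * a2 * t2⁻¹ ∈ B
        rw [show t2 * a2 * t2⁻¹ = t2 * a2 * t2⁻¹ * a2 * a2⁻¹ by group]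
        exact mul_mem (hZB (hinv2 a2 h2.mem)) (inv_mem (mem_sup_right (mem_sup_right (mem_zpowers a2))))
    exact hle hv
  have hyB : ∀ v ∈ B, y * v * y⁻¹ = v := fun v hv => (mem_Fx.1 (hgood.ge hv)).2
  set q' := y⁻¹ * (t2 * y * t2⁻¹) with hq'
  have hq'C : q' ∈ centralizer (Z : Set G) := mul_mem (inv_mem hyC) (mul_mem (mul_mem ht2C hyC) (inv_mem ht2C))
  have hT1 : Triv Z Q1 q' := by
    intro x hx
    have hyx := F.conj_mem1 hP hPC (mem_zpowers y) hx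
    have e : q' * x * q'⁻¹ = x := by
      calc q' * x * q'⁻¹ = y⁻¹ * (t2 * (y * (t2⁻¹ * x * t2) * y⁻¹) * t2⁻¹) * y := by rw [hq']; group
        _ = y⁻¹ * (t2 * (y * x * y⁻¹) * t2⁻¹) * y := by
          rw [show t2⁻¹ * x * t2 = x by
            conv_lhs => rw [← hfix1 x hx]
            group]
        _ = x := by rw [hfix1 _ hyx]; group
    rw [e, inv_mul_cancel]; exact one_mem _
  have hT2 : Triv Z Q2 q' := by
    intro x hx
    set s := x⁻¹ * (y * x * y⁻¹) with hs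
    have hsA : s ∈ A2 := h2.move y (mem_zpowers y) x hx
    set zx := t2 * x * t2⁻¹ * x with hzx
    set zs := t2 * s * t2⁻¹ * s with hzs
    have hzxZ : zx ∈ Z := hinv2 x hx
    have hzsZ : zs ∈ Z := hinv2 s (hA2 hsA)
    have e1 : y * x * y⁻¹ = x * s := by rw [hs, mul_inv_cancel_left]
    have e2 : t2 * x * t2⁻¹ = zx * x⁻¹ := by rw [hzx]; group
    have e2' : t2⁻¹ * x * t2 = zx * x⁻¹ := by rw [← e2, ti]
    have e3 : t2 * (zx * s⁻¹ * x⁻¹) * t2⁻¹ = zx * (zs⁻¹ * zx⁻¹) * ⁅s, x⁆ * (x * s) := by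
      have a1 : t2 * s⁻¹ * t2⁻¹ = s * zs⁻¹ := by rw [hzs]; group
      have a2 : t2 * x⁻¹ * t2⁻¹ = x * zx⁻¹ := by rw [hzx]; group
      have hxQ := F.pair.le2 hx
      have hsQ := F.pair.le2 (hA2 hsA)
      calc t2 * (zx * s⁻¹ * x⁻¹) * t2⁻¹ =
          (t2 * zx * t2⁻¹) * (t2 * s⁻¹ * t2⁻¹) * (t2 * x⁻¹ * t2⁻¹) := by group
        _ = zx * (s * zs⁻¹) * (x * zx⁻¹) := by rw [h.conj_Z ht2C hzxZ, a1, a2]
        _ = zx * (zs⁻¹ * s) * (zx⁻¹ * x) := by
          rw [h.comm_Z hsQ (inv_mem hzsZ), h.comm_Z hxQ (inv_mem hzxZ)]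
        _ = zx * zs⁻¹ * (s * zx⁻¹) * x := by group
        _ = zx * zs⁻¹ * (zx⁻¹ * s) * x := by rw [h.comm_Z hsQ (inv_mem hzxZ)]
        _ = _ := by rw [commutatorElement_def]; group
    set w := zx * (zs⁻¹ * zx⁻¹) * ⁅s, x⁆ with hw
    have hwZ : w ∈ Z := mul_mem (mul_mem hzxZ (mul_mem (inv_mem hzsZ) (inv_mem hzxZ)))
      (h.comm_mem (F.pair.le2 (hA2 hsA)) (F.pair.le2 hx))
    have e4 : q' * x * q'⁻¹ = w * x := by
      calc q' * x * q'⁻¹ = y⁻¹ * (t2 * (y * (t2⁻¹ * x * t2) * y⁻¹) * t2⁻¹) * y := by rw [hq']; group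
        _ = y⁻¹ * (t2 * ((y * zx * y⁻¹) * (y * x * y⁻¹)⁻¹) * t2⁻¹) * y := by rw [e2']; group
        _ = y⁻¹ * (t2 * (zx * s⁻¹ * x⁻¹) * t2⁻¹) * y := by rw [h.conj_Z hyC hzxZ, e1]; group
        _ = y⁻¹ * (w * (y * x * y⁻¹)) * y := by rw [e3, e1]
        _ = (y⁻¹ * w * y⁻¹⁻¹) * x := by group
        _ = w * x := by rw [h.conj_Z (inv_mem hyC) hwZ]
    rw [e4, h.comm_Z (F.pair.le2 hx) hwZ, inv_mul_cancel_left]
    exact hwZ
  have hq'Q : q' ∈ Q := F.mem_Q_of_triv hq'C hT1 hT2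
  have hq'B : q' ∈ B := F.cent_flags h1 h2 hq'Q fun w hw => by
    have e : t2 * (y * (t2⁻¹ * w * t2) * y⁻¹) * t2⁻¹ = w := by
      rw [hyB _ (by rw [ti]; have := htB w hw; rwa [ti] at this)]; group
    have : q' * w * q'⁻¹ = w := by
      calc q' * w * q'⁻¹ = y⁻¹ * (t2 * (y * (t2⁻¹ * w * t2) * y⁻¹) * t2⁻¹) * y := by rw [hq']; group
        _ = y⁻¹ * (y * w * y⁻¹) * y := by rw [e, hyB w hw]
        _ = w := by group
    exact mul_inv_eq_iff_eq_mul.1 this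
  -- a conjugate of `y` with the wanted class modulo `Z`
  have horb := F.shift_mem_flags hP hPC (mem_zpowers y) h1 h2
  haveI : (Z.subgroupOf B).Normal := normal_subgroupOf_of_le_normalizer
    (fun u hu => Subgroup.mem_normalizer_fintype fun w hw => by
      rw [SetLike.mem_coe, ← h.comm_Z (hBQ hu) hw, mul_inv_cancel_right]; exact hw)
  set Ws := (Fx Q y).subgroupOf Q with hWs
  let ψ : ↥Q ⧸ Ws → ↥B ⧸ Z.subgroupOf B := fun p =>
    QuotientGroup.mk ⟨y⁻¹ * (((Quotient.out p : ↥Q) : G) * y * ((Quotient.out p : ↥Q) : G)⁻¹),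
      horb _ (Quotient.out p).2⟩
  have hψi : Function.Injective ψ := by
    intro p p' e
    rw [← Quotient.out_eq p, ← Quotient.out_eq p']
    refine QuotientGroup.eq.2 ?_
    have e' := QuotientGroup.eq.1 e
    rw [mem_subgroupOf] at e'
    simp only [Subgroup.coe_mul, Subgroup.coe_inv] at e'
    set u := ((Quotient.out p : ↥Q) : G) with hu
    set v := ((Quotient.out p' : ↥Q) : G) with hv
    show u⁻¹ * v ∈ Fx Q y
    have huQ : u ∈ Q := (Quotient.out p).2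
    have hvQ : v ∈ Q := (Quotient.out p').2
    set zd := (y⁻¹ * (u * y * u⁻¹))⁻¹ * (y⁻¹ * (v * y * v⁻¹)) with hzd
    set w := u⁻¹ * v with hw
    have hwQ : w ∈ Q := mul_mem (inv_mem huQ) hvQ
    have e1 : w * y * w⁻¹ = y * zd := by
      calc w * y * w⁻¹ = u⁻¹ * ((u * y * u⁻¹) * zd) * u := by rw [hw, hzd]; group
        _ = y * (u⁻¹ * zd * u⁻¹⁻¹) := by group
        _ = y * zd := by rw [h.conj_Z (inv_mem (h.Q_le huQ)) e']
    have hmem : w⁻¹ ∈ h.Mt y hyC := by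
      refine ⟨inv_mem hwQ, ?_⟩
      have e3 : w⁻¹⁻¹ * (y * w⁻¹ * y⁻¹) = y * zd * y⁻¹ := by rw [← e1]; group
      rw [e3, h.conj_Z hyC e']
      exact e'
    have h' := F.Fx_le_flags hP hPC (mem_zpowers y) h1 h2 hn1 hn2 hmem
    rw [hgood]
    exact inv_inv w ▸ inv_mem h'
  have hBc : Nat.card (↥B ⧸ Z.subgroupOf B) = 9 := by
    have := card_eq_card_quotient_mul_card_subgroup (Z.subgroupOf B)
    rw [Nat.card_congr (subgroupOfEquivOfLe hZB).toEquiv, h.Z_card, F.card_flags h1 h2] at this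
    omega
  have hQc : Nat.card (↥Q ⧸ Ws) = 9 := by
    have := card_eq_card_quotient_mul_card_subgroup Ws
    rw [show Nat.card ↥Ws = 27 from (Nat.card_congr (subgroupOfEquivOfLe (inf_le_left : Fx Q y ≤ Q)).toEquiv).trans
      (F.card_Fx_pt hpt hyC hyZ), h.Q_card] at this
    omega
  obtain ⟨p, hp⟩ := ((Nat.bijective_iff_injective_and_card ψ).2 ⟨hψi, hQc.trans hBc.symm⟩).2
    (QuotientGroup.mk ⟨q' * q', mul_mem hq'B hq'B⟩)
  set u := ((Quotient.out p : ↥Q) : G) with hu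
  set y1 := u * y * u⁻¹ with hy1
  set zd := (y⁻¹ * (u * y * u⁻¹))⁻¹ * (q' * q') with hzd
  have hzdZ : zd ∈ Z := by
    have := QuotientGroup.eq.1 hp
    rw [mem_subgroupOf] at this
    exact this
  have huQ : u ∈ Q := (Quotient.out p).2
  -- the translate by `t2` is the same modulo `Z`, hence equal
  have e0 : t2 * y * t2⁻¹ = y * q' := by rw [hq', mul_inv_cancel_left]
  have hqq : t2 * q' * t2⁻¹ * q' ∈ Z := by
    have : y = y * q' * (t2 * q' * t2⁻¹) := by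
      calc y = (t2 * t2) * y * (t2 * t2)⁻¹ := by rw [ht22]; group
        _ = t2 * (t2 * y * t2⁻¹) * t2⁻¹ := by group
        _ = (t2 * y * t2⁻¹) * (t2 * q' * t2⁻¹) := by conv_lhs => rw [e0]
                                                     group
        _ = _ := by rw [e0]
    rw [mul_assoc, left_eq_mul] at this
    rw [mul_eq_one_comm] at this
    rw [this]; exact one_mem _
  have hy1v : y1 = y * (q' * q' * zd⁻¹) := by rw [hy1, hzd]; group
  have hwZ : ∃ w ∈ Z, t2 * y1 * t2⁻¹ = y1 * w := by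
    set k := t2 * q' * t2⁻¹ * q' with hk
    have ek : t2 * q' * t2⁻¹ = k * q'⁻¹ := by rw [hk]; group
    have hq3 : q' * q' * q' = 1 := by rw [← pow_two, ← pow_succ]; exact F.cube q' hq'Q
    refine ⟨k * k, mul_mem hqq hqq, ?_⟩
    rw [hy1v]
    have hkc : ∀ x ∈ Q, k * x = x * k := fun x hx => h.comm_Z hx hqq
    have hqi : q'⁻¹ = q' * q' := inv_eq_of_mul_eq_one_right (by rw [← mul_assoc, hq3])
    calc t2 * (y * (q' * q' * zd⁻¹)) * t2⁻¹ =
        (t2 * y * t2⁻¹) * (t2 * q' * t2⁻¹) * (t2 * q' * t2⁻¹) * (t2 * zd⁻¹ * t2⁻¹) := by group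
      _ = y * q' * (k * q'⁻¹) * (k * q'⁻¹) * zd⁻¹ := by rw [e0, ek, h.conj_Z ht2C (inv_mem hzdZ)]
      _ = y * (q' * (k * q'⁻¹) * (k * q'⁻¹) * zd⁻¹) := by group
      _ = y * (q' * q'⁻¹ * q'⁻¹ * (k * k) * zd⁻¹) := by
        rw [hkc _ (inv_mem hq'Q)]
        rw [show q' * (q'⁻¹ * k) * (q'⁻¹ * k) = q' * q'⁻¹ * (k * q'⁻¹) * k by group, hkc _ (inv_mem hq'Q)]
        group
      _ = y * (q'⁻¹ * (k * k) * zd⁻¹) := by group
      _ = y * (q' * q' * zd⁻¹) * (k * k) := by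
        rw [mul_assoc q'⁻¹ (k * k), h.comm_Z (h.Z_le (inv_mem hzdZ)) (mul_mem hqq hqq), hqi]; group
  obtain ⟨w, hw, hty⟩ := hwZ
  have hw1 : w = 1 := by
    have : y1 = y1 * (w * w) := by
      calc y1 = (t2 * t2) * y1 * (t2 * t2)⁻¹ := by rw [ht22]; group
        _ = (t2 * y1 * t2⁻¹) * (t2 * w * t2⁻¹) := by
          rw [show t2 * t2 * y1 * (t2 * t2)⁻¹ = t2 * (t2 * y1 * t2⁻¹) * t2⁻¹ by group]
          conv_lhs => rw [hty]
          group
        _ = y1 * (w * w) := by rw [h.conj_Z ht2C hw, hty, mul_assoc]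
    rw [left_eq_mul] at this
    have h3 := h.Z_cube hw
    rwa [pow_succ, pow_two, this, one_mul] at h3
  rw [hw1, mul_one] at hty
  have hy1C : y1 ∈ centralizer (Z : Set G) := mul_mem (mul_mem (h.Q_le huQ) hyC) (inv_mem (h.Q_le huQ))
  refine ⟨y1, hpt.conj u, hy1C, fun hz => hyZ ?_, mul_inv_eq_iff_eq_mul.1 hty⟩
  have := h.conj_Z (inv_mem (h.Q_le huQ)) hz
  rw [hy1, show u⁻¹ * (u * y * u⁻¹) * u⁻¹⁻¹ = y by group] at this
  exact this ▸ hz

/-- The local data, for any order of the Sylow 3-subgroup. -/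
theorem exists_core (hpt : IsPt Z y) (hyC : y ∈ centralizer (Z : Set G)) (hyZ : y ∉ Z) :
    ∃ E z x a1 a2, Core Z Q Q1 Q2 L1 L2 E t1 t2 z x a1 a2 := by
  haveI : Fact (Nat.Prime 3) := ⟨Nat.prime_three⟩
  obtain ⟨x, hxpt, hxC, hxZ, hxt⟩ := F.exists_fixed_pt hpt hyC hyZ
  obtain ⟨z, hz, hz1⟩ := F.set.exists_z
  obtain ⟨-, -, -, -, hx3, -⟩ := F.pt_side hxpt hxC hxZ
  have hP := F.pgroup_zpowers hx3
  have hPC : zpowers x ≤ centralizer (Z : Set G) := zpowers_le.2 hxC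
  obtain ⟨a1, h1⟩ := F.exists_flag' hP hPC
  obtain ⟨a2, h2⟩ := F.symm.exists_flag' hP hPC
  obtain ⟨hc, he⟩ := F.comm_E hxpt hxC hxZ
  exact ⟨_, z, x, a1, a2, F, hz, hz1, hxpt, hxC, hxZ, hxt, h1, h2, rfl, F.card_E hxpt hxC hxZ, hc, he,
    fun g hg => F.other_side hxpt hxC hxZ hz hz1 hg, fun M hM hM' => F.hyper hxpt hxC hxZ hM hM',
    fun K hK hN => F.signal hxpt hxC hxZ hK hN⟩

/-- All the local data. -/
theorem exists_local (hs : Small Z) (hpt : IsPt Z y) (hyC : y ∈ centralizer (Z : Set G)) (hyZ : y ∉ Z) :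
    ∃ E z x a1 a2, Local Z Q Q1 Q2 L1 L2 E t1 t2 z x a1 a2 := by
  obtain ⟨E, z, x, a1, a2, C⟩ := F.exists_core hpt hyC hyZ
  exact ⟨E, z, x, a1, a2, C.frame, hs, C.z_mem, C.z_ne, C.pt, C.y_cent, C.y_not, C.y_t2, C.flag1, C.flag2,
    C.E_eq, C.E_card, C.E_comm, C.E_exp, C.other, C.hyper, C.sig⟩

end Frame

end Cfsg.Agent.UThreeLocal
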