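import Cfsg.Agent.Lib.UThreeLocal.Loc.Transport

/-!
# Flags, the group fixed modulo `Z` and the orbit of an element under `Q`
-/

set_option autoImplicit false
set_option linter.unusedSectionVars false
set_option linter.style.haveILetI false

namespace Cfsg.Agent.UThreeLocal

open Subgroup
open scoped commutatorElement

universe u

variable {G : Type u} [Group G] [Finite G]

/-- `P` fixes `aZ` and moves `R` into `Z⟨a⟩`. -/
structure Flag (Z R P : Subgroup G) (a : G) : Prop where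
  mem : a ∈ R
  notZ : a ∉ Z
  fix : ∀ c ∈ P, a⁻¹ * (c * a * c⁻¹) ∈ Z
  move : ∀ c ∈ P, ∀ x ∈ R, x⁻¹ * (c * x * c⁻¹) ∈ Z ⊔ zpowers a

variable {Z Q Q1 Q2 L1 L2 : Subgroup G} {t1 t2 : G}

namespace Setting

variable (h : Setting Z Q)
include h

/-- The elements of `Q` fixed by `y` modulo `Z`. -/
def Mt (y : G) (hy : y ∈ centralizer (Z : Set G)) : Subgroup G where
  carrier := {x | x ∈ Q ∧ x⁻¹ * (y * x * y⁻¹) ∈ Z}
  one_mem' := ⟨one_mem _, by simp⟩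
  mul_mem' := by
    rintro u w ⟨huQ, hu⟩ ⟨hwQ, hw⟩
    refine ⟨mul_mem huQ hwQ, ?_⟩
    rw [shift_mul_right, mul_assoc w⁻¹, h.comm_Z hwQ hu, inv_mul_cancel_left]
    exact mul_mem hu hw
  inv_mem' := by
    rintro u ⟨huQ, hu⟩
    refine ⟨inv_mem huQ, ?_⟩
    rw [show u⁻¹⁻¹ * (y * u⁻¹ * y⁻¹) = u * (u⁻¹ * (y * u * y⁻¹))⁻¹ * u⁻¹ by group,
      ← h.comm_Z huQ (inv_mem hu), mul_inv_cancel_right]
    exact inv_mem hu

variable {y : G}

theorem mem_Mt (hy : y ∈ centralizer (Z : Set G)) {x : G} :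
    x ∈ h.Mt y hy ↔ x ∈ Q ∧ x⁻¹ * (y * x * y⁻¹) ∈ Z := Iff.rfl

theorem Fx_le_Mt (hy : y ∈ centralizer (Z : Set G)) : Fx Q y ≤ h.Mt y hy := fun x hx => by
  obtain ⟨hxQ, hxe⟩ := mem_Fx.1 hx
  exact ⟨hxQ, by rw [hxe, inv_mul_cancel]; exact one_mem _⟩

theorem card_Mt_le (hy : y ∈ centralizer (Z : Set G)) :
    Nat.card ↥(h.Mt y hy) ≤ 3 * Nat.card ↥(Fx Q y) := by
  classical
  set W := (Fx Q y).subgroupOf (h.Mt y hy) with hW
  let f : ↥(h.Mt y hy) ⧸ W → ↥Z := fun p =>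
    ⟨((Quotient.out p : ↥(h.Mt y hy)) : G)⁻¹ * (y * (Quotient.out p : ↥(h.Mt y hy)) * y⁻¹), (Quotient.out p).2.2⟩
  have hf : Function.Injective f := by
    intro p p' e
    rw [← Quotient.out_eq p, ← Quotient.out_eq p']
    refine QuotientGroup.eq.2 ?_
    set u := ((Quotient.out p : ↥(h.Mt y hy)) : G) with hu
    set v := ((Quotient.out p' : ↥(h.Mt y hy)) : G) with hv
    show u⁻¹ * v ∈ Fx Q y
    have e' : u⁻¹ * (y * u * y⁻¹) = v⁻¹ * (y * v * y⁻¹) := congrArg Subtype.val e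
    have hd := (Quotient.out p).2.2
    set d := u⁻¹ * (y * u * y⁻¹) with hd'
    have e1 : y * u * y⁻¹ = u * d := by rw [hd', mul_inv_cancel_left]
    have e2 : y * v * y⁻¹ = v * d := by rw [e', mul_inv_cancel_left]
    refine mem_Fx.2 ⟨mul_mem (inv_mem (Quotient.out p).2.1) (Quotient.out p').2.1, ?_⟩
    calc y * (u⁻¹ * v) * y⁻¹ = (y * u * y⁻¹)⁻¹ * (y * v * y⁻¹) := by group
      _ = d⁻¹ * (u⁻¹ * v) * d := by rw [e1, e2]; group
      _ = u⁻¹ * v := by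
        rw [h.comm_Z (mul_mem (inv_mem (Quotient.out p).2.1) (Quotient.out p').2.1) (inv_mem hd),
          inv_mul_cancel_right]
  have h1 := Nat.card_le_card_of_injective f hf
  rw [h.Z_card] at h1
  rw [card_eq_card_quotient_mul_card_subgroup W, Nat.card_congr (subgroupOfEquivOfLe (h.Fx_le_Mt hy)).toEquiv]
  exact Nat.mul_le_mul_right _ h1

/-- The orbit of `y` under `Q`. -/
theorem orbit {B : Subgroup G} (hB : ∀ q ∈ Q, y⁻¹ * (q * y * q⁻¹) ∈ B) :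
    243 ≤ Nat.card ↥B * Nat.card ↥(Fx Q y) ∧
      (Nat.card ↥B * Nat.card ↥(Fx Q y) = 243 → ∀ b ∈ B, ∃ q ∈ Q, q * y * q⁻¹ = y * b) := by
  classical
  set W := (Fx Q y).subgroupOf Q with hW
  let f : ↥Q ⧸ W → ↥B := fun p =>
    ⟨y⁻¹ * ((Quotient.out p : ↥Q) * y * ((Quotient.out p : ↥Q) : G)⁻¹), hB _ (Quotient.out p).2⟩
  have hf : Function.Injective f := by
    intro p p' e
    rw [← Quotient.out_eq p, ← Quotient.out_eq p']
    refine QuotientGroup.eq.2 ?_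
    set u := ((Quotient.out p : ↥Q) : G) with hu
    set v := ((Quotient.out p' : ↥Q) : G) with hv
    show u⁻¹ * v ∈ Fx Q y
    have e' : u * y * u⁻¹ = v * y * v⁻¹ := mul_left_cancel (congrArg Subtype.val e)
    refine mem_inf.2 ⟨mul_mem (inv_mem (Quotient.out p).2) (Quotient.out p').2, mem_centralizer_singleton_iff.2 ?_⟩
    calc u⁻¹ * v * y = u⁻¹ * (v * y * v⁻¹) * v := by group
      _ = u⁻¹ * (u * y * u⁻¹) * v := by rw [e']
      _ = y * (u⁻¹ * v) := by group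
  have hq : Nat.card (↥Q ⧸ W) * Nat.card ↥(Fx Q y) = 243 := by
    rw [← Nat.card_congr (subgroupOfEquivOfLe (inf_le_left : Fx Q y ≤ Q)).toEquiv,
      ← card_eq_card_quotient_mul_card_subgroup W, h.Q_card]
  refine ⟨hq ▸ Nat.mul_le_mul_right _ (Nat.card_le_card_of_injective f hf), fun heq b hb => ?_⟩
  have hc : Nat.card (↥Q ⧸ W) = Nat.card ↥B :=
    Nat.eq_of_mul_eq_mul_right Nat.card_pos (hq.trans heq.symm)
  obtain ⟨p, hp⟩ := ((Nat.bijective_iff_injective_and_card f).2 ⟨hf, hc⟩).2 ⟨b, hb⟩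
  refine ⟨_, (Quotient.out p).2, ?_⟩
  rw [← show y⁻¹ * (((Quotient.out p : ↥Q) : G) * y * ((Quotient.out p : ↥Q) : G)⁻¹) = b from congrArg Subtype.val hp,
    mul_inv_cancel_left]

end Setting

namespace Frame

variable (F : Frame Z Q Q1 Q2 L1 L2 t1 t2)
include F

theorem exists_flag' {P : Subgroup G} (hP : IsPGroup 3 ↥P) (hPC : P ≤ centralizer (Z : Set G)) :
    ∃ a, Flag Z Q1 P a := by
  obtain ⟨a, h1, h2, h3, h4⟩ := F.exists_flag hP hPC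
  exact ⟨a, h1, h2, h3, h4⟩

theorem card_flag {P : Subgroup G} {a : G} (hf : Flag Z Q1 P a) : Nat.card ↥(Z ⊔ zpowers a) = 9 := by
  haveI : Fact (Nat.Prime 3) := ⟨Nat.prime_three⟩
  obtain ⟨b, hb, hab⟩ := F.pair.exists_noncomm F.set hf.mem hf.notZ
  have hAQ1 : Z ⊔ zpowers a ≤ Q1 := sup_le F.pair.Z1 (zpowers_le.2 hf.mem)
  obtain ⟨k, hk, ek⟩ := (Nat.dvd_prime_pow Nat.prime_three).1 (show Nat.card ↥(Z ⊔ zpowers a) ∣ 3 ^ 3 by
    rw [show (3 : ℕ) ^ 3 = Nat.card Q1 by rw [F.pair.card1]; norm_num]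
    exact card_dvd_of_le hAQ1)
  have hk3 : k ≠ 3 := fun e => by
    have hbA : b ∈ Z ⊔ zpowers a :=
      (Subgroup.eq_of_le_of_card_ge hAQ1 (by rw [ek, e, F.pair.card1]; norm_num)).ge hb
    rw [← F.pair.cent_eq F.set hf.mem hf.notZ] at hbA
    exact hab (mem_centralizer_singleton_iff.1 hbA.2).symm
  have hk2 : 2 ≤ k := by
    by_contra hlt
    exact hf.notZ ((Subgroup.eq_of_le_of_card_ge le_sup_left (by
      rw [ek, F.set.Z_card]
      calc 3 ^ k ≤ 3 ^ 1 := Nat.pow_le_pow_right (by norm_num) (by omega)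
        _ = 3 := by norm_num)).ge (mem_sup_right (mem_zpowers a)))
  obtain rfl : k = 2 := by omega
  rw [ek]; norm_num

/-- An element of `Q1` fixed modulo `Z` by a nontrivial `y` lies on the flag. -/
theorem mem_flag {P : Subgroup G} {a : G} (hf : Flag Z Q1 P a) {y : G} (hyP : y ∈ P)
    (hy : y ∈ centralizer (Z : Set G)) (hn : ¬ Triv Z Q1 y) {u : G} (hu : u ∈ Q1)
    (huf : u⁻¹ * (y * u * y⁻¹) ∈ Z) : u ∈ Z ⊔ zpowers a := by
  haveI : Fact (Nat.Prime 3) := ⟨Nat.prime_three⟩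
  by_contra hnot
  have h := F.set
  set M := Q1 ⊓ h.Mt y hy with hM
  have hAM : Z ⊔ zpowers a ≤ M := sup_le
    (fun z hz => mem_inf.2 ⟨F.pair.Z1 hz, h.Z_le hz, by rw [h.conj_Z hy hz, inv_mul_cancel]; exact one_mem _⟩)
    (zpowers_le.2 (mem_inf.2 ⟨hf.mem, F.pair.le1 hf.mem, hf.fix y hyP⟩))
  obtain ⟨k, hk, ek⟩ := (Nat.dvd_prime_pow Nat.prime_three).1 (show Nat.card ↥M ∣ 3 ^ 3 by
    rw [show (3 : ℕ) ^ 3 = Nat.card Q1 by rw [F.pair.card1]; norm_num]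
    exact card_dvd_of_le inf_le_left)
  have hlt : Nat.card ↥(Z ⊔ zpowers a) < Nat.card ↥M :=
    lt_of_le_of_ne (Subgroup.card_le_of_le hAM) fun e => hnot
      ((Subgroup.eq_of_le_of_card_ge hAM e.ge).ge (mem_inf.2 ⟨hu, F.pair.le1 hu, huf⟩))
  rw [F.card_flag hf, ek] at hlt
  have h3 : 3 ≤ k := by
    by_contra hk2
    have : 3 ^ k ≤ 3 ^ 2 := Nat.pow_le_pow_right (by norm_num) (by omega)
    omega
  obtain rfl : k = 3 := by omega
  have hMQ : M = Q1 := Subgroup.eq_of_le_of_card_ge inf_le_left (by rw [ek, F.pair.card1]; norm_num)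
  exact hn fun x hx => (mem_inf.1 (hMQ.ge hx)).2.2

/-- The shift of a product `uv`, `u ∈ Q1`, `v ∈ Q2`. -/
theorem shift_dec {c u v : G} (hN : c * u * c⁻¹ ∈ Q1) (hu : u ∈ Q1) (hv : v ∈ Q2) :
    (u * v)⁻¹ * (c * (u * v) * c⁻¹) = (u⁻¹ * (c * u * c⁻¹)) * (v⁻¹ * (c * v * c⁻¹)) := by
  rw [shift_mul_right, mul_assoc v⁻¹, F.pair.comm _ (mul_mem (inv_mem hu) hN) v hv, inv_mul_cancel_left]

theorem conj_mem1 {P : Subgroup G} (hP : IsPGroup 3 ↥P) (hPC : P ≤ centralizer (Z : Set G)) {c x : G}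
    (hc : c ∈ P) (hx : x ∈ Q1) : c * x * c⁻¹ ∈ Q1 := by
  obtain ⟨k, hk⟩ := hP ⟨c, hc⟩
  exact ((F.normal_of_three (hPC hc) (k := k) (by simpa using congrArg Subtype.val hk)).1 x).1 hx

/-- The conjugates of an element under `Q` stay in `yB` if its inverse shifts `Q` into `B`. -/
theorem orbit_mem {y : G} {B : Subgroup G} (hBQ : B ≤ Q) (hZB : Z ≤ B)
    (hs : ∀ q ∈ Q, q⁻¹ * (y⁻¹ * q * y⁻¹⁻¹) ∈ B) : ∀ q ∈ Q, y⁻¹ * (q * y * q⁻¹) ∈ B := fun q hq => by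
  have h1 := (mem_normalizer_iff.1 (F.set.normal_of_Z_le hBQ hZB hq) _).1 (hs q hq)
  convert h1 using 1; group

/-- Commutators inside a 3-subgroup of `C(Z)` lie in `Q`. -/
theorem comm_mem_Q {P : Subgroup G} (hP : IsPGroup 3 ↥P) (hPC : P ≤ centralizer (Z : Set G)) {c d : G}
    (hc : c ∈ P) (hd : d ∈ P) : ⁅c, d⁆ ∈ Q := by
  obtain ⟨χ, hχ⟩ := F.exists_char hP hPC
  obtain ⟨ψ, hψ⟩ := F.symm.exists_char hP hPC
  have h1 : χ ⁅(⟨c, hc⟩ : ↥P), ⟨d, hd⟩⁆ = 1 := by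
    rw [map_commutatorElement, commutatorElement_eq_one_iff_mul_comm, mul_comm]
  have h2 : ψ ⁅(⟨c, hc⟩ : ↥P), ⟨d, hd⟩⁆ = 1 := by
    rw [map_commutatorElement, commutatorElement_eq_one_iff_mul_comm, mul_comm]
  exact F.mem_Q_of_triv (hPC (⁅(⟨c, hc⟩ : ↥P), (⟨d, hd⟩ : ↥P)⁆).2) ((hχ _).1 h1) ((hψ _).1 h2)

end Frame

end Cfsg.Agent.UThreeLocal
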