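import Cfsg.Agent.Lib.UThreeLocal.Loc.Elem

/-!
# `N(Z)` normalises `Q`; the transfer character of `N(Z)/Q(L₁×L₂)`
-/

set_option autoImplicit false
set_option linter.unusedSectionVars false
set_option linter.style.haveILetI false

namespace Cfsg.Agent.UThreeLocal

open Subgroup
open scoped commutatorElement

universe u

variable {G : Type u} [Group G] [Finite G] {Z Q Q1 Q2 L1 L2 : Subgroup G} {t1 t2 : G}

namespace Frame

variable (F : Frame Z Q Q1 Q2 L1 L2 t1 t2)
include F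

/-- A 3-subgroup of `C(Z)` normalised by `L1` acts trivially on `Q1/Z`. -/
theorem triv_of_normalised {P : Subgroup G} (hP : IsPGroup 3 ↥P) (hPC : P ≤ centralizer (Z : Set G))
    (hN : L1 ≤ normalizer (P : Set G)) : ∀ c ∈ P, Triv Z Q1 c := by
  have h := F.set
  obtain ⟨a, hf⟩ := F.exists_flag' hP hPC
  intro c hc x hx
  by_cases hxZ : x ∈ Z
  · rw [h.conj_Z (hPC hc) hxZ, inv_mul_cancel]; exact one_mem _
  obtain ⟨l, hl, z, hz, rfl⟩ := F.trans1 a hf.mem hf.notZ x hx hxZ
  have hlC := F.L1_le hl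
  have hc' : l⁻¹ * c * l ∈ P := by
    have := (mem_normalizer_iff.1 (inv_mem (hN hl)) c).1 hc
    rwa [inv_inv] at this
  have hcl := h.conj_Z hlC (hf.fix _ hc')
  have haQ := F.pair.le1 hf.mem
  have e1 : (l * a * l⁻¹ * z)⁻¹ * (c * (l * a * l⁻¹ * z) * c⁻¹) =
      z⁻¹ * (l * (a⁻¹ * (l⁻¹ * c * l * a * (l⁻¹ * c * l)⁻¹)) * l⁻¹) * (c * z * c⁻¹) := by group
  rw [e1, hcl, h.conj_Z (hPC hc) hz]
  exact mul_mem (mul_mem (inv_mem hz) (hf.fix _ hc')) hz

/-- `Q` is the largest normal 3-subgroup of `C(Z)`. -/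
theorem le_Q_of_normal {P : Subgroup G} (hP : IsPGroup 3 ↥P) (hPC : P ≤ centralizer (Z : Set G))
    (hN : centralizer (Z : Set G) ≤ normalizer (P : Set G)) : P ≤ Q := fun c hc =>
  F.mem_Q_of_triv (hPC hc) (F.triv_of_normalised hP hPC (F.L1_le.trans hN) c hc)
    (F.symm.triv_of_normalised hP hPC (F.L2_le.trans hN) c hc)

theorem normalizer_le_normalizer_Q : normalizer (Z : Set G) ≤ normalizer (Q : Set G) := by
  intro g hg
  have hcent : ∀ c ∈ centralizer (Z : Set G), g⁻¹ * c * g ∈ centralizer (Z : Set G) := by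
    intro c hc
    refine mem_centralizer_iff.2 fun z hz => ?_
    have hz' : g * z * g⁻¹ ∈ Z := (mem_normalizer_iff.1 hg z).1 hz
    have := mem_centralizer_iff.1 hc _ hz'
    calc z * (g⁻¹ * c * g) = g⁻¹ * ((g * z * g⁻¹) * c) * g := by group
      _ = g⁻¹ * c * g * z := by rw [this]; group
  have hle : cj g Q ≤ Q := by
    refine F.le_Q_of_normal (F.set.Q_pgroup.of_equiv (Q.equivMapOfInjective _ (MulAut.conj g).injective)) ?_ ?_
    · intro x hx
      refine mem_centralizer_iff.2 fun z hz => ?_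
      have h1 := F.set.Q_le (mem_cj.1 hx)
      have hz' : g⁻¹ * z * g ∈ Z := by
        have := (mem_normalizer_iff.1 (inv_mem hg) z).1 hz
        rwa [inv_inv] at this
      have := mem_centralizer_iff.1 h1 _ hz'
      calc z * x = g * ((g⁻¹ * z * g) * (g⁻¹ * x * g)) * g⁻¹ := by group
        _ = x * z := by rw [this]; group
    · intro c hc
      rw [cj_normalizer, mem_cj]
      exact F.set.Q_norm (hcent c hc)
  exact Subgroup.mem_normalizer_fintype fun x hx => hle (conj_mem_cj.2 hx)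

/-- The order of a 3-subgroup of `C(Z)`. -/
theorem card_three_le {P : Subgroup G} (hP : IsPGroup 3 ↥P) (hPC : P ≤ centralizer (Z : Set G)) :
    Nat.card ↥P ∣ 2187 := by
  classical
  haveI : Fact (Nat.Prime 3) := ⟨Nat.prime_three⟩
  obtain ⟨χ, hχ⟩ := F.exists_char hP hPC
  obtain ⟨ψ, hψ⟩ := F.symm.exists_char hP hPC
  have hk : (χ.prod ψ).ker.map P.subtype ≤ Q := by
    rintro _ ⟨x, hx, rfl⟩
    rw [SetLike.mem_coe, MonoidHom.mem_ker, MonoidHom.prod_apply, Prod.mk_eq_one] at hx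
    exact F.mem_Q_of_triv (hPC x.2) ((hχ x).1 hx.1) ((hψ x).1 hx.2)
  have h1 : Nat.card ↥(χ.prod ψ).ker ∣ 243 := by
    rw [← card_map_of_injective P.subtype_injective, ← F.set.Q_card]
    exact card_dvd_of_le hk
  have h2 : (χ.prod ψ).ker.index ∣ 9 := by
    rw [index_ker]
    have := card_subgroup_dvd_card (χ.prod ψ).range
    rw [Nat.card_prod] at this
    simpa using this
  rw [← (χ.prod ψ).ker.card_mul_index]
  exact Nat.mul_dvd_mul h1 h2

theorem Q_le_three {P : Subgroup G} (hP : IsPGroup 3 ↥P) (hPC : P ≤ centralizer (Z : Set G))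
    (hPc : Nat.card ↥P = 2187) : Q ≤ P := by
  haveI : Fact (Nat.Prime 3) := ⟨Nat.prime_three⟩
  have hp : IsPGroup 3 ↥(P ⊔ Q) :=
    IsPGroup.to_sup_of_normal_right' hP F.set.Q_pgroup (hPC.trans F.set.Q_norm)
  have h1 := F.card_three_le hp (sup_le hPC F.set.Q_le)
  have h2 : P = P ⊔ Q := Subgroup.eq_of_le_of_card_ge le_sup_left (by
    rw [hPc]; exact Nat.le_of_dvd (by norm_num) h1)
  exact h2 ▸ le_sup_right

theorem card_QL : Nat.card ↥(Q ⊔ (L1 ⊔ L2)) = 243 * 64 := by
  have h := F.set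
  have hL : Nat.card ↥(L1 ⊔ L2) * Nat.card ↥(L1 ⊓ L2) = 64 := by
    rw [card_sup_mul_inf (fun b hb => Subgroup.mem_normalizer_fintype fun a ha => by
      rw [SetLike.mem_coe, ← F.L_comm a ha b hb, mul_inv_cancel_right]; exact ha), F.L1_card, F.L2_card]
  have hi : L1 ⊓ L2 = ⊥ := by
    refine eq_bot_iff.2 fun x hx => ?_
    have hxQ : x ∈ Z := by
      rw [← h.cent]
      refine mem_centralizer_iff.2 fun q hq => ?_
      obtain ⟨a, ha, b, hb, rfl⟩ := F.pair.dec q hq
      rw [mul_assoc, mem_centralizer_iff.1 (F.L1_cent hx.1) b hb, ← mul_assoc,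
        mem_centralizer_iff.1 (F.L2_cent hx.2) a ha, mul_assoc]
    have h1 : orderOf x ∣ 3 := orderOf_dvd_of_pow_eq_one (h.Z_cube hxQ)
    have h2 : orderOf x ∣ 8 := F.L1_card ▸ Subgroup.orderOf_dvd_natCard (s := L1) hx.1
    rw [mem_bot, ← orderOf_eq_one_iff]
    exact Nat.dvd_one.1 (show orderOf x ∣ Nat.gcd 3 8 from Nat.dvd_gcd h1 h2)
  rw [hi, card_bot, mul_one] at hL
  have hc := card_sup_mul_inf (A := Q) (B := L1 ⊔ L2) ((sup_le F.L1_le F.L2_le).trans h.Q_norm)
  rw [disjoint_iff.1 (Subgroup.disjoint_of_coprime_natCard (H := Q) (K := L1 ⊔ L2) (by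
    rw [h.Q_card, hL]; norm_num)), card_bot, mul_one, h.Q_card, hL] at hc
  exact hc

/-- Either `N(Z)` has a character of order three that is not trivial on `P`, or only `Q` is centralised
modulo the normal subgroup `K`. -/
theorem exists_phi_or {P : Subgroup G} (hP : IsPGroup 3 ↥P) (hPC : P ≤ centralizer (Z : Set G))
    (hPc : Nat.card ↥P = 2187) {K : Subgroup G} (hKZ : K ≤ centralizer (Z : Set G))
    (hK : K = Q ⊔ (L1 ⊔ L2)) (hKn : normalizer (Z : Set G) ≤ normalizer (K : Set G)) :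
    (∃ φ : ↥(normalizer (Z : Set G)) →* Multiplicative (ZMod 3), ∃ c : ↥(normalizer (Z : Set G)),
      (c : G) ∈ P ∧ φ c ≠ 1) ∨
    ∀ c ∈ P, (∀ n ∈ normalizer (Z : Set G), ⁅n, c⁆ ∈ K) → c ∈ Q := by
  classical
  haveI : Fact (Nat.Prime 3) := ⟨Nat.prime_three⟩
  rw [or_iff_not_imp_right]
  intro hne
  push Not at hne
  obtain ⟨c, hc, hcK, hcQ⟩ := hne
  set N := normalizer (Z : Set G) with hN
  have hCN : centralizer (Z : Set G) ≤ N := Subgroup.centralizer_le_normalizer _
  haveI : (K.subgroupOf N).Normal := normal_subgroupOf_of_le_normalizer hKn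
  set π := QuotientGroup.mk' (K.subgroupOf N) with hπ
  have hQP := F.Q_le_three hP hPC hPc
  have hPN : P ≤ N := hPC.trans hCN
  -- the image of `P`
  have hKP : K ⊓ P ≤ Q := by
    have hdvd : Nat.card ↥(K ⊓ P) ∣ 243 := by
      obtain ⟨k, hk⟩ := IsPGroup.iff_card.1 (hP.to_le (inf_le_right : K ⊓ P ≤ P))
      have h1 : Nat.card ↥(K ⊓ P) ∣ 243 * 64 := F.card_QL ▸ hK ▸ card_dvd_of_le inf_le_left
      rw [hk] at h1 ⊢
      exact ((Nat.Coprime.pow_left k (by norm_num : Nat.Coprime 3 64))).dvd_of_dvd_mul_right h1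
    have hle : Q ≤ K ⊓ P := le_inf (hK ▸ le_sup_left) hQP
    exact (Subgroup.eq_of_le_of_card_ge hle (by rw [F.set.Q_card]; exact Nat.le_of_dvd (by norm_num) hdvd)).ge
  set c' : ↥N := ⟨c, hPN hc⟩ with hc'
  set S := (P.subgroupOf N).map π with hS
  have hSp : IsPGroup 3 ↥S := (hP.of_equiv (subgroupOfEquivOfLe hPN).symm).map π
  haveI hScomm : IsMulCommutative ↥S := by
    refine ⟨⟨fun u v => ?_⟩⟩
    obtain ⟨u', hu', eu⟩ := u.2
    obtain ⟨v', hv', ev⟩ := v.2
    apply Subtype.ext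
    rw [Subgroup.coe_mul, Subgroup.coe_mul, ← eu, ← ev, ← map_mul, ← map_mul]
    refine QuotientGroup.eq.2 ?_
    rw [mem_subgroupOf]
    simp only [Subgroup.coe_mul, Subgroup.coe_inv]
    have := F.comm_mem_Q hP hPC (inv_mem hv') (inv_mem hu')
    rw [commutatorElement_def, inv_inv, inv_inv] at this
    rw [show ((u' : G) * v')⁻¹ * ((v' : G) * u') = (v' : G)⁻¹ * (u' : G)⁻¹ * v' * u' by group]
    exact hK ▸ mem_sup_left this
  have hscent : π c' ∈ center (↥N ⧸ K.subgroupOf N) := by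
    refine mem_center_iff.2 fun g => ?_
    obtain ⟨n, rfl⟩ := QuotientGroup.mk'_surjective _ g
    rw [← map_mul, ← map_mul]
    refine QuotientGroup.eq.2 ?_
    rw [mem_subgroupOf]
    simp only [Subgroup.coe_mul, Subgroup.coe_inv, hc']
    have h1 := hcK (n : G) n.2
    have hcn : c ∈ N := hPN hc
    have h2 := (mem_normalizer_iff.1 (hKn (inv_mem (mul_mem hcn n.2))) _).1 (inv_mem h1)
    convert h2 using 1
    rw [commutatorElement_def]
    group
  have hs1 : π c' ≠ 1 := fun e => hcQ (hKP ⟨mem_subgroupOf.1 ((QuotientGroup.eq_one_iff c').1 e), hc⟩)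
  -- the index of the image of `P` is prime to three
  have hCidx : ¬ 3 ∣ ((centralizer (Z : Set G)).subgroupOf N).index := by
    intro h3
    have hle : Nat.card (↥N ⧸ (centralizer (Z : Set G)).subgroupOf N) ≤ 2 := by
      obtain ⟨z, hz, hz1⟩ := F.set.exists_z
      let f : ↥N ⧸ (centralizer (Z : Set G)).subgroupOf N → {x : ↥Z // x ≠ 1} := fun p =>
        ⟨⟨((Quotient.out p : ↥N) : G) * z * ((Quotient.out p : ↥N) : G)⁻¹,
          (mem_normalizer_iff.1 (Quotient.out p).2 z).1 hz⟩,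
          fun e => hz1 (conj_eq_one_iff.1 (congrArg Subtype.val e))⟩
      have hf : Function.Injective f := by
        intro p p' e
        rw [← Quotient.out_eq p, ← Quotient.out_eq p']
        refine QuotientGroup.eq.2 ?_
        set u := ((Quotient.out p : ↥N) : G) with hu
        set v := ((Quotient.out p' : ↥N) : G) with hv
        show u⁻¹ * v ∈ centralizer (Z : Set G)
        have e' : u * z * u⁻¹ = v * z * v⁻¹ :=
          congrArg (fun x : {x : ↥Z // x ≠ 1} => ((x : ↥Z) : G)) e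
        rw [← zpowers_eq_of_prime F.set.Z_card hz hz1, zpowers_eq_closure, centralizer_closure,
          mem_centralizer_singleton_iff]
        calc u⁻¹ * v * z = u⁻¹ * (v * z * v⁻¹) * v := by group
          _ = z * (u⁻¹ * v) := by rw [← e']; group
      refine le_trans (Nat.card_le_card_of_injective f hf) (le_of_eq ?_)
      haveI := Fintype.ofFinite ↥Z
      rw [Nat.card_eq_fintype_card, Fintype.card_subtype_compl, Fintype.card_subtype_eq,
        ← Nat.card_eq_fintype_card, F.set.Z_card]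
    rw [index_eq_card] at h3
    have hpos : 0 < Nat.card (↥N ⧸ (centralizer (Z : Set G)).subgroupOf N) := Nat.card_pos
    have := Nat.le_of_dvd hpos h3
    omega
  have hPidx : ¬ 3 ∣ (P.subgroupOf N).index := by
    rw [← relIndex, ← relIndex_mul_relIndex P _ N hPC hCN]
    intro h3
    rcases (Nat.Prime.dvd_mul Nat.prime_three).1 h3 with h | h
    · obtain ⟨T, hT⟩ := (hP.of_equiv (subgroupOfEquivOfLe hPC).symm).exists_le_sylow
      have hTc := F.card_three_le (T.2.map (centralizer (Z : Set G)).subtype) (map_subtype_le _)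
      rw [card_map_of_injective (centralizer (Z : Set G)).subtype_injective] at hTc
      have he : P.subgroupOf (centralizer (Z : Set G)) = (T : Subgroup _) :=
        Subgroup.eq_of_le_of_card_ge hT (by
          rw [Nat.card_congr (subgroupOfEquivOfLe hPC).toEquiv, hPc]
          exact Nat.le_of_dvd (by norm_num) hTc)
      rw [relIndex, he] at h
      exact T.not_dvd_index h
    · exact hCidx h
  have hSidx : ¬ 3 ∣ S.index := fun h3 =>
    hPidx (h3.trans (index_map_dvd _ (QuotientGroup.mk'_surjective _)))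
  -- a character of `S` and its transfer
  obtain ⟨χ, hχ⟩ := F.exists_char hP hPC
  obtain ⟨ψ, hψ⟩ := F.symm.exists_char hP hPC
  have hsel : ∃ η : ↥P →* Multiplicative (ZMod 3), η ⟨c, hc⟩ ≠ 1 ∧ ∀ x : ↥P, (x : G) ∈ Q → η x = 1 := by
    by_cases h1 : χ ⟨c, hc⟩ = 1
    · refine ⟨ψ, fun h2 => hcQ (F.mem_Q_of_triv (hPC hc) ((hχ _).1 h1) ((hψ _).1 h2)), fun x hx => ?_⟩
      exact (hψ x).2 (F.triv_Q hx F.pair.le2)
    · exact ⟨χ, h1, fun x hx => (hχ x).2 (F.triv_Q hx F.pair.le1)⟩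
  obtain ⟨η, hη1, hηQ⟩ := hsel
  let pb : ↥(P.subgroupOf N) →* ↥P := (subgroupOfEquivOfLe hPN).toMonoidHom
  let ps : ↥(P.subgroupOf N) →* ↥S := π.subgroupMap (P.subgroupOf N)
  have hps : Function.Surjective ps := MonoidHom.subgroupMap_surjective _ _
  have hker : ps.ker ≤ (η.comp pb).ker := by
    intro x hx
    rw [MonoidHom.mem_ker] at hx ⊢
    refine hηQ _ (hKP ⟨?_, x.2⟩)
    exact mem_subgroupOf.1 ((QuotientGroup.eq_one_iff (x : ↥N)).1 (congrArg Subtype.val hx))
  let η' : ↥S →* Multiplicative (ZMod 3) := ps.liftOfSurjective hps ⟨η.comp pb, hker⟩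
  have hη' : ∀ x, η' (ps x) = η (pb x) := fun x =>
    ps.liftOfRightInverse_comp_apply _ (Function.rightInverse_surjInv hps) ⟨η.comp pb, hker⟩ x
  refine ⟨(MonoidHom.transfer η').comp π, c', hc, ?_⟩
  show MonoidHom.transfer η' (π c') ≠ 1
  have key : ∀ (k : ℕ) (g₀ : ↥N ⧸ K.subgroupOf N), g₀⁻¹ * π c' ^ k * g₀ ∈ S →
      g₀⁻¹ * π c' ^ k * g₀ = π c' ^ k := fun k g₀ _ => by
    rw [mem_center_iff.1 ((Subgroup.center _).pow_mem hscent k) g₀⁻¹, mul_assoc, inv_mul_cancel, mul_one]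
  rw [MonoidHom.transfer_eq_pow η' (π c') key]
  set s0 : ↥S := ps ⟨c', mem_subgroupOf.2 hc⟩ with hs0
  have hval : (s0 : ↥N ⧸ K.subgroupOf N) = π c' := rfl
  rw [show (⟨π c' ^ S.index, MonoidHom.transfer_eq_pow_aux (π c') key⟩ : ↥S) = s0 ^ S.index from
    Subtype.ext (by rw [Subgroup.coe_pow, hval]), map_pow, hs0, hη']
  intro e
  have h3 : η (pb ⟨c', mem_subgroupOf.2 hc⟩) ^ 3 = 1 := by
    generalize η (pb ⟨c', mem_subgroupOf.2 hc⟩) = a
    have := pow_card_eq_one' (x := a)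
    simpa using this
  have := pow_gcd_eq_one.2 ⟨e, h3⟩
  rw [show Nat.gcd S.index 3 = 1 from ((Nat.Prime.coprime_iff_not_dvd Nat.prime_three).2 hSidx).symm, pow_one] at this
  exact hη1 this

end Frame

end Cfsg.Agent.UThreeLocal
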