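import Cfsg.Agent.Lib.UThreeLocal.Loc.Char

/-!
# `N(Z)` normalises `Q(L₁ × L₂)`
-/

set_option autoImplicit false
set_option linter.unusedSectionVars false
set_option linter.style.haveILetI false

namespace Cfsg.Agent.UThreeLocal

open Subgroup
open scoped commutatorElement

universe u

variable {G : Type u} [Group G] [Finite G] {Z Q Q1 Q2 L1 L2 : Subgroup G} {t1 t2 : G}

/-- In a group of order eight the commutators are involutions or trivial. -/
theorem comm_sq_of_card_eight {H : Type u} [Group H] [Finite H] (h8 : Nat.card H = 8) (a b : H) :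
    ⁅a, b⁆ ^ 2 = 1 := by
  haveI : Fact (Nat.Prime 2) := ⟨Nat.prime_two⟩
  have hp : IsPGroup 2 H := IsPGroup.of_card (n := 3) (by rw [h8]; norm_num)
  haveI : Nontrivial H := Finite.one_lt_card_iff_nontrivial.1 (by rw [h8]; norm_num)
  have hsq : ∀ x : H, x * x ∈ center H := by
    intro x
    by_contra hx
    have hdvd : orderOf (QuotientGroup.mk' (center H) x) ∣ 4 := by
      have hc := card_eq_card_quotient_mul_card_subgroup (center H)
      rw [h8] at hc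
      obtain ⟨k, hk⟩ := IsPGroup.iff_card.1 (hp.to_subgroup (center H))
      have hk0 : k ≠ 0 := fun e => by
        have := hp.center_nontrivial
        rw [e, pow_zero] at hk
        exact not_subsingleton (center H) (Finite.card_le_one_iff_subsingleton.1 hk.le)
      refine (_root_.orderOf_dvd_natCard _).trans ?_
      have h2 : 2 ∣ Nat.card ↥(center H) := hk ▸ dvd_pow_self 2 hk0
      obtain ⟨m, hm⟩ := h2
      rw [hm] at hc
      exact ⟨m, by linarith⟩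
    have hne : ¬ orderOf (QuotientGroup.mk' (center H) x) ∣ 2 := fun h => hx <| by
      rw [orderOf_dvd_iff_pow_eq_one, ← map_pow, QuotientGroup.mk'_apply, QuotientGroup.eq_one_iff, pow_two] at h
      exact h
    have h4 : orderOf (QuotientGroup.mk' (center H) x) = 4 := by
      have hle := Nat.le_of_dvd (by norm_num) hdvd
      generalize orderOf (QuotientGroup.mk' (center H) x) = n at *
      interval_cases n <;> norm_num at *
    have hcyc : IsCyclic (H ⧸ center H) := by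
      refine isCyclic_of_orderOf_eq_card (QuotientGroup.mk' (center H) x) (le_antisymm
        (Nat.le_of_dvd Nat.card_pos (_root_.orderOf_dvd_natCard _)) ?_)
      have hc := card_eq_card_quotient_mul_card_subgroup (center H)
      rw [h8] at hc
      obtain ⟨k, hk⟩ := IsPGroup.iff_card.1 (hp.to_subgroup (center H))
      have hk0 : k ≠ 0 := fun e => by
        have := hp.center_nontrivial
        rw [e, pow_zero] at hk
        exact not_subsingleton (center H) (Finite.card_le_one_iff_subsingleton.1 hk.le)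
      have h2 : 2 ≤ Nat.card ↥(center H) := hk ▸ Nat.le_self_pow hk0 2
      rw [h4]
      nlinarith
    refine hx (mem_center_iff.2 fun y => ?_)
    exact commutative_of_cyclic_center_quotient (QuotientGroup.mk' (center H))
      (by rw [QuotientGroup.ker_mk']) y (x * x)
  have hc : ⁅a, b⁆ ∈ center H := by
    rw [show ⁅a, b⁆ = (a * a) * ((a⁻¹ * b) * (a⁻¹ * b)) * (b * b)⁻¹ by rw [commutatorElement_def]; group]
    exact mul_mem (mul_mem (hsq a) (hsq _)) (inv_mem (hsq b))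
  have h1 := mem_center_iff.1 (hsq a) b
  have h2 := mem_center_iff.1 hc a
  calc ⁅a, b⁆ ^ 2 = (a * ⁅a, b⁆) * a⁻¹ * ⁅a, b⁆ := by rw [h2, pow_two]; group
    _ = (a * a) * b * (a * a)⁻¹ * b⁻¹ := by rw [commutatorElement_def]; group
    _ = 1 := by rw [← h1]; group

namespace Frame

variable (F : Frame Z Q Q1 Q2 L1 L2 t1 t2)
include F

theorem L1_pow {a : G} (ha : a ∈ L1) : a ^ 8 = 1 := by
  have : (⟨a, ha⟩ : ↥L1) ^ Nat.card L1 = 1 := pow_card_eq_one'
  rw [F.L1_card] at this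
  simpa using congrArg Subtype.val this

theorem eq_one_of_cent1 {a : G} (ha : a ∈ L1) (hc : a ∈ centralizer (Q1 : Set G)) : a = 1 := by
  have h := F.set
  have haZ : a ∈ Z := by
    rw [← h.cent]
    refine mem_centralizer_iff.2 fun q hq => ?_
    obtain ⟨x, hx, y, hy, rfl⟩ := F.pair.dec q hq
    rw [mul_assoc, mem_centralizer_iff.1 (F.L1_cent ha) y hy, ← mul_assoc, mem_centralizer_iff.1 hc x hx,
      mul_assoc]
  have := pow_gcd_eq_one.2 ⟨h.Z_cube haZ, F.L1_pow ha⟩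
  rwa [show Nat.gcd 3 8 = 1 from rfl, pow_one] at this

theorem t1_sq : t1 * t1 = 1 := by
  have := pow_orderOf_eq_one t1
  rwa [F.t1_two, pow_two] at this

/-- `t1` is the only involution of `L1`. -/
theorem eq_t1 {a : G} (ha : a ∈ L1) (h2 : a * a = 1) : a = 1 ∨ a = t1 := by
  have h := F.set
  rcases F.pair.dichotomy h (F.L1_le ha) (F.L1_norm ha) h2 with hc | hi
  · exact Or.inl (F.eq_one_of_cent1 ha hc)
  refine Or.inr ?_
  have hm : a * t1 ∈ L1 := mul_mem ha F.t1_mem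
  have hm2 : a * t1 * (a * t1) = 1 := by
    calc a * t1 * (a * t1) = a * (t1 * a) * t1 := by group
      _ = (a * a) * (t1 * t1) := by rw [F.t1_comm a ha]; group
      _ = 1 := by rw [h2, F.t1_sq, one_mul]
  have hmc : a * t1 ∈ centralizer (Q1 : Set G) := by
    refine mem_centralizer_iff.2 fun x hx => ?_
    have hza := hi _ (inv_mem hx)
    have hzt := F.t1_inv x hx
    have e1 : a * t1 * x * (a * t1)⁻¹ * x⁻¹ = (a * (t1 * x * t1⁻¹ * x) * a⁻¹) * (a * x⁻¹ * a⁻¹ * x⁻¹) := by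
      group
    have := h.fixed_of_mod (F.L1_le hm) hm2 (x := x) (by
      rw [e1, h.conj_Z (F.L1_le ha) hzt]; exact mul_mem hzt hza)
    exact (mul_inv_eq_iff_eq_mul.1 this).symm
  have e := F.eq_one_of_cent1 hm hmc
  rw [mul_eq_one_iff_eq_inv.1 e]
  exact inv_eq_of_mul_eq_one_right F.t1_sq

/-- An element fixing `Q1` and some `aZ` acts on `Q1/Z` as an element of order dividing three. -/
theorem triv_cube {c a : G} (hc : c ∈ centralizer (Z : Set G)) (hN : ∀ x ∈ Q1, c * x * c⁻¹ ∈ Q1)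
    (ha : a ∈ Q1) (haZ : a ∉ Z) (hfix : a⁻¹ * (c * a * c⁻¹) ∈ Z) : Triv Z Q1 (c ^ 3) := by
  have h := F.set
  intro x hx
  set s := x⁻¹ * (c * x * c⁻¹) with hs
  have hsQ1 : s ∈ Q1 := mul_mem (inv_mem hx) (hN x hx)
  have h1 : ⁅a, s⁆ = 1 := by
    have e2 : ⁅a, c * x * c⁻¹⁆ = ⁅a, x⁆ := by
      have e3 : ⁅c * a * c⁻¹, c * x * c⁻¹⁆ = ⁅a, c * x * c⁻¹⁆ := by
        conv_lhs => rw [show c * a * c⁻¹ = a * (a⁻¹ * (c * a * c⁻¹)) by group]
        rw [h.comm_mul_left (F.pair.le1 ha) (h.Z_le hfix) (F.pair.le1 (hN x hx)),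
          commutatorElement_eq_one_iff_mul_comm.2 (h.comm_Z (F.pair.le1 (hN x hx)) hfix), mul_one]
      calc ⁅a, c * x * c⁻¹⁆ = c * ⁅a, x⁆ * c⁻¹ := by rw [← e3]; simp only [commutatorElement_def]; group
        _ = ⁅a, x⁆ := h.conj_Z hc (h.comm_mem (F.pair.le1 ha) (F.pair.le1 hx))
    rw [hs, h.comm_mul_right (inv_mem (F.pair.le1 hx)) (F.pair.le1 (hN x hx)) (F.pair.le1 ha), e2,
      ← h.comm_mul_right (inv_mem (F.pair.le1 hx)) (F.pair.le1 hx) (F.pair.le1 ha), inv_mul_cancel,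
      commutatorElement_one_right]
  -- the elements of `Q` fixed modulo `Z`
  let B : Subgroup G :=
    { carrier := {y | y ∈ Q ∧ y⁻¹ * (c * y * c⁻¹) ∈ Z}
      one_mem' := ⟨one_mem _, by simp⟩
      mul_mem' := by
        rintro p q ⟨hp, hp'⟩ ⟨hq, hq'⟩
        refine ⟨mul_mem hp hq, ?_⟩
        rw [shift_mul_right, show q⁻¹ * (p⁻¹ * (c * p * c⁻¹)) * q = p⁻¹ * (c * p * c⁻¹) by
          rw [mul_assoc, h.comm_Z hq hp', inv_mul_cancel_left]]
        exact mul_mem hp' hq'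
      inv_mem' := by
        rintro p ⟨hp, hp'⟩
        refine ⟨inv_mem hp, ?_⟩
        rw [show (p⁻¹)⁻¹ * (c * p⁻¹ * c⁻¹) = p * (p⁻¹ * (c * p * c⁻¹))⁻¹ * p⁻¹ by group,
          ← h.comm_Z hp (inv_mem hp'), mul_inv_cancel_right]
        exact inv_mem hp' }
  have hsB : s ∈ B := by
    have hle : Z ⊔ zpowers a ≤ B := sup_le
      (fun z hz => ⟨h.Z_le hz, by rw [h.conj_Z hc hz, inv_mul_cancel]; exact one_mem _⟩)
      (zpowers_le.2 ⟨F.pair.le1 ha, hfix⟩)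
    refine hle ?_
    rw [← F.pair.cent_eq h ha haZ]
    exact ⟨hsQ1, mem_centralizer_singleton_iff.2 (commutatorElement_eq_one_iff_mul_comm.1 h1).symm⟩
  obtain ⟨hsQ, hz⟩ := hsB
  set z := s⁻¹ * (c * s * c⁻¹) with hzdef
  have e1 : c * x * c⁻¹ = x * s := by rw [hs]; group
  have e2 : c * s * c⁻¹ = s * z := by rw [hzdef]; group
  have e3 : c * z * c⁻¹ = z := h.conj_Z hc hz
  have e4 : z * s = s * z := h.comm_Z hsQ hz
  have key : x⁻¹ * (c ^ 3 * x * (c ^ 3)⁻¹) = s ^ 3 * z ^ 3 := by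
    calc x⁻¹ * (c ^ 3 * x * (c ^ 3)⁻¹) = x⁻¹ * (c * (c * (c * x * c⁻¹) * c⁻¹) * c⁻¹) := by
          rw [pow_succ, pow_two]; group
      _ = x⁻¹ * (c * ((c * x * c⁻¹) * (c * s * c⁻¹)) * c⁻¹) := by
          congr 1; congr 1; congr 1
          conv_lhs => rw [e1]
          group
      _ = x⁻¹ * (c * (x * s * (s * z)) * c⁻¹) := by rw [e1, e2]
      _ = x⁻¹ * ((c * x * c⁻¹) * (c * s * c⁻¹) * ((c * s * c⁻¹) * (c * z * c⁻¹))) := by group
      _ = s * (s * z) * (s * z) * z := by rw [e1, e2, e3]; group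
      _ = s ^ 3 * z ^ 3 := by
        rw [pow_succ, pow_two, pow_succ, pow_two]
        calc s * (s * z) * (s * z) * z = s * s * (z * s) * (z * z) := by group
          _ = _ := by rw [e4]; group
  rw [key, F.cube s hsQ, h.Z_cube hz, one_mul]
  exact one_mem _

theorem exists_notZ : ∃ a ∈ Q1, a ∉ Z := by
  by_contra hc
  push Not at hc
  have := Subgroup.card_le_of_le (show Q1 ≤ Z from hc)
  rw [F.pair.card1, F.set.Z_card] at this
  omega

theorem QL_le : Q ⊔ (L1 ⊔ L2) ≤ centralizer (Z : Set G) := sup_le F.set.Q_le (sup_le F.L1_le F.L2_le)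

theorem QL_norm1 : Q ⊔ (L1 ⊔ L2) ≤ normalizer (Q1 : Set G) :=
  sup_le (F.pair.norm1 F.set) (sup_le F.L1_norm (F.L2_cent.trans (Subgroup.centralizer_le_normalizer _)))

/-- An element fixing both factors has its cube in `Q(L1 × L2)`. -/
theorem cube_mem_QL {c : G} (hc : c ∈ centralizer (Z : Set G)) (h1 : ∀ x ∈ Q1, c * x * c⁻¹ ∈ Q1)
    (h2 : ∀ x ∈ Q2, c * x * c⁻¹ ∈ Q2) : c ^ 3 ∈ Q ⊔ (L1 ⊔ L2) := by
  have h := F.set
  obtain ⟨a, ha, haZ⟩ := F.exists_notZ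
  obtain ⟨b, hb, hbZ⟩ := F.symm.exists_notZ
  have hnz : ∀ {y : G}, y ∉ Z → c * y * c⁻¹ ∉ Z := fun {y} hy hz => hy (by
    have := h.conj_Z (inv_mem hc) hz
    rw [show c⁻¹ * (c * y * c⁻¹) * c⁻¹⁻¹ = y by group] at this
    exact this ▸ hz)
  obtain ⟨l, hl, z, hz, e⟩ := F.trans1 a ha haZ _ (h1 a ha) (hnz haZ)
  obtain ⟨m, hm, w, hw, e'⟩ := F.trans2 b hb hbZ _ (h2 b hb) (hnz hbZ)
  set d := m⁻¹ * l⁻¹ * c with hd
  have hlC := F.L1_le hl
  have hmC := F.L2_le hm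
  have hdC : d ∈ centralizer (Z : Set G) := mul_mem (mul_mem (inv_mem hmC) (inv_mem hlC)) hc
  have hd1 : ∀ x ∈ Q1, d * x * d⁻¹ ∈ Q1 := fun x hx => by
    have e5 : d * x * d⁻¹ = m⁻¹ * (l⁻¹ * (c * x * c⁻¹) * l) * m := by rw [hd]; group
    have h6 : l⁻¹ * (c * x * c⁻¹) * l ∈ Q1 := by
      have := (mem_normalizer_iff.1 (inv_mem (F.L1_norm hl)) _).1 (h1 x hx)
      rwa [inv_inv] at this
    rw [e5, mul_assoc, mem_centralizer_iff.1 (F.L2_cent hm) _ h6, inv_mul_cancel_left]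
    exact h6
  have hd2 : ∀ x ∈ Q2, d * x * d⁻¹ ∈ Q2 := fun x hx => by
    have h6 : m⁻¹ * (c * x * c⁻¹) * m ∈ Q2 := by
      have := (mem_normalizer_iff.1 (inv_mem (F.L2_norm hm)) _).1 (h2 x hx)
      rwa [inv_inv] at this
    have e5 : d * x * d⁻¹ = m⁻¹ * (c * x * c⁻¹) * m := by
      rw [hd, show m⁻¹ * l⁻¹ * c * x * (m⁻¹ * l⁻¹ * c)⁻¹ = m⁻¹ * (l⁻¹ * ((c * x * c⁻¹) * l)) * m by group,
        mem_centralizer_iff.1 (F.L1_cent hl) _ (h2 x hx), inv_mul_cancel_left]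
    rw [e5]
    exact h6
  have hfa : a⁻¹ * (d * a * d⁻¹) ∈ Z := by
    have e5 : d * a * d⁻¹ = m⁻¹ * (l⁻¹ * (c * a * c⁻¹) * l) * m := by rw [hd]; group
    rw [e5, ← e, show l⁻¹ * (l * a * l⁻¹ * z) * l = a * (l⁻¹ * z * l⁻¹⁻¹) by group, h.conj_Z (inv_mem hlC) hz,
      mul_assoc m⁻¹, mem_centralizer_iff.1 (F.L2_cent hm) _ (mul_mem ha (F.pair.Z1 hz)), inv_mul_cancel_left,
      inv_mul_cancel_left]
    exact hz
  have hfb : b⁻¹ * (d * b * d⁻¹) ∈ Z := by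
    have e5 : d * b * d⁻¹ = m⁻¹ * (c * b * c⁻¹) * m := by
      rw [hd, show m⁻¹ * l⁻¹ * c * b * (m⁻¹ * l⁻¹ * c)⁻¹ = m⁻¹ * (l⁻¹ * ((c * b * c⁻¹) * l)) * m by group,
        mem_centralizer_iff.1 (F.L1_cent hl) _ (h2 b hb), inv_mul_cancel_left]
    rw [e5, ← e', show m⁻¹ * (m * b * m⁻¹ * w) * m = b * (m⁻¹ * w * m⁻¹⁻¹) by group, h.conj_Z (inv_mem hmC) hw,
      inv_mul_cancel_left]
    exact hw
  have hdQ : d ^ 3 ∈ Q := F.mem_Q_of_triv (pow_mem hdC 3) (F.triv_cube hdC hd1 ha haZ hfa)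
    (F.symm.triv_cube hdC hd2 hb hbZ hfb)
  set K := Q ⊔ (L1 ⊔ L2) with hK
  set k := l * m with hk
  have hkK : k ∈ K := mem_sup_right (mul_mem (mem_sup_left hl) (mem_sup_right hm))
  have ec : c = k * d := by rw [hd, hk]; group
  have hconj : ∀ {g : G}, g ∈ centralizer (Z : Set G) → ∀ y ∈ K, g * y * g⁻¹ ∈ K := fun {g} hg y hy =>
    (mem_normalizer_iff.1 (F.norm_L hg) y).1 hy
  rw [ec, show (k * d) ^ 3 = k * (d * k * d⁻¹) * (d ^ 2 * k * (d ^ 2)⁻¹) * d ^ 3 by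
    simp only [pow_succ, pow_zero]; group]
  exact mul_mem (mul_mem (mul_mem hkK (hconj hdC k hkK)) (hconj (pow_mem hdC 2) k hkK)) (mem_sup_left hdQ)

omit F in
theorem mem_QL_dec (F : Frame Z Q Q1 Q2 L1 L2 t1 t2) {x : G} (hx : x ∈ Q ⊔ (L1 ⊔ L2)) :
    ∃ q ∈ Q, ∃ a ∈ L1, ∃ b ∈ L2, x = q * (a * b) := by
  have h1 := Subgroup.coe_mul_of_right_le_normalizer_left Q (L1 ⊔ L2)
    ((sup_le F.L1_le F.L2_le).trans F.set.Q_norm)
  have hn : L2 ≤ normalizer (L1 : Set G) := fun b hb => Subgroup.mem_normalizer_fintype fun a ha => by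
    rw [SetLike.mem_coe, ← F.L_comm a ha b hb, mul_inv_cancel_right]; exact ha
  have h2 := Subgroup.coe_mul_of_right_le_normalizer_left L1 L2 hn
  rw [← SetLike.mem_coe, h1, Set.mem_mul] at hx
  obtain ⟨q, hq, l, hl, rfl⟩ := hx
  rw [h2, Set.mem_mul] at hl
  obtain ⟨a, ha, b, hb, rfl⟩ := hl
  exact ⟨q, hq, a, ha, b, hb, rfl⟩

/-- The commutators of `Q(L1 × L2)` have squares in `Q`. -/
theorem comm_sq_mem {x y : G} (hx : x ∈ Q ⊔ (L1 ⊔ L2)) (hy : y ∈ Q ⊔ (L1 ⊔ L2)) : ⁅x, y⁆ ^ 2 ∈ Q := by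
  classical
  set K := Q ⊔ (L1 ⊔ L2) with hK
  haveI : (Q.subgroupOf K).Normal := normal_subgroupOf_of_le_normalizer (F.QL_le.trans F.set.Q_norm)
  obtain ⟨q, hq, a, ha, b, hb, rfl⟩ := F.mem_QL_dec hx
  obtain ⟨q', hq', a', ha', b', hb', rfl⟩ := F.mem_QL_dec hy
  have hab : ∀ {u v : G}, u ∈ L1 → v ∈ L2 → u * v ∈ K := fun hu hv =>
    mem_sup_right (mul_mem (mem_sup_left hu) (mem_sup_right hv))
  have hL : ⁅a * b, a' * b'⁆ ^ 2 = 1 := by
    have h1 : ⁅a, a'⁆ ^ 2 = 1 := by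
      simpa [commutatorElement_def] using congrArg Subtype.val
        (comm_sq_of_card_eight F.L1_card (⟨a, ha⟩ : ↥L1) ⟨a', ha'⟩)
    have h2 : ⁅b, b'⁆ ^ 2 = 1 := by
      simpa [commutatorElement_def] using congrArg Subtype.val
        (comm_sq_of_card_eight F.L2_card (⟨b, hb⟩ : ↥L2) ⟨b', hb'⟩)
    have hc1 : ⁅a, a'⁆ ∈ L1 := mul_mem (mul_mem (mul_mem ha ha') (inv_mem ha)) (inv_mem ha')
    have hc2 : ⁅b, b'⁆ ∈ L2 := mul_mem (mul_mem (mul_mem hb hb') (inv_mem hb)) (inv_mem hb')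
    have e : ⁅a * b, a' * b'⁆ = ⁅a, a'⁆ * ⁅b, b'⁆ := by
      calc ⁅a * b, a' * b'⁆ = a * (b * a') * b' * b⁻¹ * (a⁻¹ * b'⁻¹) * a'⁻¹ := by
            rw [commutatorElement_def]; group
        _ = a * (a' * b) * b' * b⁻¹ * (b'⁻¹ * a⁻¹) * a'⁻¹ := by
            rw [F.L_comm a' ha' b hb, F.L_comm _ (inv_mem ha) _ (inv_mem hb')]
        _ = a * a' * (⁅b, b'⁆ * (a⁻¹ * a'⁻¹)) := by rw [commutatorElement_def]; group
        _ = a * a' * ((a⁻¹ * a'⁻¹) * ⁅b, b'⁆) := by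
            rw [F.L_comm _ (mul_mem (inv_mem ha) (inv_mem ha')) _ hc2]
        _ = _ := by rw [commutatorElement_def]; group
    rw [e, (show Commute ⁅a, a'⁆ ⁅b, b'⁆ from F.L_comm _ hc1 _ hc2).mul_pow, h1, h2, one_mul]
  let π := QuotientGroup.mk' (Q.subgroupOf K)
  have hπ : ∀ {u : G} (hu : u ∈ Q) {v : G} (hv : v ∈ K),
      π ⟨u * v, mul_mem (mem_sup_left hu) hv⟩ = π ⟨v, hv⟩ := by
    intro u hu v hv
    rw [show (⟨u * v, mul_mem (mem_sup_left hu) hv⟩ : ↥K) = ⟨u, mem_sup_left hu⟩ * ⟨v, hv⟩ from rfl, map_mul,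
      show π (⟨u, mem_sup_left hu⟩ : ↥K) = 1 from (QuotientGroup.eq_one_iff (⟨u, mem_sup_left hu⟩ : ↥K)).2 (mem_subgroupOf.2 hu), one_mul]
  have hfin : π (⁅(⟨q * (a * b), mul_mem (mem_sup_left hq) (hab ha hb)⟩ : ↥K),
      ⟨q' * (a' * b'), mul_mem (mem_sup_left hq') (hab ha' hb')⟩⁆ ^ 2) = 1 := by
    rw [map_pow, map_commutatorElement, hπ hq (hab ha hb), hπ hq' (hab ha' hb'), ← map_commutatorElement,
      ← map_pow]
    convert map_one π
    apply Subtype.ext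
    simpa [commutatorElement_def] using hL
  have h3 := mem_subgroupOf.1 ((QuotientGroup.eq_one_iff _).1 hfin)
  simpa [commutatorElement_def] using h3

/-- `N(Z)` normalises `Q(L1 × L2)`. -/
theorem normalizer_le_normalizer_QL :
    normalizer (Z : Set G) ≤ normalizer ((Q ⊔ (L1 ⊔ L2) : Subgroup G) : Set G) := by
  classical
  intro g hg
  have h := F.set
  set K := Q ⊔ (L1 ⊔ L2) with hK
  set K' := cj g K with hK'
  suffices hsuff : K' ≤ K by
    exact Subgroup.mem_normalizer_fintype fun x hx => hsuff (conj_mem_cj.2 hx)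
  have hK'C : K' ≤ centralizer (Z : Set G) := by
    intro x hx
    refine mem_centralizer_iff.2 fun z hz => ?_
    have hz' : g⁻¹ * z * g ∈ Z := by
      have := (mem_normalizer_iff.1 (inv_mem hg) z).1 hz
      rwa [inv_inv] at this
    have := mem_centralizer_iff.1 (F.QL_le (mem_cj.1 hx)) _ hz'
    calc z * x = g * ((g⁻¹ * z * g) * (g⁻¹ * x * g)) * g⁻¹ := by group
      _ = x * z := by rw [this]; group
  have hQg : ∀ q ∈ Q, g * q * g⁻¹ ∈ Q := fun q hq =>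
    (mem_normalizer_iff.1 (F.normalizer_le_normalizer_Q hg) q).1 hq
  haveI : (Q.subgroupOf K).Normal := normal_subgroupOf_of_le_normalizer (F.QL_le.trans h.Q_norm)
  have h64 : ∀ c ∈ K', c ^ 64 ∈ Q := by
    intro c hc
    have hk := mem_cj.1 hc
    have hidx : (Q.subgroupOf K).index = 64 := by
      have := (Q.subgroupOf K).card_mul_index
      rw [Nat.card_congr (subgroupOfEquivOfLe (le_sup_left : Q ≤ K)).toEquiv, h.Q_card] at this
      exact Nat.eq_of_mul_eq_mul_left (by norm_num) (this.trans (hK ▸ F.card_QL))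
    have h1 := Subgroup.pow_index_mem (Q.subgroupOf K) (⟨_, hk⟩ : ↥K)
    rw [hidx, mem_subgroupOf, Subgroup.coe_pow] at h1
    have h2 := hQg _ h1
    rwa [← conj_pow, show g * (g⁻¹ * c * g) * g⁻¹ = c by group] at h2
  have hin : ∀ c ∈ K', (∀ x ∈ Q1, c * x * c⁻¹ ∈ Q1) → (∀ x ∈ Q2, c * x * c⁻¹ ∈ Q2) → c ∈ K := by
    intro c hc h1 h2
    have h3 := F.cube_mem_QL (hK'C hc) h1 h2
    have h4 : c ^ 64 ∈ K := mem_sup_left (h64 c hc)
    have : c = c ^ 64 * ((c ^ 3) ^ 21)⁻¹ := by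
      rw [← pow_mul, eq_mul_inv_iff_mul_eq, ← pow_succ']
    rw [this]
    exact mul_mem h4 (inv_mem (pow_mem h3 21))
  have hswap : ∀ c ∈ K', c ∉ K →
      (∀ x, x ∈ Q1 ↔ c * x * c⁻¹ ∈ Q2) ∧ ∀ x, x ∈ Q2 ↔ c * x * c⁻¹ ∈ Q1 := fun c hc hcK =>
    (F.perm c (hK'C hc)).resolve_left fun hf => hcK (hin c hc (fun x hx => (hf.1 x).1 hx) fun x hx => (hf.2 x).1 hx)
  intro s hs
  by_contra hsK
  obtain ⟨hs1, hs2⟩ := hswap s hs hsK
  -- `L1 ∩ K'` has exponent two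
  have hexp : ∀ a ∈ L1, a ∈ K' → a * a = 1 := by
    intro a ha haK'
    have hc2 : ⁅s, a⁆ ^ 2 ∈ Q := by
      have h1 := hQg _ (F.comm_sq_mem (mem_cj.1 hs) (mem_cj.1 haK'))
      have e : g * ⁅g⁻¹ * s * g, g⁻¹ * a * g⁆ ^ 2 * g⁻¹ = ⁅s, a⁆ ^ 2 := by
        simp only [commutatorElement_def, pow_two]; group
      rwa [e] at h1
    obtain ⟨x, hx, hxZ⟩ := F.exists_notZ
    have hu : ∀ y ∈ Q1, s * a * s⁻¹ * y * (s * a * s⁻¹)⁻¹ = y := by
      intro y hy
      have hy2 : s⁻¹ * y * s ∈ Q2 := (hs2 _).2 (by rw [show s * (s⁻¹ * y * s) * s⁻¹ = y by group]; exact hy)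
      have := mem_centralizer_iff.1 (F.L1_cent ha) _ hy2
      calc s * a * s⁻¹ * y * (s * a * s⁻¹)⁻¹ = s * (a * (s⁻¹ * y * s)) * a⁻¹ * s⁻¹ := by group
        _ = y := by rw [← this]; group
    have hcy : ∀ y ∈ Q1, ⁅s, a⁆ * y * ⁅s, a⁆⁻¹ = a⁻¹ * y * a := fun y hy => by
      have hy' : a⁻¹ * y * a ∈ Q1 := by
        have := (mem_normalizer_iff.1 (inv_mem (F.L1_norm ha)) y).1 hy
        rwa [inv_inv] at this
      calc ⁅s, a⁆ * y * ⁅s, a⁆⁻¹ = s * a * s⁻¹ * (a⁻¹ * y * a) * (s * a * s⁻¹)⁻¹ := by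
            rw [commutatorElement_def]; group
        _ = _ := hu _ hy'
    have hz : x⁻¹ * (⁅s, a⁆ ^ 2 * x * (⁅s, a⁆ ^ 2)⁻¹) ∈ Z := F.triv_Q hc2 F.pair.le1 x hx
    have hx' : a⁻¹ * x * a ∈ Q1 := by
      have := (mem_normalizer_iff.1 (inv_mem (F.L1_norm ha)) x).1 hx
      rwa [inv_inv] at this
    have e2 : ⁅s, a⁆ ^ 2 * x * (⁅s, a⁆ ^ 2)⁻¹ = a⁻¹ * (a⁻¹ * x * a) * a := by
      rw [pow_two, ← hcy _ hx', ← hcy x hx]; group
    rw [e2] at hz
    have haa : a * a ∈ L1 := mul_mem ha ha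
    have hfix : x⁻¹ * (a * a * x * (a * a)⁻¹) ∈ Z := by
      have h1 := inv_mem (show x⁻¹ * (a⁻¹ * (a⁻¹ * x * a) * a) ∈ Z from hz)
      have h2 := h.conj_Z (F.L1_le haa) h1
      rw [← h2] at h1
      rwa [show a * a * (x⁻¹ * (a⁻¹ * (a⁻¹ * x * a) * a))⁻¹ * (a * a)⁻¹ = x⁻¹ * (a * a * x * (a * a)⁻¹) by
        simp only [mul_inv_rev, inv_inv, mul_assoc, mul_inv_cancel_left]] at h1
    refine F.eq_one_of_cent1 haa (F.pair.free h (e := 3) (F.L1_le haa) (F.L1_norm haa) ?_ hx hxZ hfix)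
    exact F.L1_pow haa
  -- but it has index at most two in `L1`
  have hKK : ∀ x ∈ K', ∀ y ∈ K', x ∉ K → y ∉ K → x⁻¹ * y ∈ K := by
    intro x hx y hy hxK hyK
    obtain ⟨a1, a2⟩ := hswap x hx hxK
    obtain ⟨b1, b2⟩ := hswap y hy hyK
    refine hin _ (mul_mem (inv_mem hx) hy) (fun u hu => ?_) fun u hu => ?_
    · refine (a1 _).2 ?_
      convert (b1 u).1 hu using 1; group
    · refine (a2 _).2 ?_
      convert (b2 u).1 hu using 1; group
  have hi : (K.subgroupOf K').index ≤ 2 := by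
    let f : ↥K' ⧸ K.subgroupOf K' → Bool := fun p => decide (((Quotient.out p : ↥K') : G) ∈ K)
    have hf : Function.Injective f := by
      intro p p' e
      rw [← Quotient.out_eq p, ← Quotient.out_eq p']
      refine QuotientGroup.eq.2 ?_
      rw [mem_subgroupOf]
      simp only [f, decide_eq_decide] at e
      by_cases hp : ((Quotient.out p : ↥K') : G) ∈ K
      · exact mul_mem (inv_mem hp) (e.1 hp)
      · exact hKK _ (Quotient.out p).2 _ (Quotient.out p').2 hp fun h' => hp (e.2 h')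
    have := Nat.card_le_card_of_injective f hf
    rwa [Nat.card_eq_fintype_card (α := Bool), Fintype.card_bool, ← index_eq_card] at this
  have hcK' : Nat.card ↥K' = Nat.card ↥K := card_cj g K
  have h1 : 2 * Nat.card ↥(K ⊓ K') ≥ Nat.card ↥K := by
    have e := (K.subgroupOf K').card_mul_index
    rw [← inf_subgroupOf_right, Nat.card_congr (subgroupOfEquivOfLe inf_le_right).toEquiv,
      inf_subgroupOf_right, hcK'] at e
    rw [ge_iff_le, ← e, mul_comm 2]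
    exact Nat.mul_le_mul_left _ hi
  have hi2 : (K ⊓ K').relIndex K ≤ 2 := by
    have e := ((K ⊓ K').subgroupOf K).card_mul_index
    rw [Nat.card_congr (subgroupOfEquivOfLe inf_le_left).toEquiv] at e
    have : 0 < Nat.card ↥(K ⊓ K') := Nat.card_pos
    rw [relIndex]
    nlinarith
  have hi3 : (K ⊓ K').relIndex L1 ≤ 2 :=
    (relIndex_le_of_le_right (le_sup_left.trans le_sup_right : L1 ≤ K) index_ne_zero_of_finite).trans hi2
  have hsmall : Nat.card ↥((K ⊓ K').subgroupOf L1) ≤ 2 := by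
    let f : ↥((K ⊓ K').subgroupOf L1) → Bool := fun p => decide (((p : ↥L1) : G) = 1)
    have hf : Function.Injective f := by
      intro p p' e
      simp only [f, decide_eq_decide] at e
      apply Subtype.ext
      apply Subtype.ext
      rcases F.eq_t1 (p : ↥L1).2 (hexp _ (p : ↥L1).2 (mem_subgroupOf.1 p.2).2) with h1 | h1
      · rw [h1, e.1 h1]
      rcases F.eq_t1 (p' : ↥L1).2 (hexp _ (p' : ↥L1).2 (mem_subgroupOf.1 p'.2).2) with h2 | h2
      · rw [h2, e.2 h2]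
      · rw [h1, h2]
    have := Nat.card_le_card_of_injective f hf
    rwa [Nat.card_eq_fintype_card (α := Bool), Fintype.card_bool] at this
  have := ((K ⊓ K').subgroupOf L1).card_mul_index
  rw [F.L1_card] at this
  rw [relIndex] at hi3
  nlinarith

end Frame

end Cfsg.Agent.UThreeLocal
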