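import Cfsg.Agent.Lib.UThreeLocal.Loc.Action

/-!
# Transport of the frame by conjugation; weak closure on elements
-/

set_option autoImplicit false
set_option linter.unusedSectionVars false
set_option linter.style.haveILetI false

namespace Cfsg.Agent.UThreeLocal

open Subgroup
open scoped commutatorElement

universe u

variable {G : Type u} [Group G]

/-- The conjugate of a subgroup. -/
abbrev cj (g : G) (K : Subgroup G) : Subgroup G := K.map (MulAut.conj g).toMonoidHom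

theorem mem_cj {g x : G} {K : Subgroup G} : x ∈ cj g K ↔ g⁻¹ * x * g ∈ K := by
  rw [cj, mem_map_equiv, MulAut.conj_symm_apply]

theorem conj_mem_cj {g x : G} {K : Subgroup G} : g * x * g⁻¹ ∈ cj g K ↔ x ∈ K := by
  rw [mem_cj, show g⁻¹ * (g * x * g⁻¹) * g = x by group]

theorem cj_centralizer (g : G) (K : Subgroup G) :
    centralizer ((cj g K : Subgroup G) : Set G) = cj g (centralizer (K : Set G)) := by
  ext x
  rw [mem_cj, mem_centralizer_iff, mem_centralizer_iff]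
  constructor
  · intro h y hy
    have := h (g * y * g⁻¹) (conj_mem_cj.2 hy)
    calc y * (g⁻¹ * x * g) = g⁻¹ * ((g * y * g⁻¹) * x) * g := by group
      _ = g⁻¹ * x * g * y := by rw [this]; group
  · intro h y hy
    have := h _ (mem_cj.1 hy)
    calc y * x = g * ((g⁻¹ * y * g) * (g⁻¹ * x * g)) * g⁻¹ := by group
      _ = x * y := by rw [this]; group

theorem cj_normalizer (g : G) (K : Subgroup G) :
    normalizer ((cj g K : Subgroup G) : Set G) = cj g (normalizer (K : Set G)) :=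
  (Subgroup.map_equiv_normalizer_eq K (MulAut.conj g)).symm

theorem card_cj (g : G) (K : Subgroup G) : Nat.card ↥(cj g K) = Nat.card K :=
  card_map_of_injective (MulAut.conj g).injective

theorem Pair.conj {Z Q Q1 Q2 : Subgroup G} (P : Pair Z Q Q1 Q2) (g : G) :
    Pair (cj g Z) (cj g Q) (cj g Q1) (cj g Q2) :=
  ⟨map_mono P.le1, map_mono P.le2, map_mono P.Z1, map_mono P.Z2, by rw [card_cj, P.card1],
    by rw [card_cj, P.card2], by
      rintro _ ⟨a, ha, rfl⟩ _ ⟨b, hb, rfl⟩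
      rw [← map_mul, ← map_mul, P.comm a ha b hb], by
      rintro _ ⟨x, hx, rfl⟩
      obtain ⟨a, ha, b, hb, rfl⟩ := P.dec x hx
      exact ⟨_, ⟨a, ha, rfl⟩, _, ⟨b, hb, rfl⟩, map_mul _ _ _⟩⟩

theorem Frame.conj {Z Q Q1 Q2 L1 L2 : Subgroup G} {t1 t2 : G} (F : Frame Z Q Q1 Q2 L1 L2 t1 t2) (g : G) :
    Frame (cj g Z) (cj g Q) (cj g Q1) (cj g Q2) (cj g L1) (cj g L2) (g * t1 * g⁻¹) (g * t2 * g⁻¹) := by
  have hC : ∀ K R : Subgroup G, K ≤ centralizer (R : Set G) → cj g K ≤ centralizer ((cj g R : Subgroup G) : Set G) :=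
    fun K R h => by rw [cj_centralizer]; exact map_mono h
  have hN : ∀ K R : Subgroup G, K ≤ normalizer (R : Set G) → cj g K ≤ normalizer ((cj g R : Subgroup G) : Set G) :=
    fun K R h => by rw [cj_normalizer]; exact map_mono h
  have htr : ∀ L R : Subgroup G, (∀ a ∈ R, a ∉ Z → ∀ b ∈ R, b ∉ Z → ∃ l ∈ L, ∃ z ∈ Z, l * a * l⁻¹ * z = b) →
      ∀ a ∈ cj g R, a ∉ cj g Z → ∀ b ∈ cj g R, b ∉ cj g Z → ∃ l ∈ cj g L, ∃ z ∈ cj g Z, l * a * l⁻¹ * z = b := by
    intro L R h a ha haZ b hb hbZ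
    rw [mem_cj] at ha haZ hb hbZ
    obtain ⟨l, hl, z, hz, e⟩ := h _ ha haZ _ hb hbZ
    refine ⟨g * l * g⁻¹, conj_mem_cj.2 hl, g * z * g⁻¹, conj_mem_cj.2 hz, ?_⟩
    calc g * l * g⁻¹ * a * (g * l * g⁻¹)⁻¹ * (g * z * g⁻¹) = g * (l * (g⁻¹ * a * g) * l⁻¹ * z) * g⁻¹ := by group
      _ = b := by rw [e]; group
  refine ⟨F.set.conj g, F.pair.conj g, ?_, hC _ _ F.L1_le, hC _ _ F.L2_le, by rw [card_cj, F.L1_card],
    by rw [card_cj, F.L2_card], ?_, hC _ _ F.L1_cent, hC _ _ F.L2_cent, hN _ _ F.L1_norm, hN _ _ F.L2_norm,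
    htr _ _ F.trans1, htr _ _ F.trans2, conj_mem_cj.2 F.t1_mem, conj_mem_cj.2 F.t2_mem, ?_, ?_, ?_, ?_, ?_, ?_,
    ?_, ?_⟩
  · intro x hx
    have := F.cube _ (mem_cj.1 hx)
    rw [show g⁻¹ * x * g = g⁻¹ * x * g⁻¹⁻¹ by group, conj_pow, conj_eq_one_iff] at this
    exact this
  · intro a ha b hb
    have := F.L_comm _ (mem_cj.1 ha) _ (mem_cj.1 hb)
    calc a * b = g * ((g⁻¹ * a * g) * (g⁻¹ * b * g)) * g⁻¹ := by group
      _ = b * a := by rw [this]; group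
  · rw [show g * t1 * g⁻¹ = MulAut.conj g t1 from rfl, MulEquiv.orderOf_eq, F.t1_two]
  · rw [show g * t2 * g⁻¹ = MulAut.conj g t2 from rfl, MulEquiv.orderOf_eq, F.t2_two]
  · intro l hl
    have := F.t1_comm _ (mem_cj.1 hl)
    calc g * t1 * g⁻¹ * l = g * (t1 * (g⁻¹ * l * g)) * g⁻¹ := by group
      _ = _ := by rw [this]; group
  · intro l hl
    have := F.t2_comm _ (mem_cj.1 hl)
    calc g * t2 * g⁻¹ * l = g * (t2 * (g⁻¹ * l * g)) * g⁻¹ := by group
      _ = _ := by rw [this]; group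
  · intro x hx
    have := F.t1_inv _ (mem_cj.1 hx)
    rw [mem_cj]
    convert this using 1; group
  · intro x hx
    have := F.t2_inv _ (mem_cj.1 hx)
    rw [mem_cj]
    convert this using 1; group
  · rw [cj_centralizer, ← Subgroup.map_sup, ← Subgroup.map_sup, cj_normalizer]
    exact map_mono F.norm_L
  · intro c hc
    rw [cj_centralizer, mem_cj] at hc
    have key : ∀ A B : Subgroup G, (∀ x, x ∈ A ↔ g⁻¹ * c * g * x * (g⁻¹ * c * g)⁻¹ ∈ B) →
        ∀ x, x ∈ cj g A ↔ c * x * c⁻¹ ∈ cj g B := fun A B h x => by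
      rw [mem_cj, mem_cj, h]
      constructor <;> intro h' <;> convert h' using 1 <;> group
    exact (F.perm _ hc).imp (fun h => ⟨key _ _ h.1, key _ _ h.2⟩) fun h => ⟨key _ _ h.1, key _ _ h.2⟩

/-- `w` is conjugate to a nontrivial element of `Z`. -/
def IsPt (Z : Subgroup G) (w : G) : Prop := ∃ g : G, ∃ z ∈ Z, z ≠ 1 ∧ g * z * g⁻¹ = w

namespace IsPt

variable {Z : Subgroup G} {w : G}

theorem conj (h : IsPt Z w) (k : G) : IsPt Z (k * w * k⁻¹) := by
  obtain ⟨g, z, hz, hz1, rfl⟩ := h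
  exact ⟨k * g, z, hz, hz1, by group⟩

theorem ne_one (h : IsPt Z w) : w ≠ 1 := by
  obtain ⟨g, z, hz, hz1, rfl⟩ := h
  exact fun e => hz1 (conj_eq_one_iff.1 e)

theorem of_mem {z : G} (hz : z ∈ Z) (hz1 : z ≠ 1) : IsPt Z z := ⟨1, z, hz, hz1, by group⟩

theorem cj_iff (g : G) : IsPt (cj g Z) w ↔ IsPt Z w := by
  constructor
  · rintro ⟨k, z, hz, hz1, rfl⟩
    refine ⟨k * g, g⁻¹ * z * g, mem_cj.1 hz, fun e => hz1 ?_, by group⟩
    calc z = g * (g⁻¹ * z * g) * g⁻¹ := by group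
      _ = 1 := by rw [e]; group
  · rintro ⟨k, z, hz, hz1, rfl⟩
    exact ⟨k * g⁻¹, g * z * g⁻¹, conj_mem_cj.2 hz, fun e => hz1 (conj_eq_one_iff.1 e), by group⟩

end IsPt

theorem zpowers_eq_of_prime [Finite G] {Z : Subgroup G} (h3 : Nat.card Z = 3) {z : G} (hz : z ∈ Z) (hz1 : z ≠ 1) :
    zpowers z = Z := by
  refine Subgroup.eq_of_le_of_card_ge (zpowers_le.2 hz) ?_
  rcases (Nat.dvd_prime Nat.prime_three).1 (h3 ▸ card_dvd_of_le (zpowers_le.2 hz)) with e | e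
  · rw [Nat.card_zpowers, orderOf_eq_one_iff] at e
    exact absurd e hz1
  · rw [e, h3]

/-- Weak closure, on elements. -/
theorem Setting.pt_mem [Finite G] {Z Q : Subgroup G} (h : Setting Z Q) {w : G} (hw : IsPt Z w) (hwQ : w ∈ Q) : w ∈ Z := by
  obtain ⟨g, z, hz, hz1, rfl⟩ := hw
  refine h.wc g (fun x hx => ?_) z hz
  rw [← zpowers_eq_of_prime h.Z_card hz hz1, mem_zpowers_iff] at hx
  obtain ⟨n, rfl⟩ := hx
  rw [← conj_zpow]
  exact zpow_mem hwQ n

end Cfsg.Agent.UThreeLocal
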