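import Cfsg.Agent.Lib.UThreeLocal.Loc.KNormal

/-!
# The setting inside a normal subgroup of prime index
-/

set_option autoImplicit false
set_option linter.unusedSectionVars false
set_option linter.style.haveILetI false

namespace Cfsg.Agent.UThreeLocal

open Subgroup
open scoped commutatorElement

universe u

variable {G : Type u} [Group G] [Finite G] {Z Q Q1 Q2 L1 L2 : Subgroup G} {t1 t2 : G}

/-- An element whose order is prime to the index of a normal subgroup lies in it. -/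
theorem mem_of_coprime_index {K : Subgroup G} [K.Normal] {x : G} {n : ℕ} (hx : x ^ n = 1)
    (hc : Nat.Coprime n K.index) : x ∈ K := by
  have h1 : ((x : G ⧸ K)) ^ n = 1 := by rw [← QuotientGroup.mk_pow, hx, QuotientGroup.mk_one]
  have h2 : ((x : G ⧸ K)) ^ K.index = 1 := by rw [← QuotientGroup.mk_pow, QuotientGroup.eq_one_iff]; exact K.pow_index_mem x
  have := pow_gcd_eq_one.2 ⟨h1, h2⟩
  rw [hc.gcd_eq_one, pow_one, QuotientGroup.eq_one_iff] at this
  exact this

/-- A normal subgroup of index at most three containing the complement contains `Q`. -/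
theorem Frame.Q_le_of_normal (F : Frame Z Q Q1 Q2 L1 L2 t1 t2) {K : Subgroup G} [K.Normal] (hZ : Z ≤ K)
    (hK : K.index = 2 ∨ K.index = 3) (ht1 : t1 ∈ K) (ht2 : t2 ∈ K) : Q ≤ K := by
  intro q hq
  obtain ⟨a, ha, b, hb, rfl⟩ := F.pair.dec q hq
  have key : ∀ {x t : G}, x ∈ Q → t ∈ K → t * x * t⁻¹ * x ∈ Z → x ∈ K := by
    intro x t hx ht hz
    rcases hK with h2 | h3
    · exact mem_of_coprime_index (F.cube x hx) (by rw [h2]; norm_num)
    have hc : t * (x * t⁻¹ * x⁻¹) ∈ K := mul_mem ht (Normal.conj_mem inferInstance _ (inv_mem ht) x)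
    have hxx : x * x ∈ K := by
      have := mul_mem (inv_mem hc) (hZ hz)
      rwa [show (t * (x * t⁻¹ * x⁻¹))⁻¹ * (t * x * t⁻¹ * x) = x * x by group] at this
    have e : x = (x * x)⁻¹ * x ^ 3 := by group
    rw [e, F.cube x hx]
    exact mul_mem (inv_mem hxx) (one_mem _)
  exact mul_mem (key (F.pair.le1 ha) ht1 (F.t1_inv a ha)) (key (F.pair.le2 hb) ht2 (F.t2_inv b hb))

/-- The setting passes to a subgroup containing `Q` and the complements. -/
theorem Setting.restrict (h : Setting Z Q) {K : Subgroup G} (hQK : Q ≤ K)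
    (hLK : ∀ L : Subgroup G, L ≤ centralizer (Z : Set G) → Nonempty (↥L ≃* QQ) →
      centralizer (Z : Set G) ≤ normalizer ((Q ⊔ L : Subgroup G) : Set G) → L ≤ K) :
    Setting (Z.subgroupOf K) (Q.subgroupOf K) := by
  have hZK : Z ≤ K := h.Z_le.trans hQK
  have hcent : ∀ {S : Subgroup G}, S ≤ K → ∀ {x : ↥K},
      x ∈ centralizer ((S.subgroupOf K : Subgroup ↥K) : Set ↥K) ↔ (x : G) ∈ centralizer (S : Set G) := by
    intro S hS x
    simp only [mem_centralizer_iff, SetLike.mem_coe, mem_subgroupOf]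
    exact ⟨fun hx y hy => congrArg Subtype.val (hx ⟨y, hS hy⟩ hy), fun hx y hy => Subtype.ext (hx y hy)⟩
  have hnorm : ∀ {S : Subgroup G} {x : ↥K}, (x : G) ∈ normalizer (S : Set G) →
      x ∈ normalizer ((S.subgroupOf K : Subgroup ↥K) : Set ↥K) := fun {S x} hx =>
    mem_normalizer_iff.2 fun y => by
      simp only [SetLike.mem_coe, mem_subgroupOf, Subgroup.coe_mul, Subgroup.coe_inv]
      exact mem_normalizer_iff.1 hx y
  refine ⟨by rw [Nat.card_congr (subgroupOfEquivOfLe hZK).toEquiv, h.Z_card],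
    by rw [Nat.card_congr (subgroupOfEquivOfLe hQK).toEquiv, h.Q_card],
    fun x hx => (hcent hZK).2 (h.Q_le (mem_subgroupOf.1 hx)),
    fun x hx => hnorm (h.Q_norm ((hcent hZK).1 hx)), ?_, ?_, ?_, ?_, ?_, ?_⟩
  · ext x
    constructor
    · rintro ⟨y, hy, rfl⟩
      refine mem_subgroupOf.2 (h.mem_Z_of_comm (mem_subgroupOf.1 y.2) fun u hu => ?_)
      exact congrArg (fun w : ↥(Q.subgroupOf K) => ((w : ↥K) : G))
        (mem_center_iff.1 hy ⟨⟨u, hQK hu⟩, mem_subgroupOf.2 hu⟩)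
    · intro hx
      refine ⟨⟨x, mem_subgroupOf.2 (h.Z_le (mem_subgroupOf.1 hx))⟩, mem_center_iff.2 fun u => ?_, rfl⟩
      exact Subtype.ext (Subtype.ext (h.comm_Z (mem_subgroupOf.1 u.2) (mem_subgroupOf.1 hx)).symm)
  · rw [commutator_le]
    intro x hx y hy
    rw [mem_subgroupOf]
    simpa [commutatorElement_def] using h.comm_mem (mem_subgroupOf.1 hx) (mem_subgroupOf.1 hy)
  · intro x hx y hy
    refine Subtype.ext ?_
    simpa [commutatorElement_def] using h.cube _ (mem_subgroupOf.1 hx) _ (mem_subgroupOf.1 hy)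
  · ext x
    rw [hcent hQK, mem_subgroupOf, h.cent]
  · intro k hk x hx
    exact mem_subgroupOf.2 (h.wc k (fun z hz => mem_subgroupOf.1 (hk ⟨z, hZK hz⟩ hz)) _ (mem_subgroupOf.1 hx))
  · obtain ⟨L, hL, hiso, hn⟩ := h.L
    have hLK' := hLK L hL hiso hn
    obtain ⟨e⟩ := hiso
    refine ⟨L.subgroupOf K, fun x hx => (hcent hZK).2 (hL (mem_subgroupOf.1 hx)),
      ⟨(subgroupOfEquivOfLe hLK').trans e⟩, fun x hx => ?_⟩
    rw [← subgroupOf_sup hQK hLK']
    exact hnorm (hn ((hcent hZK).1 hx))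

/-- A second point lies in `C_K(Z)` when `G = K N(Z)`. -/
theorem exists_pt_restrict {K : Subgroup G} [K.Normal] (hZK : Z ≤ K) (hp : K.index.Prime)
    (hN : ¬ normalizer (Z : Set G) ≤ K) {y : G} (hy : IsPt Z y) (hyC : y ∈ centralizer (Z : Set G))
    (hyZ : y ∉ Z) :
    ∃ w : ↥K, IsPt (Z.subgroupOf K) w ∧ w ∈ centralizer ((Z.subgroupOf K : Subgroup ↥K) : Set ↥K) ∧
      w ∉ Z.subgroupOf K := by
  obtain ⟨g, z, hz, hz1, rfl⟩ := hy
  have htop : K ⊔ normalizer (Z : Set G) = ⊤ := by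
    refine index_eq_one.1 ?_
    rcases (Nat.dvd_prime hp).1 (index_dvd_of_le (le_sup_left : K ≤ K ⊔ normalizer (Z : Set G))) with e | e
    · exact e
    · refine absurd ?_ hN
      have h1 := relIndex_mul_index (le_sup_left : K ≤ K ⊔ normalizer (Z : Set G))
      rw [e] at h1
      have h2 : K.relIndex (K ⊔ normalizer (Z : Set G)) = 1 := by
        have := hp.pos
        nlinarith
      exact le_sup_right.trans (relIndex_eq_one.1 h2)
  have hg : g ∈ K ⊔ normalizer (Z : Set G) := htop ▸ mem_top g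
  obtain ⟨k, hk, n, hn, rfl⟩ := mem_sup_of_normal_left.1 hg
  have hz' : n * z * n⁻¹ ∈ Z := (mem_normalizer_iff.1 hn z).1 hz
  refine ⟨⟨k, hk⟩ * ⟨n * z * n⁻¹, hZK hz'⟩ * ⟨k, hk⟩⁻¹, ⟨⟨k, hk⟩, ⟨n * z * n⁻¹, hZK hz'⟩, hz', ?_, rfl⟩, ?_, ?_⟩
  · exact fun e => hz1 (conj_eq_one_iff.1 (congrArg Subtype.val e))
  · refine mem_centralizer_iff.2 fun u hu => Subtype.ext ?_
    have := mem_centralizer_iff.1 hyC (u : G) (mem_subgroupOf.1 hu)
    simp only [Subgroup.coe_mul, Subgroup.coe_inv]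
    simpa [mul_assoc] using this
  · rw [mem_subgroupOf]
    simp only [Subgroup.coe_mul, Subgroup.coe_inv]
    intro hm
    exact hyZ (by simpa [mul_assoc] using hm)

end Cfsg.Agent.UThreeLocal
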