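import Cfsg.Agent.Lib.UThreeLocal.Loc.FrameExists

/-!
# The action of 3-elements of `C(Z)` on the two factors
-/

set_option autoImplicit false
set_option linter.unusedSectionVars false
set_option linter.style.haveILetI false

namespace Cfsg.Agent.UThreeLocal

open Subgroup
open scoped commutatorElement

universe u

variable {G : Type u} [Group G] [Finite G] {Z Q Q1 Q2 L1 L2 : Subgroup G} {t1 t2 : G}

/-- `c` acts trivially on `R/Z`. -/
def Triv (Z R : Subgroup G) (c : G) : Prop := ∀ x ∈ R, x⁻¹ * (c * x * c⁻¹) ∈ Z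

/-- Conjugation by a product, modulo a normal part. -/
theorem shift_mul (x c d : G) :
    x⁻¹ * (c * d * x * (c * d)⁻¹) = (x⁻¹ * (c * x * c⁻¹)) * (c * (x⁻¹ * (d * x * d⁻¹)) * c⁻¹) := by group

theorem shift_mul_right (x y c : G) :
    (x * y)⁻¹ * (c * (x * y) * c⁻¹) = (y⁻¹ * (x⁻¹ * (c * x * c⁻¹)) * y) * (y⁻¹ * (c * y * c⁻¹)) := by group

namespace Pair

variable (P : Pair Z Q Q1 Q2) (h : Setting Z Q)
include P h

/-- An element fixing `Z`, `a` and `b` centralises `Q1`. -/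
theorem cent_of_gens {a b g : G} (ha : a ∈ Q1) (hb : b ∈ Q1) (hab : a * b ≠ b * a)
    (hgZ : g ∈ centralizer (Z : Set G)) (hga : g * a = a * g) (hgb : g * b = b * g) :
    g ∈ centralizer (Q1 : Set G) := by
  haveI : Fact (Nat.Prime 3) := ⟨Nat.prime_three⟩
  have haZ : a ∉ Z := fun e => hab (h.comm_Z (P.le1 hb) e)
  set M := Q1 ⊓ centralizer ({g} : Set G) with hM
  have hA : Z ⊔ zpowers a ≤ M := sup_le
    (le_inf P.Z1 fun z hz => mem_centralizer_singleton_iff.2 (mem_centralizer_iff.1 hgZ z hz))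
    (zpowers_le.2 ⟨ha, mem_centralizer_singleton_iff.2 hga.symm⟩)
  have hbM : b ∈ M := ⟨hb, mem_centralizer_singleton_iff.2 hgb.symm⟩
  have hnot : b ∉ Z ⊔ zpowers a := fun e => by
    rw [← P.cent_eq h ha haZ] at e
    exact hab (mem_centralizer_singleton_iff.1 e.2).symm
  have hA9 : 9 ≤ Nat.card ↥(Z ⊔ zpowers a) := by
    obtain ⟨k, hk, ek⟩ := (Nat.dvd_prime_pow Nat.prime_three).1 (show Nat.card ↥(Z ⊔ zpowers a) ∣ 3 ^ 3 by
      rw [show (3 : ℕ) ^ 3 = Nat.card Q1 by rw [P.card1]; norm_num]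
      exact card_dvd_of_le (sup_le P.Z1 (zpowers_le.2 ha)))
    by_contra hlt
    have hk1 : k ≤ 1 := by
      by_contra hk2
      rw [ek] at hlt
      exact hlt (le_trans (by norm_num) (Nat.pow_le_pow_right (by norm_num : 1 ≤ 3) (show 2 ≤ k by omega)))
    exact haZ ((Subgroup.eq_of_le_of_card_ge le_sup_left (by
      rw [ek, h.Z_card]
      calc 3 ^ k ≤ 3 ^ 1 := Nat.pow_le_pow_right (by norm_num) hk1
        _ = 3 := by norm_num)).ge (mem_sup_right (mem_zpowers a)))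
  have hMQ : M = Q1 := by
    refine Subgroup.eq_of_le_of_card_ge inf_le_left ?_
    obtain ⟨k, hk, ek⟩ := (Nat.dvd_prime_pow Nat.prime_three).1 (show Nat.card ↥M ∣ 3 ^ 3 by
      rw [show (3 : ℕ) ^ 3 = Nat.card Q1 by rw [P.card1]; norm_num]
      exact card_dvd_of_le inf_le_left)
    have hlt : Nat.card ↥(Z ⊔ zpowers a) < Nat.card ↥M := by
      refine lt_of_le_of_ne (Subgroup.card_le_of_le hA) fun e => hnot ?_
      rw [Subgroup.eq_of_le_of_card_ge hA e.ge]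
      exact hbM
    rw [P.card1, ek]
    rw [ek] at hlt
    have : 3 ≤ k := by
      by_contra hk2
      have : 3 ^ k ≤ 3 ^ 2 := Nat.pow_le_pow_right (by norm_num) (by omega)
      omega
    exact le_trans (by norm_num) (Nat.pow_le_pow_right (by norm_num : 1 ≤ 3) this)
  exact mem_centralizer_iff.2 fun x hx => mem_centralizer_singleton_iff.1 ((hMQ.ge hx).2)

end Pair

namespace Frame

variable (F : Frame Z Q Q1 Q2 L1 L2 t1 t2)
include F

theorem triv_Q {q : G} (hq : q ∈ Q) {R : Subgroup G} (hR : R ≤ Q) : Triv Z R q := fun x hx => by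
  rw [show x⁻¹ * (q * x * q⁻¹) = ⁅x⁻¹, q⁆ by rw [commutatorElement_def]; group]
  exact F.set.comm_mem (inv_mem (hR hx)) hq

/-- The elements of `C(Z)` trivial on `Q1/Z` and `Q2/Z` are those of `Q`. -/
theorem mem_Q_of_triv {c : G} (hc : c ∈ centralizer (Z : Set G)) (h1 : Triv Z Q1 c) (h2 : Triv Z Q2 c) :
    c ∈ Q := by
  classical
  have h := F.set
  let K : Subgroup G :=
    { carrier := {g | g ∈ centralizer (Z : Set G) ∧ Triv Z Q1 g ∧ Triv Z Q2 g}
      one_mem' := ⟨one_mem _, fun x _ => by simp, fun x _ => by simp⟩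
      mul_mem' := by
        rintro g k ⟨hg, hg1, hg2⟩ ⟨hk, hk1, hk2⟩
        refine ⟨mul_mem hg hk, fun x hx => ?_, fun x hx => ?_⟩ <;> rw [shift_mul]
        · rw [h.conj_Z hg (hk1 x hx)]; exact mul_mem (hg1 x hx) (hk1 x hx)
        · rw [h.conj_Z hg (hk2 x hx)]; exact mul_mem (hg2 x hx) (hk2 x hx)
      inv_mem' := by
        rintro g ⟨hg, hg1, hg2⟩
        have e : ∀ x : G, x⁻¹ * (g⁻¹ * x * g⁻¹⁻¹) = g⁻¹ * (x⁻¹ * (g * x * g⁻¹))⁻¹ * g⁻¹⁻¹ := fun x => by group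
        refine ⟨inv_mem hg, fun x hx => ?_, fun x hx => ?_⟩ <;> rw [e]
        · rw [h.conj_Z (inv_mem hg) (inv_mem (hg1 x hx))]; exact inv_mem (hg1 x hx)
        · rw [h.conj_Z (inv_mem hg) (inv_mem (hg2 x hx))]; exact inv_mem (hg2 x hx) }
  have hQK : Q ≤ K := fun q hq => ⟨h.Q_le hq, F.triv_Q hq F.pair.le1, F.triv_Q hq F.pair.le2⟩
  obtain ⟨a1, ha1, ha1Z⟩ : ∃ a ∈ Q1, a ∉ Z := by
    by_contra hc
    push Not at hc
    have := Subgroup.card_le_of_le (show Q1 ≤ Z from hc)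
    rw [F.pair.card1, h.Z_card] at this
    omega
  obtain ⟨a2, ha2, ha2Z⟩ : ∃ a ∈ Q2, a ∉ Z := by
    by_contra hc
    push Not at hc
    have := Subgroup.card_le_of_le (show Q2 ≤ Z from hc)
    rw [F.pair.card2, h.Z_card] at this
    omega
  obtain ⟨b1, hb1, hab1⟩ := F.pair.exists_noncomm h ha1 ha1Z
  obtain ⟨b2, hb2, hab2⟩ := F.pair.symm.exists_noncomm h ha2 ha2Z
  set Zs := Z.subgroupOf K with hZs
  have hZK : Z ≤ K := h.Z_le.trans hQK
  let sh : ↥K → G → G := fun g x => x⁻¹ * ((g : G) * x * (g : G)⁻¹)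
  let f : ↥K ⧸ Zs → ↥Z × ↥Z × ↥Z × ↥Z := fun p =>
    let g := Quotient.out p
    (⟨sh g a1, g.2.2.1 a1 ha1⟩, ⟨sh g b1, g.2.2.1 b1 hb1⟩, ⟨sh g a2, g.2.2.2 a2 ha2⟩, ⟨sh g b2, g.2.2.2 b2 hb2⟩)
  have hf : Function.Injective f := by
    intro p p' e
    simp only [f, sh, Prod.mk.injEq, Subtype.mk.injEq, mul_right_inj] at e
    set g := ((Quotient.out p : ↥K) : G) with hg
    set g' := ((Quotient.out p' : ↥K) : G) with hg'
    obtain ⟨e1, e2, e3, e4⟩ := e
    have hfix : ∀ x : G, g * x * g⁻¹ = g' * x * g'⁻¹ → g⁻¹ * g' * x = x * (g⁻¹ * g') := fun x ex => by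
      calc g⁻¹ * g' * x = g⁻¹ * (g' * x * g'⁻¹) * g' := by group
        _ = g⁻¹ * (g * x * g⁻¹) * g' := by rw [ex]
        _ = x * (g⁻¹ * g') := by group
    rw [← Quotient.out_eq p, ← Quotient.out_eq p']
    refine QuotientGroup.eq.2 ?_
    show g⁻¹ * g' ∈ Z
    have hmC : g⁻¹ * g' ∈ centralizer (Z : Set G) :=
      mul_mem (inv_mem (Quotient.out p).2.1) (Quotient.out p').2.1
    have c1' := F.pair.cent_of_gens h ha1 hb1 hab1 hmC (hfix _ e1) (hfix _ e2)
    have c2' := F.pair.symm.cent_of_gens h ha2 hb2 hab2 hmC (hfix _ e3) (hfix _ e4)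
    rw [← h.cent]
    refine mem_centralizer_iff.2 fun x hx => ?_
    obtain ⟨a, ha, b, hb, rfl⟩ := F.pair.dec x hx
    rw [mul_assoc, mem_centralizer_iff.1 c2' b hb, ← mul_assoc, mem_centralizer_iff.1 c1' a ha, mul_assoc]
  have hcard := Nat.card_le_card_of_injective f hf
  simp only [Nat.card_prod, h.Z_card] at hcard
  have hK : Nat.card ↥K ≤ Nat.card ↥Q := by
    rw [card_eq_card_quotient_mul_card_subgroup Zs, Nat.card_congr (subgroupOfEquivOfLe hZK).toEquiv, h.Z_card,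
      h.Q_card]
    omega
  exact (Subgroup.eq_of_le_of_card_ge hQK hK).ge ⟨hc, h1, h2⟩

theorem not_swap_both {x : G} (h1 : x ∈ Q1) (h2 : x ∈ Q2) : x ∈ Z :=
  (F.pair.inf_eq F.set).le ⟨h1, h2⟩

/-- Elements of 3-power order normalise both factors. -/
theorem normal_of_three {c : G} {k : ℕ} (hc : c ∈ centralizer (Z : Set G)) (hk : c ^ 3 ^ k = 1) :
    (∀ x, x ∈ Q1 ↔ c * x * c⁻¹ ∈ Q1) ∧ ∀ x, x ∈ Q2 ↔ c * x * c⁻¹ ∈ Q2 := by
  refine (F.perm c hc).resolve_right fun ⟨h1, h2⟩ => ?_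
  have key : ∀ n : ℕ, (∀ x ∈ Q1, c ^ (2 * n + 1) * x * (c ^ (2 * n + 1))⁻¹ ∈ Q2) := by
    intro n
    induction n with
    | zero => intro x hx; simpa using (h1 x).1 hx
    | succ n ih =>
      intro x hx
      have e : c ^ (2 * (n + 1) + 1) * x * (c ^ (2 * (n + 1) + 1))⁻¹ =
          c * (c * (c ^ (2 * n + 1) * x * (c ^ (2 * n + 1))⁻¹) * c⁻¹) * c⁻¹ := by
        rw [show 2 * (n + 1) + 1 = (2 * n + 1) + 1 + 1 by ring, pow_succ', pow_succ']
        group
      rw [e]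
      exact (h1 _).1 ((h2 _).1 (ih x hx))
  obtain ⟨n, hn⟩ : Odd (3 ^ k) := Odd.pow ⟨1, rfl⟩
  have := Subgroup.card_le_of_le (show Q1 ≤ Z from fun x hx => F.not_swap_both hx (by
    have := key n x hx
    rwa [← hn, hk, one_mul, inv_one, mul_one] at this))
  rw [F.pair.card1, F.set.Z_card] at this
  omega

/-- A 3-subgroup of `C(Z)` fixes some `aZ` in `Q1` and moves `Q1` into `Z⟨a⟩`. -/
theorem exists_flag {P : Subgroup G} (hP : IsPGroup 3 ↥P) (hPC : P ≤ centralizer (Z : Set G)) :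
    ∃ a ∈ Q1, a ∉ Z ∧ (∀ c ∈ P, a⁻¹ * (c * a * c⁻¹) ∈ Z) ∧
      ∀ c ∈ P, ∀ x ∈ Q1, x⁻¹ * (c * x * c⁻¹) ∈ Z ⊔ zpowers a := by
  classical
  haveI : Fact (Nat.Prime 3) := ⟨Nat.prime_three⟩
  have h := F.set
  have hN : ∀ c : ↥P, (c : G) ∈ normalizer (Q1 : Set G) := fun c => by
    obtain ⟨k, hk⟩ := hP c
    exact mem_normalizer_iff.2 (F.normal_of_three (hPC c.2) (k := k) (by simpa using congrArg Subtype.val hk)).1
  set Zs := Z.subgroupOf Q1 with hZs
  -- the action on the cosets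
  let act : ↥P → ↥Q1 ⧸ Zs → ↥Q1 ⧸ Zs := fun c => Quotient.map'
    (fun x => (⟨(c : G) * x * (c : G)⁻¹, (mem_normalizer_iff.1 (hN c) _).1 x.2⟩ : ↥Q1)) (by
      intro x y hxy
      rw [QuotientGroup.leftRel_apply, mem_subgroupOf] at hxy ⊢
      show ((c : G) * x * (c : G)⁻¹)⁻¹ * ((c : G) * y * (c : G)⁻¹) ∈ Z
      rw [show ((c : G) * x * (c : G)⁻¹)⁻¹ * ((c : G) * y * (c : G)⁻¹) =
        (c : G) * ((x : G)⁻¹ * y) * (c : G)⁻¹ by group]
      simp only [Subgroup.coe_mul, Subgroup.coe_inv] at hxy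
      rw [h.conj_Z (hPC c.2) hxy]
      exact hxy)
  letI : MulAction ↥P (↥Q1 ⧸ Zs) :=
    { smul := act
      one_smul := fun p => by
        induction p using Quotient.inductionOn' with
        | h x => exact congrArg Quotient.mk'' (Subtype.ext (by simp))
      mul_smul := fun c d p => by
        induction p using Quotient.inductionOn' with
        | h x => exact congrArg Quotient.mk'' (Subtype.ext (by simp [mul_assoc])) }
  have hcard : Nat.card (↥Q1 ⧸ Zs) = 9 := by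
    have := card_eq_card_quotient_mul_card_subgroup Zs
    rw [F.pair.card1, Nat.card_congr (subgroupOfEquivOfLe F.pair.Z1).toEquiv, h.Z_card] at this
    omega
  have h1fix : ((1 : ↥Q1) : ↥Q1 ⧸ Zs) ∈ MulAction.fixedPoints ↥P (↥Q1 ⧸ Zs) := fun c => by
    show act c _ = _
    exact congrArg Quotient.mk'' (Subtype.ext (by simp))
  obtain ⟨p, hpfix, hpne⟩ := hP.exists_fixed_point_of_prime_dvd_card_of_fixed_point (↥Q1 ⧸ Zs)
    (by rw [hcard]; norm_num) h1fix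
  obtain ⟨⟨a, ha⟩, rfl⟩ := QuotientGroup.mk_surjective p
  have haZ : a ∉ Z := fun e => hpne (QuotientGroup.eq.2 (show ((1⁻¹ * ⟨a, ha⟩ : ↥Q1) : G) ∈ Z by simpa using e))
  have hfix : ∀ c ∈ P, a⁻¹ * (c * a * c⁻¹) ∈ Z := fun c hc => by
    have := QuotientGroup.eq.1 (hpfix ⟨c, hc⟩).symm
    rw [mem_subgroupOf] at this
    exact this
  refine ⟨a, ha, haZ, hfix, fun c hc x hx => ?_⟩
  rw [← F.pair.cent_eq h ha haZ]
  have hcxQ : c * x * c⁻¹ ∈ Q1 := (mem_normalizer_iff.1 (hN ⟨c, hc⟩) x).1 hx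
  refine mem_inf.2 ⟨mul_mem (inv_mem hx) hcxQ, mem_centralizer_singleton_iff.2 ?_⟩
  set z := a⁻¹ * (c * a * c⁻¹) with hz
  have hzQ := h.Z_le (hfix c hc)
  have hzc : ⁅z, c * x * c⁻¹⁆ = 1 :=
    commutatorElement_eq_one_iff_mul_comm.2 (h.comm_Z (F.pair.le1 hcxQ) (hfix c hc))
  have e2 : ⁅a, c * x * c⁻¹⁆ = ⁅a, x⁆ := by
    calc ⁅a, c * x * c⁻¹⁆ = ⁅a * z, c * x * c⁻¹⁆ := by
          rw [h.comm_mul_left (F.pair.le1 ha) hzQ (F.pair.le1 hcxQ), hzc, mul_one]
      _ = c * ⁅a, x⁆ * c⁻¹ := by rw [hz, mul_inv_cancel_left]; simp only [commutatorElement_def]; group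
      _ = ⁅a, x⁆ := h.conj_Z (hPC hc) (h.comm_mem (F.pair.le1 ha) (F.pair.le1 hx))
  have e3 : ⁅a, x⁻¹ * (c * x * c⁻¹)⁆ = 1 := by
    rw [h.comm_mul_right (inv_mem (F.pair.le1 hx)) (F.pair.le1 hcxQ) (F.pair.le1 ha), e2,
      ← h.comm_mul_right (inv_mem (F.pair.le1 hx)) (F.pair.le1 hx) (F.pair.le1 ha), inv_mul_cancel,
      commutatorElement_one_right]
  exact (commutatorElement_eq_one_iff_mul_comm.1 e3).symm

/-- The character of a 3-subgroup on one factor. -/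
theorem exists_char {P : Subgroup G} (hP : IsPGroup 3 ↥P) (hPC : P ≤ centralizer (Z : Set G)) :
    ∃ χ : ↥P →* Multiplicative (ZMod 3), ∀ c : ↥P, χ c = 1 ↔ Triv Z Q1 (c : G) := by
  classical
  haveI : Fact (Nat.Prime 3) := ⟨Nat.prime_three⟩
  have h := F.set
  obtain ⟨a, ha, haZ, hfix, hmove⟩ := F.exists_flag hP hPC
  obtain ⟨b, hb, hab⟩ := F.pair.exists_noncomm h ha haZ
  set A := Z ⊔ zpowers a with hA
  have hAQ1 : A ≤ Q1 := sup_le F.pair.Z1 (zpowers_le.2 ha)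
  have hAQ : A ≤ Q := hAQ1.trans F.pair.le1
  haveI : (Z.subgroupOf A).Normal := normal_subgroupOf_of_le_normalizer
    (fun u hu => Subgroup.mem_normalizer_fintype fun z hz => by
      rw [SetLike.mem_coe, ← h.comm_Z (hAQ hu) hz, mul_inv_cancel_right]; exact hz)
  have hZA : Z ≤ A := le_sup_left
  -- elements of `A` are fixed modulo `Z`
  have hAfix : ∀ c ∈ P, ∀ v ∈ A, v⁻¹ * (c * v * c⁻¹) ∈ Z := by
    intro c hc v hv
    let M : Subgroup G :=
      { carrier := {u | u ∈ Q ∧ u⁻¹ * (c * u * c⁻¹) ∈ Z}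
        one_mem' := ⟨one_mem _, by simp⟩
        mul_mem' := by
          rintro u w ⟨huQ, hu⟩ ⟨hwQ, hw⟩
          refine ⟨mul_mem huQ hwQ, ?_⟩
          rw [shift_mul_right, mul_assoc w⁻¹, h.comm_Z hwQ hu, inv_mul_cancel_left]
          exact mul_mem hu hw
        inv_mem' := by
          rintro u ⟨huQ, hu⟩
          refine ⟨inv_mem huQ, ?_⟩
          rw [show u⁻¹⁻¹ * (c * u⁻¹ * c⁻¹) = u * (u⁻¹ * (c * u * c⁻¹))⁻¹ * u⁻¹ by group,
            ← h.comm_Z huQ (inv_mem hu), mul_inv_cancel_right]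
          exact inv_mem hu }
    exact ((sup_le (fun z hz => show z ∈ M from ⟨h.Z_le hz, by rw [h.conj_Z (hPC hc) hz, inv_mul_cancel]; exact Z.one_mem⟩)
      (zpowers_le.2 (show a ∈ M from ⟨F.pair.le1 ha, hfix c hc⟩))) hv).2
  let f : ↥P → ↥A ⧸ Z.subgroupOf A := fun c =>
    QuotientGroup.mk ⟨b⁻¹ * ((c : G) * b * (c : G)⁻¹), hmove c c.2 b hb⟩
  have hf : ∀ c d, f (c * d) = f c * f d := by
    intro c d
    show QuotientGroup.mk _ = QuotientGroup.mk _ * QuotientGroup.mk _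
    rw [← QuotientGroup.mk_mul]
    refine QuotientGroup.eq.2 ?_
    rw [mem_subgroupOf]
    simp only [Subgroup.coe_mul, Subgroup.coe_inv]
    set u := b⁻¹ * ((c : G) * b * (c : G)⁻¹) with hu
    set v := b⁻¹ * ((d : G) * b * (d : G)⁻¹) with hv
    rw [shift_mul, ← hu, ← hv,
      show (u * ((c : G) * v * (c : G)⁻¹))⁻¹ * (u * v) = ((v)⁻¹ * ((c : G) * v * (c : G)⁻¹))⁻¹ by group]
    exact inv_mem (hAfix c c.2 v (hmove d d.2 b hb))
  let χ0 : ↥P →* ↥A ⧸ Z.subgroupOf A := MonoidHom.mk' f hf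
  have hA9 : Nat.card (↥A ⧸ Z.subgroupOf A) = 3 := by
    have h1 := card_eq_card_quotient_mul_card_subgroup (Z.subgroupOf A)
    rw [Nat.card_congr (subgroupOfEquivOfLe hZA).toEquiv, h.Z_card] at h1
    obtain ⟨k, hk, ek⟩ := (Nat.dvd_prime_pow Nat.prime_three).1 (show Nat.card ↥A ∣ 3 ^ 3 by
      rw [show (3 : ℕ) ^ 3 = Nat.card Q1 by rw [F.pair.card1]; norm_num]
      exact card_dvd_of_le hAQ1)
    have hk3 : k ≠ 3 := fun e => by
      have hbA : b ∈ A :=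
        (Subgroup.eq_of_le_of_card_ge hAQ1 (by rw [ek, e, F.pair.card1]; norm_num)).ge hb
      rw [hA, ← F.pair.cent_eq h ha haZ] at hbA
      exact hab (mem_centralizer_singleton_iff.1 hbA.2).symm
    have hk2 : 2 ≤ k := by
      by_contra hlt
      exact haZ ((Subgroup.eq_of_le_of_card_ge hZA (by
        rw [ek, h.Z_card]
        calc 3 ^ k ≤ 3 ^ 1 := Nat.pow_le_pow_right (by norm_num) (by omega)
          _ = 3 := by norm_num)).ge (mem_sup_right (mem_zpowers a)))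
    obtain rfl : k = 2 := by omega
    rw [ek] at h1
    omega
  let e := mulEquivOfPrimeCardEq (p := 3) hA9 (show Nat.card (Multiplicative (ZMod 3)) = 3 by simp)
  refine ⟨e.toMonoidHom.comp χ0, fun c => ?_⟩
  rw [MonoidHom.comp_apply, MulEquiv.coe_toMonoidHom, map_eq_one_iff e e.injective]
  show f c = 1 ↔ _
  rw [QuotientGroup.eq_one_iff, mem_subgroupOf]
  constructor
  · intro hbz x hx
    -- the fixed elements modulo `Z` form a subgroup containing `A` and `b`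
    let M : Subgroup G :=
      { carrier := {u | u ∈ Q1 ∧ u⁻¹ * ((c : G) * u * (c : G)⁻¹) ∈ Z}
        one_mem' := ⟨one_mem _, by simp⟩
        mul_mem' := by
          rintro u w ⟨huQ, hu⟩ ⟨hwQ, hw⟩
          refine ⟨mul_mem huQ hwQ, ?_⟩
          rw [shift_mul_right, mul_assoc w⁻¹, h.comm_Z (F.pair.le1 hwQ) hu, inv_mul_cancel_left]
          exact mul_mem hu hw
        inv_mem' := by
          rintro u ⟨huQ, hu⟩
          refine ⟨inv_mem huQ, ?_⟩
          rw [show u⁻¹⁻¹ * ((c : G) * u⁻¹ * (c : G)⁻¹) = u * (u⁻¹ * ((c : G) * u * (c : G)⁻¹))⁻¹ * u⁻¹ by group,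
            ← h.comm_Z (F.pair.le1 huQ) (inv_mem hu), mul_inv_cancel_right]
          exact inv_mem hu }
    have hAM : A ≤ M := fun v hv => ⟨hAQ1 hv, hAfix c c.2 v hv⟩
    have hbM : b ∈ M := ⟨hb, hbz⟩
    have hMQ : M = Q1 := by
      refine Subgroup.eq_of_le_of_card_ge (fun _ hu => hu.1) ?_
      obtain ⟨k, hk, ek⟩ := (Nat.dvd_prime_pow Nat.prime_three).1 (show Nat.card ↥M ∣ 3 ^ 3 by
        rw [show (3 : ℕ) ^ 3 = Nat.card Q1 by rw [F.pair.card1]; norm_num]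
        exact card_dvd_of_le (fun _ hu => hu.1))
      have hA' : Nat.card ↥A = 9 := by
        rw [card_eq_card_quotient_mul_card_subgroup (Z.subgroupOf A), hA9,
          Nat.card_congr (subgroupOfEquivOfLe hZA).toEquiv, h.Z_card]
      have hlt : Nat.card ↥A < Nat.card ↥M := by
        refine lt_of_le_of_ne (Subgroup.card_le_of_le hAM) fun e' => ?_
        have hbA : b ∈ A := (Subgroup.eq_of_le_of_card_ge hAM e'.ge).ge hbM
        rw [hA, ← F.pair.cent_eq h ha haZ] at hbA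
        exact hab (mem_centralizer_singleton_iff.1 hbA.2).symm
      rw [hA', ek] at hlt
      rw [F.pair.card1, ek]
      have : 3 ≤ k := by
        by_contra hk2
        have : 3 ^ k ≤ 3 ^ 2 := Nat.pow_le_pow_right (by norm_num) (by omega)
        omega
      exact le_trans (by norm_num) (Nat.pow_le_pow_right (by norm_num : 1 ≤ 3) this)
    exact (hMQ.ge hx).2
  · exact fun ht => ht b hb

end Frame

end Cfsg.Agent.UThreeLocal
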