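import Cfsg.Agent.Lib.UThreeLocal.Loc.Good

/-!
# The local data handed to the determination of `C(t₂)`

`r = t2` centralises `Q1` and inverts `Q2/Z`; `A = E ∩ C(r) = ⟨z, a₁, y⟩`.
-/

set_option autoImplicit false

namespace Cfsg.Agent.UThreeLocal

open Subgroup

universe u

variable {G : Type u} [Group G]

/-- The 3-local data, when a Sylow 3-subgroup has order `3⁶`. -/
structure Local (Z Q Q1 Q2 L1 L2 E : Subgroup G) (t1 t2 z y a1 a2 : G) : Prop where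
  frame : Frame Z Q Q1 Q2 L1 L2 t1 t2
  small : ∀ P : Subgroup G, IsPGroup 3 ↥P → P ≤ centralizer (Z : Set G) → Nat.card ↥P ∣ 729
  z_mem : z ∈ Z
  z_ne : z ≠ 1
  pt : IsPt Z y
  y_cent : y ∈ centralizer (Z : Set G)
  y_not : y ∉ Z
  y_t2 : t2 * y = y * t2
  flag1 : Flag Z Q1 (zpowers y) a1
  flag2 : Flag Z Q2 (zpowers y) a2
  E_eq : E = Fx Q y ⊔ zpowers y
  E_card : Nat.card ↥E = 81
  E_comm : ∀ u ∈ E, ∀ v ∈ E, u * v = v * u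
  E_exp : ∀ u ∈ E, u ^ 3 = 1
  other : ∀ g : G, y ∈ cj g Z → E = Fx (cj g Q) z ⊔ Z
  hyper : ∀ M : Subgroup G, M ≤ E → Nat.card ↥M = 27 → ∃ x ∈ M, IsPt Z x
  sig : ∀ K : Subgroup G, (Nat.card ↥K).Coprime 3 → E ≤ normalizer (K : Set G) → K = ⊥

/-- The same data without a bound on the Sylow 3-subgroup. -/
structure Core (Z Q Q1 Q2 L1 L2 E : Subgroup G) (t1 t2 z y a1 a2 : G) : Prop where
  frame : Frame Z Q Q1 Q2 L1 L2 t1 t2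
  z_mem : z ∈ Z
  z_ne : z ≠ 1
  pt : IsPt Z y
  y_cent : y ∈ centralizer (Z : Set G)
  y_not : y ∉ Z
  y_t2 : t2 * y = y * t2
  flag1 : Flag Z Q1 (zpowers y) a1
  flag2 : Flag Z Q2 (zpowers y) a2
  E_eq : E = Fx Q y ⊔ zpowers y
  E_card : Nat.card ↥E = 81
  E_comm : ∀ u ∈ E, ∀ v ∈ E, u * v = v * u
  E_exp : ∀ u ∈ E, u ^ 3 = 1
  other : ∀ g : G, y ∈ cj g Z → E = Fx (cj g Q) z ⊔ Z
  hyper : ∀ M : Subgroup G, M ≤ E → Nat.card ↥M = 27 → ∃ x ∈ M, IsPt Z x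
  sig : ∀ K : Subgroup G, (Nat.card ↥K).Coprime 3 → E ≤ normalizer (K : Set G) → K = ⊥

theorem Local.core {Z Q Q1 Q2 L1 L2 E : Subgroup G} {t1 t2 z y a1 a2 : G}
    (h : Local Z Q Q1 Q2 L1 L2 E t1 t2 z y a1 a2) : Core Z Q Q1 Q2 L1 L2 E t1 t2 z y a1 a2 :=
  ⟨h.frame, h.z_mem, h.z_ne, h.pt, h.y_cent, h.y_not, h.y_t2, h.flag1, h.flag2, h.E_eq, h.E_card, h.E_comm,
    h.E_exp, h.other, h.hyper, h.sig⟩

end Cfsg.Agent.UThreeLocal
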