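import Cfsg.Agent.Lib.UThreeLocal.Loc.Restrict
import Cfsg.Agent.Lib.UThreeLocal.Loc.Interface

/-!
# The conclusion from the three recognition steps, by induction on the order
-/

set_option autoImplicit false
set_option linter.unusedSectionVars false
set_option linter.style.haveILetI false

namespace Cfsg.Agent.UThreeLocal

open Subgroup
open scoped commutatorElement

universe u

/-- `F*(G) ≅ PSU₆(2)` with trivial centralizer. -/
def IsU6Type (G : Type u) [Group G] : Prop :=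
  (∃ (F : Type) (_ : Field F) (_ : Fintype F), Fintype.card F = 4 ∧
      Nonempty (↥(Cfsg.generalizedFittingSubgroup G) ≃* Cfsg.PSU 6 F 2)) ∧
    centralizer ((Cfsg.generalizedFittingSubgroup G : Subgroup G) : Set G) = ⊥

/-- The point given by the failure of weak closure in `C(Z)`. -/
theorem exists_pt_of_not_wc {G : Type u} [Group G] [Finite G] {Z H : Subgroup G} (h3 : Nat.card Z = 3)
    (hH : H = centralizer (Z : Set G)) (hnwc : ¬ Cfsg.IsWeaklyClosed Z H) :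
    ∃ y, IsPt Z y ∧ y ∈ centralizer (Z : Set G) ∧ y ∉ Z := by
  haveI : Fact (Nat.Prime 3) := ⟨Nat.prime_three⟩
  haveI : IsCyclic ↥Z := isCyclic_of_prime_card h3
  have hZH : Z ≤ H := hH ▸ fun x hx => mem_centralizer_iff.2 fun y hy =>
    congrArg Subtype.val (IsMulCommutative.is_comm.comm (⟨y, hy⟩ : ↥Z) ⟨x, hx⟩)
  simp only [Cfsg.IsWeaklyClosed, hZH, true_and, not_forall, exists_prop] at hnwc
  obtain ⟨g, hg, hne⟩ := hnwc
  obtain ⟨z, hz, hz1⟩ : ∃ z ∈ Z, z ≠ 1 := by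
    by_contra hc
    push Not at hc
    rw [(eq_bot_iff.2 fun x hx => mem_bot.2 (hc x hx) : Z = ⊥), card_bot] at h3
    norm_num at h3
  refine ⟨g * z * g⁻¹, ⟨g, z, hz, hz1, rfl⟩, hH ▸ hg ⟨z, hz, rfl⟩, fun hy => hne ?_⟩
  rw [← zpowers_eq_of_prime h3 hz hz1, MonoidHom.map_zpowers]
  simp only [MulEquiv.coe_toMonoidHom, MulAut.conj_apply]
  rw [zpowers_eq_of_prime h3 hy fun e => hz1 (conj_eq_one_iff.1 e), zpowers_eq_of_prime h3 hz hz1]

/-- The inputs of the induction: the recognition when the Sylow 3-subgroup has order `3⁶`, a normal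
subgroup of prime index otherwise, and the ascent from such a subgroup. -/
structure Steps : Prop where
  small : ∀ {G : Type u} [Group G] [Finite G] {Z Q Q1 Q2 L1 L2 E : Subgroup G} {t1 t2 z y a1 a2 : G},
    Local Z Q Q1 Q2 L1 L2 E t1 t2 z y a1 a2 → IsU6Type G
  char : ∀ {G : Type u} [Group G] [Finite G] {Z Q Q1 Q2 L1 L2 : Subgroup G} {t1 t2 y : G},
    Frame Z Q Q1 Q2 L1 L2 t1 t2 → IsPt Z y → y ∈ centralizer (Z : Set G) → y ∉ Z →
    ∀ P : Subgroup G, IsPGroup 3 ↥P → P ≤ centralizer (Z : Set G) → Nat.card ↥P = 2187 →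
    ∀ (φ : ↥(normalizer (Z : Set G)) →* Multiplicative (ZMod 3)) (c : ↥(normalizer (Z : Set G))),
      (c : G) ∈ P → φ c ≠ 1 →
      ∃ K : Subgroup G, K.Normal ∧ K.index = 3 ∧ Z ≤ K ∧ ¬ normalizer (Z : Set G) ≤ K
  outer : ∀ {G : Type u} [Group G] [Finite G] {Z Q Q1 Q2 L1 L2 : Subgroup G} {t1 t2 y : G},
    Frame Z Q Q1 Q2 L1 L2 t1 t2 → IsPt Z y → y ∈ centralizer (Z : Set G) → y ∉ Z →
    ∀ P : Subgroup G, IsPGroup 3 ↥P → P ≤ centralizer (Z : Set G) → Nat.card ↥P = 2187 →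
    (∀ c ∈ P, (∀ n ∈ normalizer (Z : Set G), ⁅n, c⁆ ∈ Q ⊔ (L1 ⊔ L2)) → c ∈ Q) →
      ∃ K : Subgroup G, K.Normal ∧ K.index = 2 ∧ Z ≤ K ∧ ¬ normalizer (Z : Set G) ≤ K ∧
        ∀ L : Subgroup G, L ≤ centralizer (Z : Set G) → Nonempty (↥L ≃* QQ) →
          centralizer (Z : Set G) ≤ normalizer ((Q ⊔ L : Subgroup G) : Set G) → L ≤ K
  ascend : ∀ {G : Type u} [Group G] [Finite G] {Z Q : Subgroup G}, Setting Z Q →
    ∀ K : Subgroup G, K.Normal → Z ≤ K → IsU6Type ↥K → IsU6Type G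

/-- The conclusion for every group with the setting. -/
theorem Steps.main (S : Steps.{u}) : ∀ (n : ℕ) (G : Type u) [Group G] [Finite G] (Z Q : Subgroup G),
    Nat.card G = n → Setting Z Q → (∃ y, IsPt Z y ∧ y ∈ centralizer (Z : Set G) ∧ y ∉ Z) → IsU6Type G := by
  intro n
  induction n using Nat.strong_induction_on with
  | _ n ih =>
    intro G _ _ Z Q hn h hy
    obtain ⟨y, hy, hyC, hyZ⟩ := hy
    obtain ⟨Q1, Q2, L1, L2, t1, t2, F⟩ := exists_frame h
    by_cases hs : Frame.Small Z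
    · obtain ⟨E, z, y', a1, a2, hl⟩ := F.exists_local hs hy hyC hyZ
      exact S.small hl
    obtain ⟨P, hP, hPC, hPc⟩ : ∃ P : Subgroup G, IsPGroup 3 ↥P ∧ P ≤ centralizer (Z : Set G) ∧
        Nat.card ↥P = 2187 := by
      haveI : Fact (Nat.Prime 3) := ⟨Nat.prime_three⟩
      simp only [Frame.Small, not_forall, exists_prop] at hs
      obtain ⟨P, hP, hPC, hdvd⟩ := hs
      refine ⟨P, hP, hPC, ?_⟩
      obtain ⟨k, hk⟩ := IsPGroup.iff_card.1 hP
      have h7 := F.card_three_le hP hPC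
      rw [hk, show (2187 : ℕ) = 3 ^ 7 by norm_num, Nat.pow_dvd_pow_iff_le_right (by norm_num)] at h7
      rw [hk, show (729 : ℕ) = 3 ^ 6 by norm_num, Nat.pow_dvd_pow_iff_le_right (by norm_num)] at hdvd
      rw [hk, show k = 7 by omega]; norm_num
    obtain ⟨K, hKn, hp, hZK, hNK, hQK, hLK⟩ : ∃ K : Subgroup G, K.Normal ∧ K.index.Prime ∧ Z ≤ K ∧
        ¬ normalizer (Z : Set G) ≤ K ∧ Q ≤ K ∧
        ∀ L : Subgroup G, L ≤ centralizer (Z : Set G) → Nonempty (↥L ≃* QQ) →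
          centralizer (Z : Set G) ≤ normalizer ((Q ⊔ L : Subgroup G) : Set G) → L ≤ K := by
      rcases F.exists_phi_or hP hPC hPc F.QL_le rfl F.normalizer_le_normalizer_QL with ⟨φ, c, hc, hφ⟩ | hout
      · obtain ⟨K, hKn, h3, hZK, hNK⟩ := S.char F hy hyC hyZ P hP hPC hPc φ c hc hφ
        have h2 : ∀ {x : G}, x ^ 64 = 1 → x ∈ K := fun hx => mem_of_coprime_index hx (by rw [h3]; norm_num)
        refine ⟨K, hKn, h3 ▸ Nat.prime_three, hZK, hNK, F.Q_le_of_normal hZK (Or.inr h3)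
          (h2 ?_) (h2 ?_), fun L _ ⟨e⟩ _ x hx => h2 ?_⟩
        · rw [show (64 : ℕ) = orderOf t1 * 32 by rw [F.t1_two], pow_mul, pow_orderOf_eq_one, one_pow]
        · rw [show (64 : ℕ) = orderOf t2 * 32 by rw [F.t2_two], pow_mul, pow_orderOf_eq_one, one_pow]
        · have h1 : (⟨x, hx⟩ : ↥L) ^ Nat.card L = 1 := pow_card_eq_one'
          rw [Nat.card_congr e.toEquiv, card_QQ] at h1
          simpa using congrArg Subtype.val h1
      · obtain ⟨K, hKn, h2, hZK, hNK, hLK⟩ := S.outer F hy hyC hyZ P hP hPC hPc hout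
        haveI := hKn
        exact ⟨K, hKn, h2 ▸ Nat.prime_two, hZK, hNK,
          fun q hq => mem_of_coprime_index (F.cube q hq) (by rw [h2]; norm_num), hLK⟩
    haveI := hKn
    refine S.ascend h K hKn hZK (ih (Nat.card ↥K) ?_ ↥K _ _ rfl (h.restrict hQK hLK)
      (exists_pt_restrict hZK hp hNK hy hyC hyZ))
    rw [← hn, ← K.card_mul_index]
    exact lt_mul_of_one_lt_right Nat.card_pos hp.one_lt

/-- The statement S2994 from the three steps. -/
theorem Steps.result (S : Steps.{u}) {G : Type u} [Group G] [Finite G] (Z H : Subgroup G) (hZ3 : Nat.card Z = 3)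
    (hH : H = centralizer (Z : Set G)) (hQ : Cfsg.IsExtraspecial 3 ↥(Cfsg.generalizedFittingSubgroup ↥H))
    (hQord : Nat.card ↥(Cfsg.generalizedFittingSubgroup ↥H) = 3 ^ 5)
    (hZ : center ↥(Cfsg.generalizedFittingSubgroup ↥H) =
      (center ↥H).subgroupOf (Cfsg.generalizedFittingSubgroup ↥H))
    (hN : ∃ _ : (Cfsg.generalizedFittingSubgroup ↥H).Normal,
      ∃ N : Subgroup (↥H ⧸ Cfsg.generalizedFittingSubgroup ↥H), N.Normal ∧ Nonempty (↥N ≃* QQ))
    (hwc : Cfsg.IsWeaklyClosed Z ((Cfsg.generalizedFittingSubgroup ↥H).map H.subtype))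
    (hnwc : ¬ Cfsg.IsWeaklyClosed Z H) : IsU6Type G :=
  S.main _ G Z _ rfl (exists_setting Z H hZ3 hH hQ hQord hZ hN hwc) (exists_pt_of_not_wc hZ3 hH hnwc)

end Cfsg.Agent.UThreeLocal
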