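import Cfsg.Agent.Lib.UThreeLocal.Loc.Flag

/-!
# No conjugate of `Z` in `C(Z)` acts trivially on one factor
-/

set_option autoImplicit false
set_option linter.unusedSectionVars false
set_option linter.style.haveILetI false

namespace Cfsg.Agent.UThreeLocal

open Subgroup
open scoped commutatorElement

universe u

variable {G : Type u} [Group G] [Finite G] {Z Q Q1 Q2 L1 L2 : Subgroup G} {t1 t2 : G}

/-- Conjugation by the inverse shifts into the same group. -/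
theorem triv_inv (h : Setting Z Q) {R : Subgroup G} {y : G} (hy : y ∈ centralizer (Z : Set G))
    (ht : Triv Z R y) : Triv Z R y⁻¹ := fun x hx => by
  rw [show x⁻¹ * (y⁻¹ * x * y⁻¹⁻¹) = y⁻¹ * (x⁻¹ * (y * x * y⁻¹))⁻¹ * y⁻¹⁻¹ by group,
    h.conj_Z (inv_mem hy) (inv_mem (ht x hx))]
  exact inv_mem (ht x hx)

namespace Frame

variable (F : Frame Z Q Q1 Q2 L1 L2 t1 t2) {y : G}
include F

theorem pt_side (hpt : IsPt Z y) (hyC : y ∈ centralizer (Z : Set G)) (hyZ : y ∉ Z) :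
    ∃ g : G, y ∈ cj g Z ∧ zpowers y = cj g Z ∧ y ∉ Q ∧ y ^ 3 = 1 ∧
      (∀ z ∈ Z, z ≠ 1 → z ∈ centralizer ((cj g Z : Subgroup G) : Set G) ∧ z ∉ cj g Z ∧ z ∉ cj g Q ∧ IsPt (cj g Z) z) ∧
      (∀ x ∈ Q, x ∈ cj g Z → x = 1) ∧ centralizer ((cj g Z : Subgroup G) : Set G) = centralizer ({y} : Set G) := by
  have h := F.set
  obtain ⟨g, z0, hz0, hz01, rfl⟩ := hpt
  set y := g * z0 * g⁻¹ with hy
  have hyg : y ∈ cj g Z := conj_mem_cj.2 hz0
  have hy1 : y ≠ 1 := fun e => hz01 (conj_eq_one_iff.1 e)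
  have hcg : Nat.card ↥(cj g Z) = 3 := (h.conj g).Z_card
  have hzp : zpowers y = cj g Z := zpowers_eq_of_prime hcg hyg hy1
  have hne : cj g Z ≠ Z := fun e => hyZ (e ▸ hyg)
  have hcent : centralizer ((cj g Z : Subgroup G) : Set G) = centralizer ({y} : Set G) := by
    rw [← hzp, zpowers_eq_closure, centralizer_closure]
  have hzmem : ∀ z ∈ Z, z ≠ 1 → z ∉ cj g Z := fun z hz hz1 hm => hne (by
    rw [← zpowers_eq_of_prime hcg hm hz1, zpowers_eq_of_prime h.Z_card hz hz1])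
  refine ⟨g, hyg, hzp, fun hq => hyZ (h.pt_mem ⟨g, z0, hz0, hz01, rfl⟩ hq), ?_, ?_, ?_, hcent⟩
  · rw [hy, conj_pow, h.Z_cube hz0]; group
  · intro z hz hz1
    have hpz : IsPt (cj g Z) z := (IsPt.cj_iff g).2 (IsPt.of_mem hz hz1)
    refine ⟨?_, hzmem z hz hz1, fun hq => hzmem z hz hz1 ((h.conj g).pt_mem hpz hq), hpz⟩
    rw [hcent, mem_centralizer_singleton_iff]
    exact mem_centralizer_iff.1 hyC z hz
  · intro x hx hxg
    by_contra hx1
    have : IsPt Z x := ⟨g, g⁻¹ * x * g, mem_cj.1 hxg, fun e => hx1 (by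
      calc x = g * (g⁻¹ * x * g) * g⁻¹ := by group
        _ = 1 := by rw [e]; group), by group⟩
    exact hzmem x (h.pt_mem this hx) hx1 hxg

/-- The centralizer of a conjugate of `Z` in `Q` is abelian. -/
theorem abelian_Fx (hpt : IsPt Z y) (hyC : y ∈ centralizer (Z : Set G)) (hyZ : y ∉ Z) :
    ∀ u ∈ Fx Q y, ∀ v ∈ Fx Q y, u * v = v * u := by
  obtain ⟨g, -, -, -, -, hz, -, hcent⟩ := F.pt_side hpt hyC hyZ
  intro u hu v hv
  rw [← commutatorElement_eq_one_iff_mul_comm]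
  by_contra hne
  haveI : Fact (Nat.Prime 3) := ⟨Nat.prime_three⟩
  have hP : IsPGroup 3 ↥(Fx Q y) :=
    (IsPGroup.of_card (n := 5) (by rw [F.set.Q_card]; norm_num) : IsPGroup 3 ↥Q).to_le inf_le_left
  have h1 := (F.conj g).comm_mem_Q hP (by rw [hcent]; exact inf_le_right) hu hv
  exact (hz _ (F.set.comm_mem hu.1 hv.1) hne).2.2.1 h1

theorem pgroup_zpowers (hy3 : y ^ 3 = 1) : IsPGroup 3 ↥(zpowers y) := by
  rintro ⟨x, hx⟩
  obtain ⟨n, rfl⟩ := mem_zpowers_iff.1 hx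
  refine ⟨1, Subtype.ext ?_⟩
  show (y ^ n) ^ (3 ^ 1) = 1
  rw [pow_one, ← zpow_natCast, ← zpow_mul, mul_comm, zpow_mul, zpow_natCast, hy3, one_zpow]

/-- A conjugate of `Z` in `C(Z)` is not trivial on `Q2/Z` alone. -/
theorem coord_false (hpt : IsPt Z y) (hyC : y ∈ centralizer (Z : Set G)) (hyZ : y ∉ Z) (hT : Triv Z Q2 y)
    (hn : ¬ Triv Z Q1 y) : False := by
  haveI : Fact (Nat.Prime 3) := ⟨Nat.prime_three⟩
  have h := F.set
  obtain ⟨g, hyg, -, hyQ, hy3, hzside, hinf, hcent⟩ := F.pt_side hpt hyC hyZ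
  have hab := F.abelian_Fx hpt hyC hyZ
  have hP := F.pgroup_zpowers hy3
  have hPC : zpowers y ≤ centralizer (Z : Set G) := zpowers_le.2 hyC
  obtain ⟨a, hf⟩ := F.exists_flag' hP hPC
  set A := Z ⊔ zpowers a with hA
  have hAQ1 : A ≤ Q1 := sup_le F.pair.Z1 (zpowers_le.2 hf.mem)
  have hAQ : A ≤ Q := hAQ1.trans F.pair.le1
  set W := Fx Q y with hW
  have hQ2W : ¬ Q2 ≤ W := fun hle => by
    obtain ⟨a', ha', ha'Z⟩ : ∃ a ∈ Q2, a ∉ Z := by
      by_contra hc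
      push Not at hc
      have := Subgroup.card_le_of_le (show Q2 ≤ Z from hc)
      rw [F.pair.card2, h.Z_card] at this
      omega
    obtain ⟨b, hb, hne⟩ := F.pair.symm.exists_noncomm h ha' ha'Z
    exact hne (hab _ (hle ha') _ (hle hb))
  -- `a` is centralised
  have haW : a ∈ W := by
    by_contra haW
    refine hQ2W fun v hv => ?_
    -- every element of `Q2` becomes central after a correction by a power of `a`
    set d := a⁻¹ * (y * a * y⁻¹) with hd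
    have hdZ : d ∈ Z := hf.fix y (mem_zpowers y)
    have hd1 : d ≠ 1 := fun e => haW (mem_Fx.2 ⟨F.pair.le1 hf.mem, (inv_mul_eq_one.1 (hd ▸ e)).symm⟩)
    have hfix : ∀ v ∈ Q2, ∃ n : ℤ, v * a ^ n ∈ W := by
      intro v hv
      obtain ⟨n, hn'⟩ := mem_zpowers_iff.1 (show v⁻¹ * (y * v * y⁻¹) ∈ zpowers d by
        rw [zpowers_eq_of_prime h.Z_card hdZ hd1]; exact hT v hv)
      refine ⟨-n, mem_Fx.2 ⟨mul_mem (F.pair.le2 hv) (zpow_mem (F.pair.le1 hf.mem) _), ?_⟩⟩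
      have e1 : y * a * y⁻¹ = a * d := by rw [hd, mul_inv_cancel_left]
      have e2 : y * v * y⁻¹ = v * d ^ n := by rw [hn', mul_inv_cancel_left]
      have hda : Commute a d := (h.comm_Z (F.pair.le1 hf.mem) hdZ).symm
      have hda' : Commute (d ^ n) (a ^ (-n)) := (hda.zpow_zpow (-n) n).symm
      calc y * (v * a ^ (-n)) * y⁻¹ = (y * v * y⁻¹) * (y * a * y⁻¹) ^ (-n) := by rw [conj_zpow]; group
        _ = v * d ^ n * (a ^ (-n) * d ^ (-n)) := by rw [e1, e2, hda.mul_zpow]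
        _ = v * (d ^ n * a ^ (-n)) * d ^ (-n) := by group
        _ = v * a ^ (-n) := by rw [hda'.eq]; group
    exfalso
    obtain ⟨a', ha', ha'Z⟩ : ∃ a ∈ Q2, a ∉ Z := by
      by_contra hc
      push Not at hc
      have := Subgroup.card_le_of_le (show Q2 ≤ Z from hc)
      rw [F.pair.card2, h.Z_card] at this
      omega
    obtain ⟨b, hb, hne⟩ := F.pair.symm.exists_noncomm h ha' ha'Z
    obtain ⟨n, hn1⟩ := hfix a' ha'
    obtain ⟨m, hm1⟩ := hfix b hb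
    have key := hab _ hn1 _ hm1
    have c1 : ∀ (k : ℤ) (u : G), u ∈ Q2 → a ^ k * u = u * a ^ k := fun k u hu =>
      F.pair.comm _ (zpow_mem hf.mem k) u hu
    apply hne
    refine mul_right_cancel (b := a ^ (n + m)) ?_
    calc a' * b * a ^ (n + m) = a' * (b * a ^ n) * a ^ m := by rw [zpow_add]; group
      _ = a' * (a ^ n * b) * a ^ m := by rw [c1 n b hb]
      _ = b * a ^ m * (a' * a ^ n) := by rw [← key]; group
      _ = b * (a ^ m * a') * a ^ n := by group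
      _ = b * (a' * a ^ m) * a ^ n := by rw [c1 m a' ha']
      _ = b * a' * a ^ (n + m) := by rw [add_comm n m, zpow_add]; group
  have hAW : A ≤ W := sup_le (fun z hz => mem_Fx.2 ⟨h.Z_le hz, h.conj_Z hyC hz⟩) (zpowers_le.2 haW)
  -- orders
  have hMt : 81 ≤ Nat.card ↥(h.Mt y hyC) := by
    have hle : A ⊔ Q2 ≤ h.Mt y hyC :=
      sup_le (hAW.trans (h.Fx_le_Mt hyC)) fun v hv => ⟨F.pair.le2 hv, hT v hv⟩
    have hc := card_sup_mul_inf (A := A) (B := Q2)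
      (F.pair.le2.trans (h.normal_of_Z_le hAQ le_sup_left))
    have hi : A ⊓ Q2 = Z := le_antisymm (fun x hx => F.not_swap_both (hAQ1 hx.1) hx.2)
      (le_inf le_sup_left F.pair.Z2)
    rw [hi, h.Z_card, F.card_flag hf, F.pair.card2] at hc
    have := Subgroup.card_le_of_le hle
    omega
  have hW27 : Nat.card ↥W = 27 := by
    obtain ⟨k, hk, ek⟩ := (Nat.dvd_prime_pow Nat.prime_three).1 (show Nat.card ↥W ∣ 3 ^ 5 by
      rw [show (3 : ℕ) ^ 5 = Nat.card Q by rw [h.Q_card]; norm_num]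
      exact card_dvd_of_le inf_le_left)
    have h3 := h.card_Mt_le hyC
    have hk4 : k ≤ 3 := by
      by_contra hk4
      have hMQ : Nat.card ↥(h.Mt y hyC) = 81 := by
        obtain ⟨j, hj, ej⟩ := (Nat.dvd_prime_pow Nat.prime_three).1 (show Nat.card ↥(h.Mt y hyC) ∣ 3 ^ 5 by
          rw [show (3 : ℕ) ^ 5 = Nat.card Q by rw [h.Q_card]; norm_num]
          exact card_dvd_of_le (fun _ hx => hx.1))
        have hj5 : j ≠ 5 := fun e => hn fun x hx => by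
          have hM : h.Mt y hyC = Q :=
            Subgroup.eq_of_le_of_card_ge (fun _ hx => hx.1) (by rw [ej, e, h.Q_card]; norm_num)
          exact (hM.ge (F.pair.le1 hx)).2
        have : j ≤ 4 := by omega
        rw [ej] at hMt ⊢
        interval_cases j <;> omega
      have hWM : W = h.Mt y hyC := Subgroup.eq_of_le_of_card_ge (h.Fx_le_Mt hyC) (by
        rw [hMQ, ek]
        exact le_trans (by norm_num) (Nat.pow_le_pow_right (by norm_num : 1 ≤ 3) (show 4 ≤ k by omega)))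
      exact hQ2W fun v hv => hWM.ge ⟨F.pair.le2 hv, hT v hv⟩
    rw [ek] at h3 ⊢
    interval_cases k <;> omega
  -- all of `yA` is conjugate to `y`
  have hB : ∀ q ∈ Q, q⁻¹ * (y⁻¹ * q * y⁻¹⁻¹) ∈ A := by
    intro q hq
    obtain ⟨u, hu, v, hv, rfl⟩ := F.pair.dec q hq
    rw [F.shift_dec (F.conj_mem1 hP hPC (inv_mem (mem_zpowers y)) hu) hu hv]
    exact mul_mem (hf.move _ (inv_mem (mem_zpowers y)) u hu) (mem_sup_left (triv_inv h hyC hT v hv))
  have horb := (h.orbit (F.orbit_mem hAQ le_sup_left hB)).2 (by rw [F.card_flag hf, ← hW, hW27])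
  have hpts : ∀ s ∈ A, IsPt Z (y * s) := fun s hs => by
    obtain ⟨q, -, e⟩ := horb s hs
    exact e ▸ hpt.conj q
  have hAQ' : ∀ s ∈ A, s ∈ cj g Q → s = 1 := fun s hs hsg => by
    have hm : y * s ∈ cj g Q := mul_mem ((F.conj g).set.Z_le hyg) hsg
    have h1 := (h.conj g).pt_mem ((IsPt.cj_iff g).2 (hpts s hs)) hm
    exact hinf s (hAQ hs) ((Subgroup.mul_mem_cancel_left _ hyg).1 h1)
  -- the translate by `t2`
  set q' := y⁻¹ * (t2 * y * t2⁻¹) with hq'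
  have ht2C : t2 ∈ centralizer (Z : Set G) := F.L2_le F.t2_mem
  have ht22 : t2 * t2 = 1 := by rw [← pow_two, ← F.t2_two, pow_orderOf_eq_one]
  have hfix1 : ∀ x ∈ Q1, t2 * x * t2⁻¹ = x := fun x hx => by
    rw [← mem_centralizer_iff.1 (F.L2_cent F.t2_mem) x hx, mul_inv_cancel_right]
  have hq'Q1 : q' ∈ centralizer (Q1 : Set G) := by
    refine mem_centralizer_iff.2 fun x hx => ?_
    have hyx := F.conj_mem1 hP hPC (mem_zpowers y) hx
    have e : q' * x * q'⁻¹ = x := by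
      calc q' * x * q'⁻¹ = y⁻¹ * (t2 * (y * (t2⁻¹ * x * t2) * y⁻¹) * t2⁻¹) * y := by rw [hq']; group
        _ = y⁻¹ * (t2 * (y * x * y⁻¹) * t2⁻¹) * y := by
          rw [show t2⁻¹ * x * t2 = x by
            conv_lhs => rw [← hfix1 x hx]
            group]
        _ = x := by rw [hfix1 _ hyx]; group
    exact (mul_inv_eq_iff_eq_mul.1 e).symm
  have hyR : ∀ x ∈ Q2, t2 * x * t2⁻¹ ∈ Q2 ∧ y * x * y⁻¹ ∈ Q2 := fun x hx => by
    refine ⟨(mem_normalizer_iff.1 (F.L2_norm F.t2_mem) x).1 hx, ?_⟩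
    rw [show y * x * y⁻¹ = x * (x⁻¹ * (y * x * y⁻¹)) by group]
    exact mul_mem hx (F.pair.Z2 (hT x hx))
  have hq'C : q' ∈ centralizer (Z : Set G) := mul_mem (inv_mem hyC) (mul_mem (mul_mem ht2C hyC) (inv_mem ht2C))
  have htyt : Triv Z Q2 (t2 * y * t2⁻¹) := fun x hx => by
    have hx' : t2⁻¹ * x * t2 ∈ Q2 := by
      have := (mem_normalizer_iff.1 (inv_mem (F.L2_norm F.t2_mem)) x).1 hx
      rwa [inv_inv] at this
    have hz := hT _ hx'
    rw [show x⁻¹ * (t2 * y * t2⁻¹ * x * (t2 * y * t2⁻¹)⁻¹) =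
      t2 * ((t2⁻¹ * x * t2)⁻¹ * (y * (t2⁻¹ * x * t2) * y⁻¹)) * t2⁻¹ by group, h.conj_Z ht2C hz]
    exact hz
  have hq'Q : q' ∈ Q := by
    refine F.mem_Q_of_triv hq'C (fun x hx => ?_) fun x hx => ?_
    · rw [← mem_centralizer_iff.1 hq'Q1 x hx, mul_inv_cancel_right, inv_mul_cancel]
      exact one_mem _
    · rw [hq', shift_mul, h.conj_Z (inv_mem hyC) (htyt x hx)]
      exact mul_mem (triv_inv h hyC hT x hx) (htyt x hx)
  have hq'Q2 : q' ∈ Q2 := by
    obtain ⟨u, hu, v, hv, e⟩ := F.pair.dec q' hq'Q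
    have huZ : u ∈ Z := h.mem_Z_of_comm (F.pair.le1 hu) fun w hw => by
      obtain ⟨a1, ha1, b1, hb1, rfl⟩ := F.pair.dec w hw
      have h1 := mem_centralizer_iff.1 hq'Q1 a1 ha1
      rw [e] at h1
      have h2 : a1 * u = u * a1 := by
        refine mul_right_cancel (b := v) ?_
        rw [mul_assoc, h1, mul_assoc u v a1, ← F.pair.comm a1 ha1 v hv, ← mul_assoc]
      rw [mul_assoc, ← F.pair.comm u hu b1 hb1, ← mul_assoc, h2, mul_assoc]
    rw [e]
    exact mul_mem (F.pair.Z2 huZ) hv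
  -- `q'` commutes with `y`
  set lam := q'⁻¹ * (y * q' * y⁻¹) with hlam
  have hlamZ : lam ∈ Z := hT q' hq'Q2
  have hq'W : q' ∈ W := by
    set zt := t2 * q' * t2⁻¹ * q' with hzt
    have hztZ : zt ∈ Z := F.t2_inv q' hq'Q2
    have e1 : y * q' * y⁻¹ = q' * lam := (mul_inv_cancel_left q' (y * q' * y⁻¹)).symm
    have ti : t2⁻¹ = t2 := inv_eq_of_mul_eq_one_right ht22
    have e3 : t2 * q' * t2⁻¹ = zt * q'⁻¹ := by rw [hzt]; group
    have e4 : t2⁻¹ * q' * t2 = zt * q'⁻¹ := by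
      rw [← e3, ti]
    have e5 : y * (zt * q'⁻¹) * y⁻¹ = zt * q'⁻¹ * lam⁻¹ := by
      calc y * (zt * q'⁻¹) * y⁻¹ = (y * zt * y⁻¹) * (y * q' * y⁻¹)⁻¹ := by group
        _ = zt * (lam⁻¹ * q'⁻¹) := by rw [h.conj_Z hyC hztZ, e1]; group
        _ = _ := by rw [h.comm_Z (inv_mem hq'Q) (inv_mem hlamZ)]; group
    have e6 : t2 * (zt * q'⁻¹ * lam⁻¹) * t2⁻¹ = q' * lam⁻¹ := by
      have : t2 * (zt * q'⁻¹) * t2⁻¹ = q' := by
        rw [← e3]
        calc t2 * (t2 * q' * t2⁻¹) * t2⁻¹ = (t2 * t2) * q' * (t2 * t2)⁻¹ := by group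
          _ = q' := by rw [ht22]; group
      calc t2 * (zt * q'⁻¹ * lam⁻¹) * t2⁻¹ = (t2 * (zt * q'⁻¹) * t2⁻¹) * (t2 * lam⁻¹ * t2⁻¹) := by group
        _ = _ := by rw [this, h.conj_Z ht2C (inv_mem hlamZ)]
    have e7 : y⁻¹ * q' * y = q' * lam⁻¹ := by
      have hl := h.conj_Z (inv_mem hyC) hlamZ
      calc y⁻¹ * q' * y = y⁻¹ * (q' * lam) * y⁻¹⁻¹ * (y⁻¹ * lam * y⁻¹⁻¹)⁻¹ := by group
        _ = y⁻¹ * (y * q' * y⁻¹) * y⁻¹⁻¹ * lam⁻¹ := by rw [e1, hl]
        _ = q' * lam⁻¹ := by group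
    have e8 : q' * q' * q'⁻¹ = y⁻¹ * (t2 * (y * (t2⁻¹ * q' * t2) * y⁻¹) * t2⁻¹) * y := by
      have : ∀ w : G, (y⁻¹ * (t2 * y * t2⁻¹)) * w * (y⁻¹ * (t2 * y * t2⁻¹))⁻¹ =
          y⁻¹ * (t2 * (y * (t2⁻¹ * w * t2) * y⁻¹) * t2⁻¹) * y := fun w => by group
      have h1 := this q'
      rwa [← hq'] at h1
    have key : q' = q' * lam⁻¹ * lam⁻¹ := by
      calc q' = q' * q' * q'⁻¹ := by group
        _ = y⁻¹ * (t2 * (y * (t2⁻¹ * q' * t2) * y⁻¹) * t2⁻¹) * y := e8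
        _ = y⁻¹ * (q' * lam⁻¹) * y := by rw [e4, e5, e6]
        _ = (y⁻¹ * q' * y) * (y⁻¹ * lam⁻¹ * y⁻¹⁻¹) := by group
        _ = _ := by rw [e7, h.conj_Z (inv_mem hyC) (inv_mem hlamZ)]
    have hl2 : lam⁻¹ * lam⁻¹ = 1 := by
      rwa [mul_assoc, left_eq_mul] at key
    have hl3 := h.Z_cube (inv_mem hlamZ)
    rw [pow_succ, pow_two, hl2, one_mul, inv_eq_one] at hl3
    exact mem_Fx.2 ⟨hq'Q, by rw [e1, hl3, mul_one]⟩
  have hq'A : q' ∉ A := by
    intro hqA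
    have hqZ : q' ∈ Z := F.not_swap_both (hAQ1 hqA) hq'Q2
    have e0 : t2 * y * t2⁻¹ = y * q' := by rw [hq', mul_inv_cancel_left]
    have h2q : q' * q' = 1 := by
      have : y = y * q' * q' := by
        calc y = (t2 * t2) * y * (t2 * t2)⁻¹ := by rw [ht22]; group
          _ = t2 * (t2 * y * t2⁻¹) * t2⁻¹ := by group
          _ = (t2 * y * t2⁻¹) * (t2 * q' * t2⁻¹) := by conv_lhs => rw [e0]
                                                       group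
          _ = y * q' * q' := by rw [h.conj_Z ht2C hqZ, e0]
      rwa [mul_assoc, left_eq_mul] at this
    have hq1 : q' = 1 := by
      have h3 := h.Z_cube hqZ
      rwa [pow_succ, pow_two, h2q, one_mul] at h3
    rw [hq1, mul_one] at e0
    refine hQ2W fun x hx => mem_Fx.2 ⟨F.pair.le2 hx, ?_⟩
    set l := x⁻¹ * (y * x * y⁻¹) with hl
    have hlZ : l ∈ Z := hT x hx
    set zt := t2 * x * t2⁻¹ * x with hzt
    have hztZ : zt ∈ Z := F.t2_inv x hx
    have e1 : y * x * y⁻¹ = x * l := by rw [hl, mul_inv_cancel_left]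
    have e2 : t2 * x * t2⁻¹ = zt * x⁻¹ := by rw [hzt]; group
    have e3 : t2 * (y * x * y⁻¹) * t2⁻¹ = y * (t2 * x * t2⁻¹) * y⁻¹ := by
      calc t2 * (y * x * y⁻¹) * t2⁻¹ = (t2 * y * t2⁻¹) * (t2 * x * t2⁻¹) * (t2 * y * t2⁻¹)⁻¹ := by group
        _ = _ := by rw [e0]
    have e4 : t2 * (x * l) * t2⁻¹ = zt * x⁻¹ * l := by
      calc t2 * (x * l) * t2⁻¹ = (t2 * x * t2⁻¹) * (t2 * l * t2⁻¹) := by group
        _ = _ := by rw [e2, h.conj_Z ht2C hlZ]
    have e5 : y * (zt * x⁻¹) * y⁻¹ = zt * x⁻¹ * l⁻¹ := by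
      calc y * (zt * x⁻¹) * y⁻¹ = (y * zt * y⁻¹) * (y * x * y⁻¹)⁻¹ := by group
        _ = zt * (l⁻¹ * x⁻¹) := by rw [h.conj_Z hyC hztZ, e1]; group
        _ = _ := by rw [h.comm_Z (inv_mem (F.pair.le2 hx)) (inv_mem hlZ)]; group
    rw [e1, e4, e2, e5, mul_right_inj] at e3
    have h3 := h.Z_cube hlZ
    have hl2 : l * l = 1 := by nth_rw 1 [e3]; rw [inv_mul_cancel]
    rw [pow_succ, pow_two, hl2, one_mul] at h3
    rw [e1, h3, mul_one]
  -- the intersection with the other radical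
  obtain ⟨d, hdW, hdg, hd1⟩ : ∃ d ∈ W, d ∈ cj g Q ∧ d ≠ 1 := by
    by_contra hc
    push Not at hc
    have hPW : IsPGroup 3 ↥W := IsPGroup.of_card (n := 3) (by rw [hW27]; norm_num)
    have hWC : W ≤ centralizer ((cj g Z : Subgroup G) : Set G) := by rw [hcent]; exact inf_le_right
    obtain ⟨χ, hχ⟩ := (F.conj g).exists_char hPW hWC
    obtain ⟨ψ, hψ⟩ := (F.conj g).symm.exists_char hPW hWC
    have hinj : Function.Injective (χ.prod ψ) := by
      rw [injective_iff_map_eq_one]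
      intro x hx
      rw [MonoidHom.prod_apply, Prod.mk_eq_one] at hx
      exact Subtype.ext (hc x x.2 ((F.conj g).mem_Q_of_triv (hWC x.2) ((hχ x).1 hx.1) ((hψ x).1 hx.2)))
    have := Nat.card_le_card_of_injective _ hinj
    rw [hW27, Nat.card_prod] at this
    simp at this
  have hsup : A ⊔ zpowers q' = W := by
    refine Subgroup.eq_of_le_of_card_ge (sup_le hAW (zpowers_le.2 hq'W)) ?_
    obtain ⟨k, hk, ek⟩ := (Nat.dvd_prime_pow Nat.prime_three).1 (show Nat.card ↥(A ⊔ zpowers q') ∣ 3 ^ 3 by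
      rw [show (3 : ℕ) ^ 3 = Nat.card W by rw [hW27]; norm_num]
      exact card_dvd_of_le (sup_le hAW (zpowers_le.2 hq'W)))
    have hlt : Nat.card ↥A < Nat.card ↥(A ⊔ zpowers q') :=
      lt_of_le_of_ne (Subgroup.card_le_of_le le_sup_left) fun e => hq'A
        ((Subgroup.eq_of_le_of_card_ge le_sup_left e.ge).ge (mem_sup_right (mem_zpowers q')))
    rw [F.card_flag hf, ek] at hlt
    rw [hW27, ek]
    have : 3 ≤ k := by
      by_contra hk2
      have : 3 ^ k ≤ 3 ^ 2 := Nat.pow_le_pow_right (by norm_num) (by omega)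
      omega
    exact le_trans (by norm_num) (Nat.pow_le_pow_right (by norm_num : 1 ≤ 3) this)
  have hq'3 : q' ^ 3 = 1 := F.cube q' hq'Q
  have hkey : ∀ s ∈ A, ∀ d' : G, d' = q' * s → d' ∈ cj g Q → False := by
    intro s hs d' he hdg'
    obtain ⟨q, -, eq⟩ := horb s hs
    have hsW := hAW hs
    have e0 : t2 * y * t2⁻¹ = y * q' := by rw [hq', mul_inv_cancel_left]
    have hts : t2 * s * t2⁻¹ = s := hfix1 s (hAQ1 hs)
    have e : t2 * (y * s) * t2⁻¹ = y * d' := by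
      calc t2 * (y * s) * t2⁻¹ = (t2 * y * t2⁻¹) * (t2 * s * t2⁻¹) := by group
        _ = _ := by rw [e0, hts, he]; group
    have hp : IsPt Z (y * d') := e ▸ (hpts s hs).conj t2
    have h1 := (h.conj g).pt_mem ((IsPt.cj_iff g).2 hp) (mul_mem ((F.conj g).set.Z_le hyg) hdg')
    have h2 := hinf d' (by rw [he]; exact mul_mem hq'Q (hAQ hs)) ((Subgroup.mul_mem_cancel_left _ hyg).1 h1)
    rw [he, mul_eq_one_iff_eq_inv] at h2
    exact hq'A (h2 ▸ inv_mem hs)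
  obtain ⟨s, hs, w, hw, rfl⟩ : ∃ s ∈ A, ∃ w ∈ zpowers q', s * w = d := by
    have hn : zpowers q' ≤ normalizer (A : Set G) := (zpowers_le.2 hq'Q).trans (h.normal_of_Z_le hAQ le_sup_left)
    rw [← hsup, ← SetLike.mem_coe, Subgroup.coe_mul_of_right_le_normalizer_left A _ hn, Set.mem_mul] at hdW
    exact hdW
  have hcomm : ∀ (u v : G), u ∈ A → v ∈ zpowers q' → u * v = v * u := fun u v hu hv =>
    hab _ (hAW hu) _ ((zpowers_le.2 hq'W) hv)
  obtain ⟨n, rfl⟩ := mem_zpowers_iff.1 hw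
  have hcases : q' ^ n = 1 ∨ q' ^ n = q' ∨ q' ^ n = q'⁻¹ := by
    have e : q' ^ n = q' ^ (n % 3) := by
      conv_lhs => rw [← Int.emod_add_mul_ediv n 3, zpow_add, zpow_mul]
      rw [show q' ^ (3 : ℤ) = 1 by exact_mod_cast hq'3, one_zpow, mul_one]
    have h0 := Int.emod_nonneg n (show (3 : ℤ) ≠ 0 by norm_num)
    have h1 := Int.emod_lt_of_pos n (show (0 : ℤ) < 3 by norm_num)
    rw [e]
    generalize n % 3 = m at h0 h1
    interval_cases m
    · exact Or.inl (zpow_zero q')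
    · exact Or.inr (Or.inl (zpow_one q'))
    · refine Or.inr (Or.inr (eq_inv_of_mul_eq_one_left ?_))
      rw [← hq'3]
      show q' ^ (2 : ℤ) * q' = q' ^ 3
      rw [← zpow_natCast q' 3, ← zpow_add_one]; rfl
  rcases hcases with e | e | e <;> rw [e] at hdg hd1
  · rw [mul_one] at hdg hd1
    exact hd1 (hAQ' s hs hdg)
  · exact hkey s hs (s * q') (hcomm s q' hs (mem_zpowers q')) hdg
  · exact hkey s⁻¹ (inv_mem hs) (s * q'⁻¹)⁻¹ (by rw [mul_inv_rev, inv_inv]) (inv_mem hdg)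

end Frame

end Cfsg.Agent.UThreeLocal
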