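import Cfsg.Agent.Lib.UThreeLocal.Loc.Pair

/-!
# The frame `Q = Q₁ * Q₂`, `L = L₁ × L₂`
-/

set_option autoImplicit false
set_option linter.unusedSectionVars false
set_option linter.style.haveILetI false

namespace Cfsg.Agent.UThreeLocal

open Subgroup
open scoped commutatorElement

universe u

variable {G : Type u} [Group G]

/-- The decomposition of `Q` and of the complement `L₁ × L₂`. -/
structure Frame (Z Q Q1 Q2 L1 L2 : Subgroup G) (t1 t2 : G) : Prop where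
  set : Setting Z Q
  pair : Pair Z Q Q1 Q2
  cube : ∀ x ∈ Q, x ^ 3 = 1
  L1_le : L1 ≤ centralizer (Z : Set G)
  L2_le : L2 ≤ centralizer (Z : Set G)
  L1_card : Nat.card L1 = 8
  L2_card : Nat.card L2 = 8
  L_comm : ∀ a ∈ L1, ∀ b ∈ L2, a * b = b * a
  L1_cent : L1 ≤ centralizer (Q2 : Set G)
  L2_cent : L2 ≤ centralizer (Q1 : Set G)
  L1_norm : L1 ≤ normalizer (Q1 : Set G)
  L2_norm : L2 ≤ normalizer (Q2 : Set G)
  trans1 : ∀ a ∈ Q1, a ∉ Z → ∀ b ∈ Q1, b ∉ Z → ∃ l ∈ L1, ∃ z ∈ Z, l * a * l⁻¹ * z = b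
  trans2 : ∀ a ∈ Q2, a ∉ Z → ∀ b ∈ Q2, b ∉ Z → ∃ l ∈ L2, ∃ z ∈ Z, l * a * l⁻¹ * z = b
  t1_mem : t1 ∈ L1
  t2_mem : t2 ∈ L2
  t1_two : orderOf t1 = 2
  t2_two : orderOf t2 = 2
  t1_comm : ∀ l ∈ L1, t1 * l = l * t1
  t2_comm : ∀ l ∈ L2, t2 * l = l * t2
  t1_inv : ∀ x ∈ Q1, t1 * x * t1⁻¹ * x ∈ Z
  t2_inv : ∀ x ∈ Q2, t2 * x * t2⁻¹ * x ∈ Z
  norm_L : centralizer (Z : Set G) ≤ normalizer ((Q ⊔ (L1 ⊔ L2) : Subgroup G) : Set G)
  perm : ∀ c ∈ centralizer (Z : Set G),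
    ((∀ x, x ∈ Q1 ↔ c * x * c⁻¹ ∈ Q1) ∧ ∀ x, x ∈ Q2 ↔ c * x * c⁻¹ ∈ Q2) ∨
      ((∀ x, x ∈ Q1 ↔ c * x * c⁻¹ ∈ Q2) ∧ ∀ x, x ∈ Q2 ↔ c * x * c⁻¹ ∈ Q1)

theorem Frame.symm {Z Q Q1 Q2 L1 L2 : Subgroup G} {t1 t2 : G} (F : Frame Z Q Q1 Q2 L1 L2 t1 t2) :
    Frame Z Q Q2 Q1 L2 L1 t2 t1 :=
  ⟨F.set, F.pair.symm, F.cube, F.L2_le, F.L1_le, F.L2_card, F.L1_card,
    fun a ha b hb => (F.L_comm b hb a ha).symm, F.L2_cent, F.L1_cent, F.L2_norm, F.L1_norm, F.trans2,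
    F.trans1, F.t2_mem, F.t1_mem, F.t2_two, F.t1_two, F.t2_comm, F.t1_comm, F.t2_inv, F.t1_inv,
    by rw [sup_comm L2 L1]; exact F.norm_L,
    fun c hc => (F.perm c hc).imp (fun h => ⟨h.2, h.1⟩) fun h => ⟨h.2, h.1⟩⟩

/-- The two coordinate involutions of `QQ`. -/
def c1 : QQ := (QuaternionGroup.a 2, 1)

/-- The second one. -/
def c2 : QQ := (1, QuaternionGroup.a 2)

theorem center_QQ : ∀ a : QQ, (∀ b, a * b = b * a) → a = 1 ∨ a = c1 ∨ a = c2 ∨ a = c1 * c2 := by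
  decide +kernel

theorem c_facts : c1 * c1 = 1 ∧ c2 * c2 = 1 ∧ c1 ≠ 1 ∧ c2 ≠ 1 ∧ c1 ≠ c2 ∧ c1 * c2 = c2 * c1 ∧
    (∀ b : QQ, c1 * b = b * c1) ∧ ∀ b : QQ, c2 * b = b * c2 := by
  decide +kernel

namespace Build

variable [Finite G] {Z Q : Subgroup G} (h : Setting Z Q) (ι : QQ →* G) (hι : Function.Injective ι)
  (hC : ∀ a, ι a ∈ centralizer (Z : Set G))

include h hι hC

theorem not_mem_Z {a : QQ} (ha : a * a = 1) (hne : a ≠ 1) : ι a ∉ Z := fun hz => by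
  have h3 := h.Z_cube hz
  rw [pow_succ, pow_two, ← map_mul, ha, map_one, one_mul, ← map_one ι] at h3
  exact hne (hι h3)

theorem not_both_inv {a b : QQ} (ha : a * a = 1) (hb : b * b = 1) (hab : a * b = b * a) (hne : a ≠ b)
    (h1 : ∀ x ∈ Q, ι a * x * (ι a)⁻¹ * x ∈ Z) (h2 : ∀ x ∈ Q, ι b * x * (ι b)⁻¹ * x ∈ Z) : False := by
  have hab2 : a * b * (a * b) = 1 := by
    calc a * b * (a * b) = a * (b * a) * b := by group
      _ = (a * a) * (b * b) := by rw [← hab]; group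
      _ = 1 := by rw [ha, hb, one_mul]
  have hne' : a * b ≠ 1 := fun e => hne (by
    calc a = a * (b * b) := by rw [hb, mul_one]
      _ = b := by rw [← mul_assoc, e, one_mul])
  refine not_mem_Z h ι hι hC hab2 hne' (h.cent ▸ mem_centralizer_iff.2 fun x hx => ?_)
  have e : ι (a * b) * x * (ι (a * b))⁻¹ = x := h.fixed_of_mod (hC _) (by rw [← map_mul, hab2, map_one]) (by
    set zb := ι b * x * (ι b)⁻¹ * x with hzb
    set za := ι a * x⁻¹ * (ι a)⁻¹ * x⁻¹ with hza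
    have e1 : ι (a * b) * x * (ι (a * b))⁻¹ * x⁻¹ = zb * za := by
      calc ι (a * b) * x * (ι (a * b))⁻¹ * x⁻¹ = ι a * (zb * x⁻¹) * (ι a)⁻¹ * x⁻¹ := by
            rw [map_mul, hzb]; group
        _ = (ι a * zb * (ι a)⁻¹) * za := by rw [hza]; group
        _ = zb * za := by rw [h.conj_Z (hC a) (h2 x hx)]
    rw [e1]
    exact mul_mem (h2 x hx) (h1 _ (inv_mem hx)))
  exact (mul_inv_eq_iff_eq_mul.1 e).symm

theorem conj_Fx {σ : QQ} (hσc : ∀ b, σ * b = b * σ) (b : QQ) {x : G} (hx : x ∈ Fx Q (ι σ)) :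
    ι b * x * (ι b)⁻¹ ∈ Fx Q (ι σ) := by
  obtain ⟨hxQ, hxe⟩ := mem_Fx.1 hx
  refine mem_Fx.2 ⟨h.conj_mem (hC b) hxQ, ?_⟩
  have e : ι σ * ι b = ι b * ι σ := by rw [← map_mul, ← map_mul, hσc]
  calc ι σ * (ι b * x * (ι b)⁻¹) * (ι σ)⁻¹ = (ι σ * ι b) * x * (ι σ * ι b)⁻¹ := by group
    _ = ι b * (ι σ * x * (ι σ)⁻¹) * (ι b)⁻¹ := by rw [e]; group
    _ = ι b * x * (ι b)⁻¹ := by rw [hxe]

theorem conj_Iv {σ : QQ} (hσc : ∀ b, σ * b = b * σ) (b : QQ) {x : G} (hx : x ∈ h.Iv (ι σ) (hC σ)) :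
    ι b * x * (ι b)⁻¹ ∈ h.Iv (ι σ) (hC σ) := by
  obtain ⟨hxQ, hxe⟩ := hx
  refine ⟨h.conj_mem (hC b) hxQ, ?_⟩
  have e : ι σ * ι b = ι b * ι σ := by rw [← map_mul, ← map_mul, hσc]
  have e1 : ι σ * (ι b * x * (ι b)⁻¹) * (ι σ)⁻¹ * (ι b * x * (ι b)⁻¹) =
      ι b * (ι σ * x * (ι σ)⁻¹ * x) * (ι b)⁻¹ := by
    calc ι σ * (ι b * x * (ι b)⁻¹) * (ι σ)⁻¹ * (ι b * x * (ι b)⁻¹) =
        (ι σ * ι b) * x * (ι σ * ι b)⁻¹ * (ι b * x * (ι b)⁻¹) := by group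
      _ = _ := by rw [e]; group
  rw [e1, h.conj_Z (hC b) hxe]
  exact hxe

/-- The orbit count on one piece. -/
theorem piece {Q1 Q2 : Subgroup G} (P : Pair Z Q Q1 Q2) (hN : ∀ b, ι b ∈ normalizer (Q1 : Set G)) :
    ((ι.range ⊓ centralizer (Q1 : Set G)).subgroupOf ι.range).index ≤ 8 := by
  classical
  set L := ι.range with hL
  set L2 := (L ⊓ centralizer (Q1 : Set G)).subgroupOf L with hL2
  obtain ⟨a, ha, haZ⟩ : ∃ a ∈ Q1, a ∉ Z := by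
    by_contra hc
    push Not at hc
    have := Subgroup.card_le_of_le (show Q1 ≤ Z from hc)
    rw [P.card1, h.Z_card] at this
    omega
  have hmem : ∀ l : ↥L, (l : G) ∈ centralizer (Z : Set G) ∧ (l : G) ∈ normalizer (Q1 : Set G) := by
    rintro ⟨_, b, rfl⟩
    exact ⟨hC b, hN b⟩
  let f : (↥L ⧸ L2) × ↥Z → {x : ↥Q1 // (x : G) ∉ Z} := fun p =>
    ⟨⟨(Quotient.out p.1 : ↥L) * a * ((Quotient.out p.1 : ↥L) : G)⁻¹ * p.2,
      mul_mem ((mem_normalizer_iff.1 (hmem _).2 a).1 ha) (P.Z1 p.2.2)⟩, fun hz => haZ (by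
        have h1 : ((Quotient.out p.1 : ↥L) : G) * a * ((Quotient.out p.1 : ↥L) : G)⁻¹ ∈ Z :=
          (Subgroup.mul_mem_cancel_right Z p.2.2).1 hz
        have h2 := h.conj_Z (inv_mem (hmem (Quotient.out p.1)).1) h1
        rw [show ((Quotient.out p.1 : ↥L) : G)⁻¹ * (((Quotient.out p.1 : ↥L) : G) * a *
          ((Quotient.out p.1 : ↥L) : G)⁻¹) * (((Quotient.out p.1 : ↥L) : G)⁻¹)⁻¹ = a by group] at h2
        exact h2 ▸ h1)⟩
  have hf : Function.Injective f := by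
    rintro ⟨p, z⟩ ⟨p', z'⟩ e
    have e' : ((Quotient.out p : ↥L) : G) * a * ((Quotient.out p : ↥L) : G)⁻¹ * z =
        ((Quotient.out p' : ↥L) : G) * a * ((Quotient.out p' : ↥L) : G)⁻¹ * z' :=
      congrArg (fun x : {x : ↥Q1 // (x : G) ∉ Z} => ((x : ↥Q1) : G)) e
    set k := Quotient.out p with hk
    set k' := Quotient.out p' with hk'
    have hp : p = p' := by
      rw [← Quotient.out_eq p, ← Quotient.out_eq p']
      refine QuotientGroup.eq.2 ?_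
      show ((k⁻¹ * k' : ↥L) : G) ∈ L ⊓ centralizer (Q1 : Set G)
      refine ⟨SetLike.coe_mem _, ?_⟩
      set l := ((k⁻¹ * k' : ↥L) : G) with hl
      have hlord : l ^ 2 ^ 6 = 1 := by
        obtain ⟨b, hb⟩ := (k⁻¹ * k').2
        rw [hl, ← hb, ← map_pow]
        have : b ^ Nat.card QQ = 1 := pow_card_eq_one'
        rw [card_QQ] at this
        rw [show (2 : ℕ) ^ 6 = 64 by norm_num, this, map_one]
      refine P.free h (hmem _).1 (hmem _).2 hlord ha haZ ?_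
      set Kc := (k : G) with hKc
      set Kc' := (k' : G) with hKc'
      have hle : l = Kc⁻¹ * Kc' := by rw [hl]; rfl
      have e2 : Kc⁻¹ * (Kc' * a * Kc'⁻¹) * Kc = a * ((z : G) * (z' : G)⁻¹) := by
        have hz := h.conj_Z (inv_mem (hmem k).1) (mul_mem z.2 (inv_mem z'.2))
        calc Kc⁻¹ * (Kc' * a * Kc'⁻¹) * Kc = Kc⁻¹ * (Kc' * a * Kc'⁻¹ * z' * (z' : G)⁻¹) * Kc := by group
          _ = Kc⁻¹ * (Kc * a * Kc⁻¹ * z * (z' : G)⁻¹) * Kc := by rw [e']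
          _ = a * (Kc⁻¹ * ((z : G) * (z' : G)⁻¹) * (Kc⁻¹)⁻¹) := by group
          _ = _ := by rw [hz]
      rw [show a⁻¹ * (l * a * l⁻¹) = a⁻¹ * (Kc⁻¹ * (Kc' * a * Kc'⁻¹) * Kc) by rw [hle]; group, e2,
        inv_mul_cancel_left]
      exact mul_mem z.2 (inv_mem z'.2)
    subst hp
    exact Prod.ext rfl (Subtype.ext (mul_left_cancel e'))
  have h1 := Nat.card_le_card_of_injective f hf
  rw [Nat.card_prod, h.Z_card] at h1
  have h24 : Nat.card {x : ↥Q1 // (x : G) ∉ Z} = 24 := by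
    haveI := Fintype.ofFinite ↥Q1
    rw [Nat.card_eq_fintype_card, Fintype.card_subtype_compl, ← Nat.card_eq_fintype_card,
      ← Nat.card_eq_fintype_card]
    have : Nat.card {x : ↥Q1 // (x : G) ∈ Z} = 3 :=
      (Nat.card_congr (subgroupOfEquivOfLe P.Z1).toEquiv).trans h.Z_card
    rw [this, P.card1]
  rw [h24] at h1
  rw [index_eq_card]
  omega

end Build

end Cfsg.Agent.UThreeLocal
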