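import Cfsg.Agent.Lib.UThreeLocal.Loc.Frame
import Cfsg.Agent.Lib.Coprime.Action

/-!
# The setting has a frame
-/

set_option autoImplicit false
set_option linter.unusedSectionVars false
set_option linter.style.haveILetI false

namespace Cfsg.Agent.UThreeLocal

open Subgroup
open scoped commutatorElement Pointwise

universe u

variable {G : Type u} [Group G] [Finite G] {Z Q : Subgroup G}

theorem center_three : ∀ s t d : QQ, (∀ b, s * b = b * s) → (∀ b, t * b = b * t) → (∀ b, d * b = b * d) →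
    s ≠ 1 → t ≠ 1 → s ≠ t → d ≠ 1 → d = s ∨ d = t ∨ d = s * t := by
  intro s t d hs ht hd hs1 ht1 hst hd1
  obtain ⟨-, -, -, -, -, -, -, -⟩ := c_facts
  have key : ∀ u v w : QQ, (u = c1 ∨ u = c2 ∨ u = c1 * c2) → (v = c1 ∨ v = c2 ∨ v = c1 * c2) →
      (w = c1 ∨ w = c2 ∨ w = c1 * c2) → u ≠ v → w = u ∨ w = v ∨ w = u * v := by
    intro u v w hu hv hw
    rcases hu with rfl | rfl | rfl <;> rcases hv with rfl | rfl | rfl <;> rcases hw with rfl | rfl | rfl <;>
      decide +kernel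
  exact key s t d ((center_QQ s hs).resolve_left hs1) ((center_QQ t ht).resolve_left ht1)
    ((center_QQ d hd).resolve_left hd1) hst

theorem mem_iff_of_map_eq {A B : Subgroup G} {c k : G}
    (hm : A.map (MulAut.conj (k * c)).toMonoidHom = B) (hk : k ∈ normalizer (B : Set G)) (x : G) :
    x ∈ A ↔ c * x * c⁻¹ ∈ B := by
  rw [← hm, mem_map_equiv]
  have : (MulAut.conj (k * c)).symm (c * x * c⁻¹) = c⁻¹ * (k⁻¹ * (c * x * c⁻¹) * k) * c := by
    rw [MulAut.conj_symm_apply]; group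
  constructor
  · intro hx
    have h1 : k * (c * x * c⁻¹) * k⁻¹ ∈ B := by
      rw [← hm]; exact ⟨x, hx, by simp [MulAut.conj_apply, mul_assoc]⟩
    have h2 := (mem_normalizer_iff.1 hk (c * x * c⁻¹)).2 h1
    rw [← hm, mem_map_equiv] at h2
    exact h2
  · intro hx
    rw [this] at hx
    have h2 : k⁻¹ * (c * x * c⁻¹) * k ∈ B ↔ c * x * c⁻¹ ∈ B := by
      have := mem_normalizer_iff.1 (inv_mem hk) (c * x * c⁻¹)
      rw [inv_inv] at this
      exact this.symm
    have h1 : c * x * c⁻¹ ∈ B := by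
      rw [← hm, mem_map_equiv]
      rw [this]; exact hx
    have h3 := (mem_normalizer_iff.1 hk (c * x * c⁻¹)).1 h1
    rw [← hm, mem_map_equiv, MulAut.conj_symm_apply] at h3
    simpa [mul_assoc] using h3

theorem exists_frame (h : Setting Z Q) :
    ∃ (Q1 Q2 L1 L2 : Subgroup G) (t1 t2 : G), Frame Z Q Q1 Q2 L1 L2 t1 t2 := by
  classical
  obtain ⟨L, hLC, ⟨eL⟩, hnorm⟩ := h.L
  let ι : QQ →* G := L.subtype.comp eL.symm.toMonoidHom
  have hι : Function.Injective ι := L.subtype_injective.comp eL.symm.injective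
  have hC : ∀ a, ι a ∈ centralizer (Z : Set G) := fun a => hLC (eL.symm a).2
  have hLr : ι.range = L := by
    ext x
    constructor
    · rintro ⟨b, rfl⟩; exact (eL.symm b).2
    · intro hx; exact ⟨eL ⟨x, hx⟩, by simp [ι]⟩
  obtain ⟨hc1, hc2, hn1, hn2, hn12, h12, hz1, hz2⟩ := c_facts
  have hsq : ∀ a : QQ, a * a = 1 → ι a * ι a = 1 := fun a ha => by rw [← map_mul, ha, map_one]
  have hne : ∀ a : QQ, a ≠ 1 → ι a ≠ 1 := fun a ha e => ha (hι (e.trans (map_one ι).symm))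
  -- an involution that splits
  have hsplit : ∃ s t : QQ, s * s = 1 ∧ t * t = 1 ∧ (∀ b, s * b = b * s) ∧ (∀ b, t * b = b * t) ∧ s ≠ 1 ∧
      t ≠ 1 ∧ s ≠ t ∧ Nat.card ↥(Fx Q (ι s)) = 27 ∧ Nat.card ↥(h.Iv (ι s) (hC s)) = 27 := by
    rcases h.parts_cases (hC c1) (hsq _ hc1) (hne _ hn1) with ⟨-, e1⟩ | ⟨a1, b1⟩
    · rcases h.parts_cases (hC c2) (hsq _ hc2) (hne _ hn2) with ⟨-, e2⟩ | ⟨a2, b2⟩
      · exact absurd (Build.not_both_inv h ι hι hC hc1 hc2 h12 hn12
          (fun x hx => (e1.ge hx).2) (fun x hx => (e2.ge hx).2)) id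
      · exact ⟨c2, c1, hc2, hc1, hz2, hz1, hn2, hn1, Ne.symm hn12, a2, b2⟩
    · exact ⟨c1, c2, hc1, hc2, hz1, hz2, hn1, hn2, hn12, a1, b1⟩
  obtain ⟨s, r, hs, hr, hsc, hrc, hs1, hr1, hsr, hF, hI⟩ := hsplit
  set Q2 := Fx Q (ι s) with hQ2
  set Q1 := h.Iv (ι s) (hC s) with hQ1
  have P : Pair Z Q Q1 Q2 := ⟨fun _ hx => hx.1, inf_le_left, h.Z_le_Iv (hC s), h.Z_le_Fx (hC s), hI, hF,
    fun a ha b hb => (h.comm_parts (hC s) hb ha).symm, fun x hx => by
      obtain ⟨c, hc, i, hi, rfl⟩ := h.exists_parts (hC s) (hsq _ hs) hx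
      exact ⟨i, hi, c, hc, h.comm_parts (hC s) hc hi⟩⟩
  have hN1 : ∀ b, ι b ∈ normalizer (Q1 : Set G) := fun b =>
    Subgroup.mem_normalizer_fintype fun x hx => Build.conj_Iv h ι hι hC hsc b hx
  have hN2 : ∀ b, ι b ∈ normalizer (Q2 : Set G) := fun b =>
    Subgroup.mem_normalizer_fintype fun x hx => Build.conj_Fx h ι hι hC hsc b hx
  have hcentQ : ∀ g : G, g ∈ centralizer (Q1 : Set G) → g ∈ centralizer (Q2 : Set G) → g ∈ Z := by
    intro g h1 h2
    rw [← h.cent]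
    refine mem_centralizer_iff.2 fun x hx => ?_
    obtain ⟨a, ha, b, hb, rfl⟩ := P.dec x hx
    rw [mul_assoc, mem_centralizer_iff.1 h2 b hb, ← mul_assoc, mem_centralizer_iff.1 h1 a ha, mul_assoc]
  -- inverted by two, fixed by the product
  have hfix : ∀ a b : QQ, a * a = 1 → b * b = 1 → a * b = b * a → ∀ x ∈ Q,
      ι a * x⁻¹ * (ι a)⁻¹ * x⁻¹ ∈ Z → ι b * x * (ι b)⁻¹ * x ∈ Z → ι (a * b) * x * (ι (a * b))⁻¹ = x := by
    intro a b ha hb hab x hx hza hzb
    have hab2 : a * b * (a * b) = 1 := by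
      calc a * b * (a * b) = a * (b * a) * b := by group
        _ = (a * a) * (b * b) := by rw [← hab]; group
        _ = 1 := by rw [ha, hb, one_mul]
    refine h.fixed_of_mod (hC _) (hsq _ hab2) ?_
    have e1 : ι (a * b) * x * (ι (a * b))⁻¹ * x⁻¹ = (ι a * (ι b * x * (ι b)⁻¹ * x) * (ι a)⁻¹) *
        (ι a * x⁻¹ * (ι a)⁻¹ * x⁻¹) := by rw [map_mul]; group
    rw [e1, h.conj_Z (hC a) hzb]
    exact mul_mem hzb hza
  -- the second involution
  have hr' : ∃ t : QQ, t * t = 1 ∧ (∀ b, t * b = b * t) ∧ t ≠ 1 ∧ t ≠ s ∧ ι t ∈ centralizer (Q1 : Set G) ∧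
      ∀ x ∈ Q2, ι t * x * (ι t)⁻¹ * x ∈ Z := by
    rcases P.dichotomy h (hC r) (hN1 r) (hsq _ hr) with a | a <;>
      rcases P.symm.dichotomy h (hC r) (hN2 r) (hsq _ hr) with b | b
    · exact absurd (hcentQ _ a b) (Build.not_mem_Z h ι hι hC hr hr1)
    · exact ⟨r, hr, hrc, hr1, Ne.symm hsr, a, b⟩
    · exfalso
      have hrs2 : r * s * (r * s) = 1 := by
        calc r * s * (r * s) = r * (s * r) * s := by group
          _ = (r * r) * (s * s) := by rw [← hrc s]; group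
          _ = 1 := by rw [hr, hs, one_mul]
      have hne' : r * s ≠ 1 := fun e => hsr (by
        calc s = (r * r) * s := by rw [hr, one_mul]
          _ = r := by rw [mul_assoc, e, mul_one])
      refine Build.not_mem_Z h ι hι hC hrs2 hne' (hcentQ _ (mem_centralizer_iff.2 fun x hx => ?_) ?_)
      · exact (mul_inv_eq_iff_eq_mul.1 (hfix r s hr hs (hrc s) x (P.le1 hx) (a _ (inv_mem hx)) hx.2)).symm
      · rw [map_mul]
        exact mul_mem b (mem_centralizer_iff.2 fun x hx => by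
          exact (mul_inv_eq_iff_eq_mul.1 (mem_Fx.1 hx).2).symm)
    · refine ⟨r * s, ?_, fun b => by rw [mul_assoc, hsc b, ← mul_assoc, hrc b, mul_assoc],
        fun e => hsr (by
          calc s = (r * r) * s := by rw [hr, one_mul]
            _ = r := by rw [mul_assoc, e, mul_one]), fun e => hr1 (mul_eq_right.1 e), ?_, ?_⟩
      · calc r * s * (r * s) = r * (s * r) * s := by group
          _ = (r * r) * (s * s) := by rw [← hrc s]; group
          _ = 1 := by rw [hr, hs, one_mul]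
      · exact mem_centralizer_iff.2 fun x hx =>
          (mul_inv_eq_iff_eq_mul.1 (hfix r s hr hs (hrc s) x (P.le1 hx) (a _ (inv_mem hx)) hx.2)).symm
      · intro x hx
        have e : ι (r * s) * x * (ι (r * s))⁻¹ = ι r * x * (ι r)⁻¹ := by
          calc ι (r * s) * x * (ι (r * s))⁻¹ = ι r * (ι s * x * (ι s)⁻¹) * (ι r)⁻¹ := by rw [map_mul]; group
            _ = _ := by rw [(mem_Fx.1 hx).2]
        rw [e]
        exact b x hx
  obtain ⟨t, ht, htc, ht1, hts, htQ1, htQ2⟩ := hr'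
  set L1 := L ⊓ centralizer (Q2 : Set G) with hL1
  set L2 := L ⊓ centralizer (Q1 : Set G) with hL2
  have hdisj : L1 ⊓ L2 = ⊥ := by
    refine eq_bot_iff.2 fun x hx => ?_
    have hxZ := hcentQ x hx.2.2 hx.1.2
    obtain ⟨b, rfl⟩ := (hLr.ge hx.1.1 : x ∈ ι.range)
    rw [mem_bot]
    have h3 := h.Z_cube hxZ
    have h64 : b ^ Nat.card QQ = 1 := pow_card_eq_one'
    rw [card_QQ] at h64
    rw [← map_pow, ← map_one ι] at h3
    have : b ^ Nat.gcd 3 64 = 1 := pow_gcd_eq_one.2 ⟨hι h3, h64⟩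
    rw [show Nat.gcd 3 64 = 1 from rfl, pow_one] at this
    rw [this, map_one]
  have hLc : Nat.card L = 64 := by rw [Nat.card_congr eL.toEquiv, card_QQ]
  have hi1 : (L2.subgroupOf L).index ≤ 8 := by
    have := Build.piece h ι hι hC P hN1
    rwa [hLr] at this
  have hi2 : (L1.subgroupOf L).index ≤ 8 := by
    have := Build.piece h ι hι hC P.symm hN2
    rwa [hLr] at this
  have hcards : ∀ A B : Subgroup G, A ≤ L → B ≤ L → A ⊓ B = ⊥ → (A.subgroupOf L).index ≤ 8 →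
      (B.subgroupOf L).index ≤ 8 → Nat.card A = 8 := by
    intro A B hA hB hAB hiA hiB
    have h1 : Nat.card A * (A.subgroupOf L).index = 64 := by
      rw [← Nat.card_congr (subgroupOfEquivOfLe hA).toEquiv, Subgroup.card_mul_index, hLc]
    have h2 : Nat.card A ≤ (B.subgroupOf L).index := by
      have e : B.relIndex A = Nat.card A := by
        rw [← inf_relIndex_right B A, inf_comm, hAB, relIndex_bot_left]
      rw [← e]
      exact relIndex_le_of_le_right hA index_ne_zero_of_finite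
    nlinarith
  have hL1c : Nat.card L1 = 8 := hcards L1 L2 inf_le_left inf_le_left hdisj hi2 hi1
  have hL2c : Nat.card L2 = 8 := hcards L2 L1 inf_le_left inf_le_left (inf_comm L1 L2 ▸ hdisj) hi1 hi2
  have hLn : ∀ {R : Subgroup G}, (∀ b, ι b ∈ normalizer (R : Set G)) → ∀ a ∈ L, ∀ x ∈ centralizer (R : Set G),
      a * x * a⁻¹ ∈ centralizer (R : Set G) := by
    intro R hR a ha x hx
    obtain ⟨b, rfl⟩ := (hLr.ge ha : a ∈ ι.range)
    refine mem_centralizer_iff.2 fun y hy => ?_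
    have hy' : (ι b)⁻¹ * y * ι b ∈ R := by
      have := (mem_normalizer_iff.1 (inv_mem (hR b)) y).1 hy
      rwa [inv_inv] at this
    have := mem_centralizer_iff.1 hx _ hy'
    calc y * (ι b * x * (ι b)⁻¹) = ι b * (((ι b)⁻¹ * y * ι b) * x) * (ι b)⁻¹ := by group
      _ = _ := by rw [this]; group
  have hcomm : ∀ a ∈ L1, ∀ b ∈ L2, a * b = b * a := by
    intro a ha b hb
    obtain ⟨ha1, ha2⟩ := mem_inf.1 ha
    obtain ⟨hb1, hb2⟩ := mem_inf.1 hb
    have hab : ⁅a, b⁆ ∈ L := mul_mem (mul_mem (mul_mem ha1 hb1) (inv_mem ha1)) (inv_mem hb1)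
    refine commutatorElement_eq_one_iff_mul_comm.1 (mem_bot.1 (hdisj.le
      (mem_inf.2 ⟨mem_inf.2 ⟨hab, ?_⟩, mem_inf.2 ⟨hab, ?_⟩⟩)))
    · rw [commutatorElement_def, mul_assoc, mul_assoc]
      exact mul_mem ha2 (by rw [← mul_assoc]; exact hLn hN2 b hb1 _ (inv_mem ha2))
    · exact mul_mem (hLn hN1 a ha1 b hb2) (inv_mem hb2)
  have htrans : ∀ {R R' : Subgroup G}, Pair Z Q R R' → (∀ b, ι b ∈ normalizer (R : Set G)) →
      Nat.card ↥(L ⊓ centralizer (R' : Set G)) = 8 →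
      ∀ a ∈ R, a ∉ Z → ∀ b ∈ R, b ∉ Z → ∃ l ∈ L ⊓ centralizer (R' : Set G), ∃ z ∈ Z, l * a * l⁻¹ * z = b := by
    intro R R' PR hR hcard a ha haZ b hb hbZ
    have hmemN : ∀ l ∈ L, l ∈ normalizer (R : Set G) := fun l hl => by
      obtain ⟨d, rfl⟩ := (hLr.ge hl : l ∈ ι.range)
      exact hR d
    let f : ↥(L ⊓ centralizer (R' : Set G)) × ↥Z → {x : ↥R // (x : G) ∉ Z} := fun p =>
      ⟨⟨(p.1 : G) * a * (p.1 : G)⁻¹ * p.2,
        mul_mem ((mem_normalizer_iff.1 (hmemN _ p.1.2.1) a).1 ha) (PR.Z1 p.2.2)⟩, fun hz => haZ (by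
          have h1 : (p.1 : G) * a * (p.1 : G)⁻¹ ∈ Z := (Subgroup.mul_mem_cancel_right Z p.2.2).1 hz
          have h2 := h.conj_Z (inv_mem (hLC p.1.2.1)) h1
          rw [show (p.1 : G)⁻¹ * ((p.1 : G) * a * (p.1 : G)⁻¹) * ((p.1 : G)⁻¹)⁻¹ = a by group] at h2
          exact h2 ▸ h1)⟩
    have hf : Function.Injective f := by
      rintro ⟨l, z⟩ ⟨l', z'⟩ e
      have e' : (l : G) * a * (l : G)⁻¹ * z = (l' : G) * a * (l' : G)⁻¹ * z' :=
        congrArg (fun x : {x : ↥R // (x : G) ∉ Z} => ((x : ↥R) : G)) e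
      have hl : l = l' := by
        set m := (l : G)⁻¹ * (l' : G) with hm
        have hmL : m ∈ L := mul_mem (inv_mem l.2.1) l'.2.1
        have hm' : m ∈ centralizer (R' : Set G) := mul_mem (inv_mem l.2.2) l'.2.2
        have hord : m ^ 2 ^ 6 = 1 := by
          have : (⟨m, hmL⟩ : ↥L) ^ Nat.card L = 1 := pow_card_eq_one'
          rw [hLc] at this
          simpa using congrArg Subtype.val this
        have hz := h.conj_Z (inv_mem (hLC l.2.1)) (mul_mem z.2 (inv_mem z'.2))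
        have hmR : m ∈ centralizer (R : Set G) := PR.free h (hLC hmL) (hmemN _ hmL) hord ha haZ (by
          have e2 : a⁻¹ * (m * a * m⁻¹) = ((l : G)⁻¹ * ((z : G) * (z' : G)⁻¹) * ((l : G)⁻¹)⁻¹) := by
            calc a⁻¹ * (m * a * m⁻¹) =
                a⁻¹ * ((l : G)⁻¹ * ((l' : G) * a * (l' : G)⁻¹ * z' * (z' : G)⁻¹) * l) := by rw [hm]; group
              _ = _ := by rw [← e']; group
          rw [e2, hz]
          exact mul_mem z.2 (inv_mem z'.2))
        have hmZ : m ∈ Z := by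
          rw [← h.cent]
          refine mem_centralizer_iff.2 fun x hx => ?_
          obtain ⟨u, hu, v, hv, rfl⟩ := PR.dec x hx
          rw [mul_assoc, mem_centralizer_iff.1 hm' v hv, ← mul_assoc, mem_centralizer_iff.1 hmR u hu, mul_assoc]
        have : m ^ Nat.gcd 3 (2 ^ 6) = 1 := pow_gcd_eq_one.2 ⟨h.Z_cube hmZ, hord⟩
        rw [show Nat.gcd 3 (2 ^ 6) = 1 from rfl, pow_one, hm, inv_mul_eq_one] at this
        exact Subtype.ext this
      subst hl
      exact Prod.ext rfl (Subtype.ext (mul_left_cancel e'))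
    have hcard2 : Nat.card (↥(L ⊓ centralizer (R' : Set G)) × ↥Z) = Nat.card {x : ↥R // (x : G) ∉ Z} := by
      haveI := Fintype.ofFinite ↥R
      rw [Nat.card_prod, hcard, h.Z_card]
      rw [Nat.card_eq_fintype_card (α := {x : ↥R // (x : G) ∉ Z}), Fintype.card_subtype_compl,
        ← Nat.card_eq_fintype_card, ← Nat.card_eq_fintype_card]
      have : Nat.card {x : ↥R // (x : G) ∈ Z} = 3 :=
        (Nat.card_congr (subgroupOfEquivOfLe PR.Z1).toEquiv).trans h.Z_card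
      rw [this, PR.card1]
    obtain ⟨⟨l, z⟩, hlz⟩ := ((Nat.bijective_iff_injective_and_card f).2 ⟨hf, hcard2⟩).2 ⟨⟨b, hb⟩, hbZ⟩
    exact ⟨l, l.2, z, z.2, congrArg (fun x : {x : ↥R // (x : G) ∉ Z} => ((x : ↥R) : G)) hlz⟩
  have htr1 := htrans P hN1 hL1c
  have htr2 := htrans P.symm hN2 hL2c
  have hcube : ∀ {R R' : Subgroup G}, Pair Z Q R R' →
      (∀ a ∈ R, a ∉ Z → ∀ b ∈ R, b ∉ Z → ∃ l ∈ L ⊓ centralizer (R' : Set G), ∃ z ∈ Z, l * a * l⁻¹ * z = b) →
      ∀ a ∈ R, a ^ 3 = 1 := by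
    intro R R' PR htr a ha
    by_cases haZ : a ∈ Z
    · exact h.Z_cube haZ
    obtain ⟨l, hl, z, hz, e⟩ := htr a ha haZ a⁻¹ (inv_mem ha) (fun hi => haZ (inv_inv a ▸ inv_mem hi))
    have hla : l * a * l⁻¹ ∈ Q := h.conj_mem (hLC hl.1) (PR.le1 ha)
    have h3 := congrArg (· ^ 3) e
    beta_reduce at h3
    rw [(show Commute (l * a * l⁻¹) z from (h.comm_Z hla hz).symm).mul_pow, h.Z_cube hz, mul_one, conj_pow,
      h.conj_Z (hLC hl.1) (h.cube_mem (PR.le1 ha)), inv_pow] at h3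
    have h6 : (a ^ 3) ^ 2 = 1 := by rw [pow_two]; nth_rw 1 [h3]; rw [inv_mul_cancel]
    have h9 : (a ^ 3) ^ 3 = 1 := h.Z_cube (h.cube_mem (PR.le1 ha))
    have := pow_gcd_eq_one.2 ⟨h6, h9⟩
    rwa [show Nat.gcd 2 3 = 1 from rfl, pow_one] at this
  have hFt : Fx Q (ι t) = Q1 ∧ h.Iv (ι t) (hC t) = Q2 := by
    have h1 : Q1 ≤ Fx Q (ι t) := fun x hx => mem_Fx.2 ⟨P.le1 hx, by
      rw [← mem_centralizer_iff.1 htQ1 x hx, mul_inv_cancel_right]⟩
    have h2 : Q2 ≤ h.Iv (ι t) (hC t) := fun x hx => ⟨P.le2 hx, htQ2 x hx⟩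
    rcases h.parts_cases (hC t) (hsq _ ht) (hne _ ht1) with ⟨e, -⟩ | ⟨a, b⟩
    · have := Subgroup.card_le_of_le h1
      rw [e, P.card1, h.Z_card] at this
      omega
    · exact ⟨(Subgroup.eq_of_le_of_card_ge h1 (by rw [a, P.card1])).symm,
        (Subgroup.eq_of_le_of_card_ge h2 (by rw [b, P.card2])).symm⟩
  have hsup : L1 ⊔ L2 = L := by
    refine Subgroup.eq_of_le_of_card_ge (sup_le inf_le_left inf_le_left) ?_
    have := card_sup_mul_inf (A := L1) (B := L2) (fun b hb => Subgroup.mem_normalizer_fintype fun a ha => by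
      rw [SetLike.mem_coe, ← hcomm a ha b hb, mul_inv_cancel_right]; exact ha)
    rw [hdisj, card_bot, mul_one, hL1c, hL2c] at this
    rw [this, hLc]
  refine ⟨Q1, Q2, L1, L2, ι s, ι t, h, P, ?_, inf_le_left.trans hLC, inf_le_left.trans hLC, hL1c, hL2c,
    hcomm, inf_le_right, inf_le_right,
    fun a ha => by obtain ⟨b, rfl⟩ := (hLr.ge ha.1 : a ∈ ι.range); exact hN1 b,
    fun a ha => by obtain ⟨b, rfl⟩ := (hLr.ge ha.1 : a ∈ ι.range); exact hN2 b,
    htr1, htr2, ⟨hLr.le ⟨s, rfl⟩, mem_centralizer_iff.2 fun x hx => ?_⟩, ⟨hLr.le ⟨t, rfl⟩, htQ1⟩,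
    orderOf_eq_prime (by rw [pow_two]; exact hsq _ hs) (hne _ hs1),
    orderOf_eq_prime (by rw [pow_two]; exact hsq _ ht) (hne _ ht1), ?_, ?_, fun x hx => hx.2, htQ2,
    by rw [hsup]; exact hnorm, ?_⟩
  · intro x hx
    obtain ⟨a, ha, b, hb, rfl⟩ := P.dec x hx
    rw [(show Commute a b from P.comm a ha b hb).mul_pow, hcube P htr1 a ha, hcube P.symm htr2 b hb, one_mul]
  · exact (mul_inv_eq_iff_eq_mul.1 (mem_Fx.1 hx).2).symm
  · rintro l ⟨hl, -⟩
    obtain ⟨b, rfl⟩ := (hLr.ge hl : l ∈ ι.range)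
    rw [← map_mul, ← map_mul, hsc]
  · rintro l ⟨hl, -⟩
    obtain ⟨b, rfl⟩ := (hLr.ge hl : l ∈ ι.range)
    rw [← map_mul, ← map_mul, htc]
  · -- the permutation of the two factors
    intro c hc
    have hQL : Q ⊔ L.map (MulAut.conj c).toMonoidHom = Q ⊔ L := by
      have e1 : Q.map (MulAut.conj c).toMonoidHom = Q := Subgroup.mem_normalizer_iff_map_conj_eq.1 (h.Q_norm hc)
      have e2 : (Q ⊔ L).map (MulAut.conj c).toMonoidHom = Q ⊔ L :=
        Subgroup.mem_normalizer_iff_map_conj_eq.1 (hnorm hc)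
      rw [Subgroup.map_sup, e1] at e2
      exact e2
    haveI : Fact (Nat.Prime 2) := ⟨Nat.prime_two⟩
    have hLp : IsPGroup 2 ↥L := IsPGroup.of_card (n := 6) (by rw [hLc]; norm_num)
    obtain ⟨k, hk, hle⟩ := Coprime.exists_le_conj_smul (A := L) (K := Q) (M := L.map (MulAut.conj c).toMonoidHom)
      (fun a ha => h.Q_norm (hLC ha)) (by rw [hLc, h.Q_card]; norm_num)
      (Or.inl (by haveI := hLp.isNilpotent; exact inferInstance)) hQL
    have hmap : L.map (MulAut.conj (k * c)).toMonoidHom = L := by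
      refine (Subgroup.eq_of_le_of_card_ge ?_ ?_).symm
      · intro x hx
        have := hle hx
        rw [Coprime.mem_conj_smul] at this
        obtain ⟨y, hy, e⟩ := this
        refine ⟨y, hy, ?_⟩
        simp only [MulEquiv.coe_toMonoidHom, MulAut.conj_apply] at e ⊢
        calc k * c * y * (k * c)⁻¹ = k * (c * y * c⁻¹) * k⁻¹ := by group
          _ = x := by rw [e]; group
      · rw [card_map_of_injective (MulAut.conj (k * c)).injective]
    have hkc : k * c ∈ centralizer (Z : Set G) := mul_mem (h.Q_le hk) hc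
    obtain ⟨d, hd⟩ : ∃ d, ι d = k * c * ι s * (k * c)⁻¹ := by
      have : k * c * ι s * (k * c)⁻¹ ∈ ι.range := by
        rw [hLr]; exact hmap.le ⟨ι s, hLr.le ⟨s, rfl⟩, rfl⟩
      exact this
    have hd1 : d ≠ 1 := fun e => by
      rw [e, map_one] at hd
      exact hne _ hs1 (conj_eq_one_iff.1 hd.symm)
    have hdc : ∀ b, d * b = b * d := by
      intro b
      apply hι
      obtain ⟨y, hy, e⟩ := hmap.ge (hLr.le ⟨b, rfl⟩)
      obtain ⟨b', rfl⟩ := (hLr.ge hy : y ∈ ι.range)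
      simp only [MulEquiv.coe_toMonoidHom, MulAut.conj_apply] at e
      rw [map_mul, map_mul, hd, ← e]
      calc k * c * ι s * (k * c)⁻¹ * (k * c * ι b' * (k * c)⁻¹) = k * c * (ι s * ι b') * (k * c)⁻¹ := by group
        _ = k * c * (ι b' * ι s) * (k * c)⁻¹ := by rw [← map_mul, hsc, map_mul]
        _ = _ := by group
    have hd2 : d * d = 1 := hι (by
      rw [map_mul, hd, map_one]
      calc k * c * ι s * (k * c)⁻¹ * (k * c * ι s * (k * c)⁻¹) = k * c * (ι s * ι s) * (k * c)⁻¹ := by group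
        _ = 1 := by rw [hsq _ hs]; group)
    -- the images of the two pieces
    have himF : Q2.map (MulAut.conj (k * c)).toMonoidHom ≤ Fx Q (ι d) := by
      rintro _ ⟨x, hx, rfl⟩
      obtain ⟨hxQ, hxe⟩ := mem_Fx.1 hx
      refine mem_Fx.2 ⟨h.conj_mem hkc hxQ, ?_⟩
      simp only [MulEquiv.coe_toMonoidHom, MulAut.conj_apply]
      rw [hd]
      calc k * c * ι s * (k * c)⁻¹ * (k * c * x * (k * c)⁻¹) * (k * c * ι s * (k * c)⁻¹)⁻¹ =
          k * c * (ι s * x * (ι s)⁻¹) * (k * c)⁻¹ := by group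
        _ = _ := by rw [hxe]
    have himI : Q1.map (MulAut.conj (k * c)).toMonoidHom ≤ h.Iv (ι d) (hC d) := by
      rintro _ ⟨x, ⟨hxQ, hxe⟩, rfl⟩
      refine ⟨h.conj_mem hkc hxQ, ?_⟩
      simp only [MulEquiv.coe_toMonoidHom, MulAut.conj_apply]
      rw [hd, show k * c * ι s * (k * c)⁻¹ * (k * c * x * (k * c)⁻¹) * (k * c * ι s * (k * c)⁻¹)⁻¹ *
        (k * c * x * (k * c)⁻¹) = k * c * (ι s * x * (ι s)⁻¹ * x) * (k * c)⁻¹ by group, h.conj_Z hkc hxe]
      exact hxe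
    have hcm : ∀ A : Subgroup G, Nat.card ↥(A.map (MulAut.conj (k * c)).toMonoidHom) = Nat.card A :=
      fun A => card_map_of_injective (MulAut.conj (k * c)).injective
    rcases center_three s t d hsc htc hdc hs1 ht1 (Ne.symm hts) hd1 with e | e | e
    · rw [e] at himF
      have himI' : Q1.map (MulAut.conj (k * c)).toMonoidHom ≤ Q1 := fun x hx => by
        subst e; exact himI hx
      exact Or.inl ⟨mem_iff_of_map_eq (Subgroup.eq_of_le_of_card_ge himI' (by rw [hcm])) (P.norm1 h hk),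
        mem_iff_of_map_eq (Subgroup.eq_of_le_of_card_ge himF (by rw [hcm])) (P.symm.norm1 h hk)⟩
    · subst e
      rw [hFt.1] at himF
      rw [hFt.2] at himI
      exact Or.inr ⟨mem_iff_of_map_eq (Subgroup.eq_of_le_of_card_ge himI (by rw [hcm, P.card1, P.card2]))
          (P.symm.norm1 h hk),
        mem_iff_of_map_eq (Subgroup.eq_of_le_of_card_ge himF (by rw [hcm, P.card1, P.card2])) (P.norm1 h hk)⟩
    · exfalso
      have : Fx Q (ι d) ≤ Z := by
        intro x hx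
        obtain ⟨hxQ, hxe⟩ := mem_Fx.1 hx
        obtain ⟨a, ha, b, hb, rfl⟩ := P.dec x hxQ
        have hda : ι d * a * (ι d)⁻¹ * a ∈ Z := by
          have : ι d * a * (ι d)⁻¹ = ι s * a * (ι s)⁻¹ := by
            rw [e, map_mul]
            calc ι s * ι t * a * (ι s * ι t)⁻¹ = ι s * (ι t * a * (ι t)⁻¹) * (ι s)⁻¹ := by group
              _ = _ := by rw [← mem_centralizer_iff.1 htQ1 a ha, mul_inv_cancel_right]
          rw [this]; exact ha.2
        have hdb : ι d * b * (ι d)⁻¹ * b ∈ Z := by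
          have : ι d * b * (ι d)⁻¹ = ι t * b * (ι t)⁻¹ := by
            rw [e, hsc t, map_mul]
            calc ι t * ι s * b * (ι t * ι s)⁻¹ = ι t * (ι s * b * (ι s)⁻¹) * (ι t)⁻¹ := by group
              _ = _ := by rw [(mem_Fx.1 hb).2]
          rw [this]; exact htQ2 b hb
        exact h.inf_parts (hC d) hx
          ((h.Iv (ι d) (hC d)).mul_mem ⟨P.le1 ha, hda⟩ ⟨P.le2 hb, hdb⟩)
      have := Subgroup.card_le_of_le (himF.trans this)
      rw [hcm, P.card2, h.Z_card] at this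
      omega

end Cfsg.Agent.UThreeLocal
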