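import Cfsg.Agent.Lib.UThreeLocal.Loc.Coordinate

/-!
# A conjugate of `Z` in `C(Z)` centralises a group of order 27 of `Q`
-/

set_option autoImplicit false
set_option linter.unusedSectionVars false
set_option linter.style.haveILetI false

namespace Cfsg.Agent.UThreeLocal

open Subgroup
open scoped commutatorElement

universe u

theorem mult_facts : (∀ a : Multiplicative (ZMod 3), a ^ 3 = 1) ∧ Multiplicative.ofAdd (1 : ZMod 3) ≠ 1 ∧
    ∀ a b : Multiplicative (ZMod 3), a ≠ 1 → b ≠ 1 → ∀ m : Fin 3, (a ^ (m : ℕ) = 1 ∨ b ^ (m : ℕ) = 1) →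
      a ^ (m : ℕ) = 1 ∧ b ^ (m : ℕ) = 1 := by
  decide +kernel

variable {G : Type u} [Group G] [Finite G] {Z Q Q1 Q2 L1 L2 : Subgroup G} {t1 t2 : G}

namespace Frame

variable (F : Frame Z Q Q1 Q2 L1 L2 t1 t2) {y : G}
include F

theorem nontriv (hpt : IsPt Z y) (hyC : y ∈ centralizer (Z : Set G)) (hyZ : y ∉ Z) :
    ¬ Triv Z Q1 y ∧ ¬ Triv Z Q2 y := by
  obtain ⟨-, -, -, hyQ, -, -⟩ := F.pt_side hpt hyC hyZ
  constructor <;> intro h1
  · by_cases h2 : Triv Z Q2 y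
    · exact hyQ (F.mem_Q_of_triv hyC h1 h2)
    · exact F.symm.coord_false hpt hyC hyZ h1 h2
  · by_cases h2 : Triv Z Q1 y
    · exact hyQ (F.mem_Q_of_triv hyC h2 h1)
    · exact F.coord_false hpt hyC hyZ h1 h2

/-- The sum of the two flags. -/
theorem card_flags {P P' : Subgroup G} {a1 a2 : G} (hf1 : Flag Z Q1 P a1) (hf2 : Flag Z Q2 P' a2) :
    Nat.card ↥((Z ⊔ zpowers a1) ⊔ (Z ⊔ zpowers a2)) = 27 := by
  have h := F.set
  have h1 : Z ⊔ zpowers a1 ≤ Q1 := sup_le F.pair.Z1 (zpowers_le.2 hf1.mem)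
  have h2 : Z ⊔ zpowers a2 ≤ Q2 := sup_le F.pair.Z2 (zpowers_le.2 hf2.mem)
  have hc := card_sup_mul_inf (A := Z ⊔ zpowers a1) (B := Z ⊔ zpowers a2)
    ((h2.trans F.pair.le2).trans (h.normal_of_Z_le (h1.trans F.pair.le1) le_sup_left))
  have hi : (Z ⊔ zpowers a1) ⊓ (Z ⊔ zpowers a2) = Z :=
    le_antisymm (fun x hx => F.not_swap_both (h1 hx.1) (h2 hx.2)) (le_inf le_sup_left le_sup_left)
  rw [hi, h.Z_card, F.card_flag hf1, F.symm.card_flag hf2] at hc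
  omega

theorem Fx_le_flags {P : Subgroup G} {a1 a2 : G} (hP : IsPGroup 3 ↥P) (hPC : P ≤ centralizer (Z : Set G))
    (hyP : y ∈ P) (hf1 : Flag Z Q1 P a1) (hf2 : Flag Z Q2 P a2) (hn1 : ¬ Triv Z Q1 y) (hn2 : ¬ Triv Z Q2 y) :
    F.set.Mt y (hPC hyP) ≤ (Z ⊔ zpowers a1) ⊔ (Z ⊔ zpowers a2) := by
  rintro x ⟨hxQ, hx⟩
  obtain ⟨u, hu, v, hv, rfl⟩ := F.pair.dec x hxQ
  rw [F.shift_dec (F.conj_mem1 hP hPC hyP hu) hu hv] at hx
  set s1 := u⁻¹ * (y * u * y⁻¹) with hs1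
  set s2 := v⁻¹ * (y * v * y⁻¹) with hs2
  have m1 : s1 ∈ Q1 := mul_mem (inv_mem hu) (F.conj_mem1 hP hPC hyP hu)
  have m2 : s2 ∈ Q2 := mul_mem (inv_mem hv) (F.symm.conj_mem1 hP hPC hyP hv)
  have h1Z : s1 ∈ Z := F.not_swap_both m1 (by
    rw [show s1 = (s1 * s2) * s2⁻¹ by group]
    exact mul_mem (F.pair.Z2 hx) (inv_mem m2))
  have h2Z : s2 ∈ Z := by
    rw [show s2 = s1⁻¹ * (s1 * s2) by group]
    exact mul_mem (inv_mem h1Z) hx
  exact mul_mem_sup (F.mem_flag hf1 hyP (hPC hyP) hn1 hu h1Z) (F.symm.mem_flag hf2 hyP (hPC hyP) hn2 hv h2Z)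

theorem shift_mem_flags {P : Subgroup G} {a1 a2 : G} (hP : IsPGroup 3 ↥P) (hPC : P ≤ centralizer (Z : Set G))
    (hyP : y ∈ P) (hf1 : Flag Z Q1 P a1) (hf2 : Flag Z Q2 P a2) :
    ∀ q ∈ Q, y⁻¹ * (q * y * q⁻¹) ∈ (Z ⊔ zpowers a1) ⊔ (Z ⊔ zpowers a2) := by
  refine F.orbit_mem (sup_le (sup_le (F.set.Z_le) (zpowers_le.2 (F.pair.le1 hf1.mem)))
    (sup_le F.set.Z_le (zpowers_le.2 (F.pair.le2 hf2.mem)))) (le_sup_left.trans le_sup_left) fun q hq => ?_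
  obtain ⟨u, hu, v, hv, rfl⟩ := F.pair.dec q hq
  rw [F.shift_dec (F.conj_mem1 hP hPC (inv_mem hyP) hu) hu hv]
  exact mul_mem_sup (hf1.move _ (inv_mem hyP) u hu) (hf2.move _ (inv_mem hyP) v hv)

/-- A coordinate element of `C_{Q'}(z)` centralises the elements it fixes modulo `Z`, in the bad case. -/
theorem coord_fixes {g : G} (hZg : ∀ z ∈ Z, z ≠ 1 → ∀ u ∈ Fx (cj g Q) z, IsPt (cj g Z) (z * u))
    {u x z : G} (hu : u ∈ cj g Q) (huy : u ∉ cj g Z) (huz : z * u = u * z)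
    (hz : z ∈ Z) (hzgen : zpowers z = Z) (hxQ : x ∈ Q) (hxu : x⁻¹ * (u * x * u⁻¹) ∈ Z) :
    u * x = x * u := by
  by_contra hne
  set s := x⁻¹ * (u * x * u⁻¹) with hs
  have hs1 : s ≠ 1 := fun e => hne (by
    have := (inv_mul_eq_one.1 e).symm
    exact mul_inv_eq_iff_eq_mul.1 this)
  have hsu : s * u = x⁻¹ * u * x := by rw [hs]; group
  have hum : u ∈ Fx (cj g Q) s := by
    refine mem_inf.2 ⟨hu, mem_centralizer_singleton_iff.2 ?_⟩
    obtain ⟨n, hn⟩ := mem_zpowers_iff.1 (hzgen.ge hxu : s ∈ zpowers z)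
    rw [← hn]
    exact ((show Commute z u from huz).zpow_left n).eq.symm
  have hp : IsPt (cj g Z) (s * u) := hZg s hxu hs1 u hum
  have hp' : IsPt (cj g Z) u := by
    have := hp.conj x
    rwa [hsu, show x * (x⁻¹ * u * x) * x⁻¹ = u by group] at this
  exact huy ((F.set.conj g).pt_mem hp' hu)

theorem good_card (hpt : IsPt Z y) (hyC : y ∈ centralizer (Z : Set G)) (hyZ : y ∉ Z) {P : Subgroup G}
    (hP : IsPGroup 3 ↥P) (hPC : P ≤ centralizer (Z : Set G)) (hyP : y ∈ P) {a1 a2 : G}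
    (hf1 : Flag Z Q1 P a1) (hf2 : Flag Z Q2 P a2) :
    Fx Q y = (Z ⊔ zpowers a1) ⊔ (Z ⊔ zpowers a2) ∨
      (Nat.card ↥(Fx Q y) = 9 ∧ ∀ b ∈ (Z ⊔ zpowers a1) ⊔ (Z ⊔ zpowers a2), IsPt Z (y * b)) := by
  haveI : Fact (Nat.Prime 3) := ⟨Nat.prime_three⟩
  have h := F.set
  obtain ⟨hn1, hn2⟩ := F.nontriv hpt hyC hyZ
  set B := (Z ⊔ zpowers a1) ⊔ (Z ⊔ zpowers a2) with hB
  have hB27 := F.card_flags hf1 hf2
  have hWB : Fx Q y ≤ B := (h.Fx_le_Mt hyC).trans (F.Fx_le_flags hP hPC hyP hf1 hf2 hn1 hn2)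
  by_cases hc : Nat.card ↥(Fx Q y) = 27
  · exact Or.inl (Subgroup.eq_of_le_of_card_ge hWB (by rw [hc, hB27]))
  right
  obtain ⟨k, hk, ek⟩ := (Nat.dvd_prime_pow Nat.prime_three).1 (show Nat.card ↥(Fx Q y) ∣ 3 ^ 3 by
    rw [show (3 : ℕ) ^ 3 = Nat.card B by rw [hB27]; norm_num]
    exact card_dvd_of_le hWB)
  have horb := h.orbit (F.shift_mem_flags hP hPC hyP hf1 hf2)
  rw [hB27] at horb
  have h1 := horb.1
  rw [ek] at hc h1
  obtain rfl : k = 2 := by interval_cases k <;> omega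
  refine ⟨by rw [ek]; norm_num, fun b hb => ?_⟩
  obtain ⟨q, -, e⟩ := horb.2 (by rw [ek]; norm_num) b hb
  exact e ▸ hpt.conj q

/-- A conjugate of `Z` in `C(Z)` centralises both flags. -/
theorem good (hpt : IsPt Z y) (hyC : y ∈ centralizer (Z : Set G)) (hyZ : y ∉ Z) {P : Subgroup G}
    (hP : IsPGroup 3 ↥P) (hPC : P ≤ centralizer (Z : Set G)) (hyP : y ∈ P) {a1 a2 : G}
    (hf1 : Flag Z Q1 P a1) (hf2 : Flag Z Q2 P a2) :
    Fx Q y = (Z ⊔ zpowers a1) ⊔ (Z ⊔ zpowers a2) := by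
  classical
  haveI : Fact (Nat.Prime 3) := ⟨Nat.prime_three⟩
  have h := F.set
  obtain ⟨hn1, hn2⟩ := F.nontriv hpt hyC hyZ
  refine (F.good_card hpt hyC hyZ hP hPC hyP hf1 hf2).resolve_right ?_
  rintro ⟨hW9, hpts⟩
  obtain ⟨g, hyg, hzp, hyQ, hy3, hzside, hinf, hcent⟩ := F.pt_side hpt hyC hyZ
  set B := (Z ⊔ zpowers a1) ⊔ (Z ⊔ zpowers a2) with hB
  have hBQ : B ≤ Q := sup_le (sup_le F.set.Z_le (zpowers_le.2 (F.pair.le1 hf1.mem)))
    (sup_le F.set.Z_le (zpowers_le.2 (F.pair.le2 hf2.mem)))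
  have hWB : Fx Q y ≤ B := (h.Fx_le_Mt hyC).trans (F.Fx_le_flags hP hPC hyP hf1 hf2 hn1 hn2)
  -- `C_Q(y)` misses the other radical
  have hWg : ∀ w ∈ Fx Q y, w ∈ cj g Q → w = 1 := fun w hw hwg => by
    have h1 := (h.conj g).pt_mem ((IsPt.cj_iff g).2 (hpts w (hWB hw)))
      (mul_mem ((F.conj g).set.Z_le hyg) hwg)
    exact hinf w hw.1 ((Subgroup.mul_mem_cancel_left _ hyg).1 h1)
  -- the other side
  obtain ⟨z, hz, hz1⟩ : ∃ z ∈ Z, z ≠ 1 := by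
    by_contra hc
    push Not at hc
    have : Z = ⊥ := eq_bot_iff.2 fun x hx => mem_bot.2 (hc x hx)
    have := h.Z_card
    rw [‹Z = ⊥›, card_bot] at this
    omega
  have hzgen : zpowers z = Z := zpowers_eq_of_prime h.Z_card hz hz1
  obtain ⟨hzC, hzZ', hzQ', hzpt⟩ := hzside z hz hz1
  set W' := Fx (cj g Q) z with hW'
  have hW'C : W' ≤ centralizer (Z : Set G) := fun u hu => mem_centralizer_iff.2 fun w hw => by
    obtain ⟨n, rfl⟩ := mem_zpowers_iff.1 (hzgen.ge hw : w ∈ zpowers z)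
    exact ((show Commute z u from (mem_centralizer_singleton_iff.1 hu.2).symm).zpow_left n).eq
  have hW'y : y ∈ W' := mem_inf.2 ⟨(F.conj g).set.Z_le hyg,
    mem_centralizer_singleton_iff.2 (mem_centralizer_iff.1 hyC z hz).symm⟩
  have hW'p : IsPGroup 3 ↥W' :=
    (IsPGroup.of_card (n := 5) (by rw [card_cj, h.Q_card]; norm_num) : IsPGroup 3 ↥(cj g Q)).to_le inf_le_left
  obtain ⟨χ, hχ⟩ := F.exists_char hW'p hW'C
  obtain ⟨ψ, hψ⟩ := F.symm.exists_char hW'p hW'C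
  have hW'Q : ∀ u ∈ W', u ∈ Q → u = 1 := fun u hu huQ => by
    refine hWg u (mem_inf.2 ⟨huQ, ?_⟩) hu.1
    rw [← hcent]
    exact (h.conj g).Q_le hu.1
  have hinj : Function.Injective (χ.prod ψ) := by
    rw [injective_iff_map_eq_one]
    intro x hx
    rw [MonoidHom.prod_apply, Prod.mk_eq_one] at hx
    exact Subtype.ext (hW'Q x x.2 (F.mem_Q_of_triv (hW'C x.2) ((hχ x).1 hx.1) ((hψ x).1 hx.2)))
  have hle9 : Nat.card ↥W' ≤ 9 := by
    have := Nat.card_le_card_of_injective _ hinj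
    rw [Nat.card_prod] at this
    simpa using this
  have hzP := F.pgroup_zpowers (y := z) (h.Z_cube hz)
  have hzPC : zpowers z ≤ centralizer ((cj g Z : Subgroup G) : Set G) := zpowers_le.2 hzC
  obtain ⟨c1, hg1⟩ := (F.conj g).exists_flag' hzP hzPC
  obtain ⟨c2, hg2⟩ := (F.conj g).symm.exists_flag' hzP hzPC
  obtain ⟨hW'9, hptsg⟩ := ((F.conj g).good_card hzpt hzC hzZ' hzP hzPC (mem_zpowers z) hg1 hg2).resolve_left
    fun e => by
      have h27 := (F.conj g).card_flags hg1 hg2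
      rw [← e] at h27
      have : Nat.card ↥W' = 27 := h27
      omega
  have hsurj : Function.Surjective (χ.prod ψ) :=
    ((Nat.bijective_iff_injective_and_card _).2 ⟨hinj, by rw [hW'9, Nat.card_prod]; simp⟩).2
  -- translates of elements of `Z` by `C_{Q'}(z)` are conjugates
  have hZg : ∀ w ∈ Z, w ≠ 1 → ∀ u ∈ Fx (cj g Q) w, IsPt (cj g Z) (w * u) := by
    intro w hw hw1 u hu
    obtain ⟨hwC, hwZ', -, hwpt⟩ := hzside w hw hw1
    have hwP := F.pgroup_zpowers (y := w) (h.Z_cube hw)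
    have hwPC : zpowers w ≤ centralizer ((cj g Z : Subgroup G) : Set G) := zpowers_le.2 hwC
    obtain ⟨d1, hd1⟩ := (F.conj g).exists_flag' hwP hwPC
    obtain ⟨d2, hd2⟩ := (F.conj g).symm.exists_flag' hwP hwPC
    obtain ⟨m1, m2⟩ := (F.conj g).nontriv hwpt hwC hwZ'
    obtain ⟨-, hp⟩ := ((F.conj g).good_card hwpt hwC hwZ' hwP hwPC (mem_zpowers w) hd1 hd2).resolve_left
      fun e => by
        have h27 := (F.conj g).card_flags hd1 hd2
        rw [← e] at h27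
        have : Fx (cj g Q) w = Fx (cj g Q) z := by
          have : centralizer ({w} : Set G) = centralizer ({z} : Set G) := by
            rw [← centralizer_closure {w}, ← centralizer_closure {z}, ← zpowers_eq_closure, ← zpowers_eq_closure,
              hzgen, zpowers_eq_of_prime h.Z_card hw hw1]
          rw [Fx, this]
        rw [this] at h27
        omega
    exact hp u (((F.conj g).set.Fx_le_Mt hwC).trans
      ((F.conj g).Fx_le_flags hwP hwPC (mem_zpowers w) hd1 hd2 m1 m2) hu)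
  obtain ⟨b1, hb1⟩ := F.exists_flag' hW'p hW'C
  obtain ⟨b2, hb2⟩ := F.symm.exists_flag' hW'p hW'C
  -- the two coordinate elements
  obtain ⟨u1, hu1⟩ := hsurj (Multiplicative.ofAdd 1, 1)
  obtain ⟨u2, hu2⟩ := hsurj (1, Multiplicative.ofAdd 1)
  rw [MonoidHom.prod_apply, Prod.mk.injEq] at hu1 hu2
  have hne1 : (Multiplicative.ofAdd (1 : ZMod 3)) ≠ 1 := mult_facts.2.1
  have hzu : ∀ u : ↥W', z * (u : G) = (u : G) * z := fun u => (mem_centralizer_singleton_iff.1 u.2.2).symm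
  have hnotZ' : ∀ u : ↥W', χ u = 1 ∨ ψ u = 1 → χ u ≠ 1 ∨ ψ u ≠ 1 → (u : G) ∉ cj g Z := by
    intro u hor hne hm
    rw [← hzp] at hm
    obtain ⟨n, hn⟩ := mem_zpowers_iff.1 hm
    have he : u = (⟨y, hW'y⟩ : ↥W') ^ n := Subtype.ext (by simp [hn])
    have hy1 : χ ⟨y, hW'y⟩ ≠ 1 := fun e => hn1 ((hχ _).1 e)
    have hy2 : ψ ⟨y, hW'y⟩ ≠ 1 := fun e => hn2 ((hψ _).1 e)
    have key : ∀ a b : Multiplicative (ZMod 3), a ≠ 1 → b ≠ 1 →
        ∀ m : Fin 3, (a ^ (m : ℕ) = 1 ∨ b ^ (m : ℕ) = 1) → a ^ (m : ℕ) = 1 ∧ b ^ (m : ℕ) = 1 := mult_facts.2.2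
    have h3 : ∀ a : Multiplicative (ZMod 3), a ^ n = a ^ (n % 3).toNat := by
      intro a
      have ha : a ^ 3 = 1 := mult_facts.1 a
      conv_lhs => rw [← Int.emod_add_mul_ediv n 3, zpow_add, zpow_mul]
      rw [show a ^ (3 : ℤ) = 1 by exact_mod_cast ha, one_zpow, mul_one,
        ← zpow_natCast, Int.toNat_of_nonneg (Int.emod_nonneg n (by norm_num))]
    rw [he, map_zpow, map_zpow, h3, h3] at hor hne
    have h0 := Int.emod_nonneg n (show (3 : ℤ) ≠ 0 by norm_num)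
    have h1 := Int.emod_lt_of_pos n (show (0 : ℤ) < 3 by norm_num)
    obtain ⟨e1, e2⟩ := key _ _ hy1 hy2 ⟨(n % 3).toNat, by omega⟩ hor
    rcases hne with h | h
    · exact h e1
    · exact h e2
  have hu1y : (u1 : G) ∉ cj g Z := hnotZ' u1 (Or.inr hu1.2) (Or.inl (hu1.1 ▸ hne1))
  have hu2y : (u2 : G) ∉ cj g Z := hnotZ' u2 (Or.inl hu2.1) (Or.inr (hu2.2 ▸ hne1))
  have hfixer : ∀ (u : ↥W'), (u : G) ∉ cj g Z → ∀ x ∈ Q, x⁻¹ * ((u : G) * x * (u : G)⁻¹) ∈ Z → (u : G) * x = x * (u : G) :=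
    fun u hu x hx hxu => F.coord_fixes hZg u.2.1 hu (hzu u) hz hzgen hx hxu
  -- both flags are centralised by `y`
  set K := W' ⊓ centralizer ({b1, b2} : Set G) with hK
  have hmemK : ∀ u : ↥W', (u : G) ∉ cj g Z → (u : G) ∈ K := by
    intro u hu
    refine mem_inf.2 ⟨u.2, mem_centralizer_iff.2 ?_⟩
    rintro x (rfl | hx)
    · exact (hfixer u hu x (F.pair.le1 hb1.mem) (hb1.fix u u.2)).symm
    · rw [Set.mem_singleton_iff.1 hx]
      exact (hfixer u hu b2 (F.pair.le2 hb2.mem) (hb2.fix u u.2)).symm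
  have hKW : K = W' := by
    refine Subgroup.eq_of_le_of_card_ge inf_le_left ?_
    obtain ⟨k, hk, ek⟩ := (Nat.dvd_prime_pow Nat.prime_three).1 (show Nat.card ↥K ∣ 3 ^ 2 by
      rw [show (3 : ℕ) ^ 2 = Nat.card W' by rw [hW'9]; norm_num]
      exact card_dvd_of_le inf_le_left)
    rw [hW'9, ek]
    by_contra hlt
    have hk1 : k ≤ 1 := by
      by_contra hk2
      exact hlt (le_trans (by norm_num) (Nat.pow_le_pow_right (by norm_num : 1 ≤ 3) (show 2 ≤ k by omega)))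
    have hsub : zpowers (u1 : G) = K := by
      refine Subgroup.eq_of_le_of_card_ge (zpowers_le.2 (hmemK u1 hu1y)) ?_
      rw [ek, Nat.card_zpowers]
      have hu1ne : (u1 : G) ≠ 1 := fun e => hu1y (e ▸ one_mem _)
      calc 3 ^ k ≤ 3 ^ 1 := Nat.pow_le_pow_right (by norm_num) hk1
        _ = orderOf (u1 : G) := by
          rw [orderOf_eq_prime ((F.conj g).cube _ u1.2.1) hu1ne, pow_one]
    obtain ⟨n, hn⟩ := mem_zpowers_iff.1 (hsub.ge (hmemK u2 hu2y))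
    have he : u2 = u1 ^ n := Subtype.ext (by simp [hn])
    have : ψ u2 = 1 := by rw [he, map_zpow, hu1.2, one_zpow]
    exact hne1 (hu2.2.symm.trans this)
  have hyK : y ∈ K := hKW.ge hW'y
  have hbW : ∀ x ∈ ({b1, b2} : Set G), x ∈ Q → x ∈ Fx Q y := fun x hx hxQ =>
    mem_inf.2 ⟨hxQ, mem_centralizer_singleton_iff.2 (mem_centralizer_iff.1 hyK.2 x hx)⟩
  have hsup : (Z ⊔ zpowers b1) ⊔ (Z ⊔ zpowers b2) ≤ Fx Q y :=
    sup_le (sup_le (h.Z_le_Fx hyC) (zpowers_le.2 (hbW b1 (Or.inl rfl) (F.pair.le1 hb1.mem))))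
      (sup_le (h.Z_le_Fx hyC) (zpowers_le.2 (hbW b2 (Or.inr rfl) (F.pair.le2 hb2.mem))))
  have := Subgroup.card_le_of_le hsup
  rw [F.card_flags hb1 hb2, hW9] at this
  omega

/-- The centralizer in `Q` of a conjugate of `Z` in `C(Z)` has order 27. -/
theorem card_Fx_pt (hpt : IsPt Z y) (hyC : y ∈ centralizer (Z : Set G)) (hyZ : y ∉ Z) :
    Nat.card ↥(Fx Q y) = 27 := by
  obtain ⟨-, -, -, -, hy3, -⟩ := F.pt_side hpt hyC hyZ
  have hP := F.pgroup_zpowers hy3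
  have hPC : zpowers y ≤ centralizer (Z : Set G) := zpowers_le.2 hyC
  obtain ⟨a1, h1⟩ := F.exists_flag' hP hPC
  obtain ⟨a2, h2⟩ := F.symm.exists_flag' hP hPC
  rw [F.good hpt hyC hyZ hP hPC (mem_zpowers y) h1 h2]
  exact F.card_flags h1 h2

end Frame

end Cfsg.Agent.UThreeLocal
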