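import Cfsg.Agent.Lib.UThreeLocal.Loc.Setting

/-!
# An involution acting on the extraspecial group: fixed and inverted parts, freeness of 2-elements
-/

set_option autoImplicit false
set_option linter.unusedSectionVars false
set_option linter.style.haveILetI false

namespace Cfsg.Agent.UThreeLocal

open Subgroup
open scoped commutatorElement

universe u

variable {G : Type u} [Group G]

/-- The elements of `Q` fixed by `t`. -/
abbrev Fx (Q : Subgroup G) (t : G) : Subgroup G := Q ⊓ centralizer ({t} : Set G)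

theorem mem_Fx {Q : Subgroup G} {t x : G} : x ∈ Fx Q t ↔ x ∈ Q ∧ t * x * t⁻¹ = x := by
  rw [mem_inf, mem_centralizer_singleton_iff]
  exact and_congr_right fun _ => ⟨fun h => by rw [← h, mul_inv_cancel_right],
    fun h => (mul_inv_eq_iff_eq_mul.1 h).symm⟩

theorem pow_conj_fixed {l u v : G} (hu : l * u * l⁻¹ = u * v) (hv : l * v * l⁻¹ = v) (n : ℕ) :
    l ^ n * u * (l ^ n)⁻¹ = u * v ^ n := by
  induction n with
  | zero => simp
  | succ k ih =>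
    calc l ^ (k + 1) * u * (l ^ (k + 1))⁻¹ = l * (l ^ k * u * (l ^ k)⁻¹) * l⁻¹ := by
          rw [pow_succ']; group
      _ = (l * u * l⁻¹) * (l * v * l⁻¹) ^ k := by rw [ih, conj_pow]; group
      _ = u * v ^ (k + 1) := by rw [hu, hv, pow_succ']; group

namespace Setting

variable [Finite G] {Z Q : Subgroup G} (h : Setting Z Q)
include h

theorem conj_mem {c x : G} (hc : c ∈ centralizer (Z : Set G)) (hx : x ∈ Q) : c * x * c⁻¹ ∈ Q :=
  (mem_normalizer_iff.1 (h.Q_norm hc) x).1 hx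

theorem conj_Z {c z : G} (hc : c ∈ centralizer (Z : Set G)) (hz : z ∈ Z) : c * z * c⁻¹ = z := by
  rw [← mem_centralizer_iff.1 hc z hz, mul_inv_cancel_right]

/-- The elements of `Q` inverted by `t` modulo `Z`. -/
def Iv (t : G) (ht : t ∈ centralizer (Z : Set G)) : Subgroup G where
  carrier := {x | x ∈ Q ∧ t * x * t⁻¹ * x ∈ Z}
  one_mem' := ⟨Q.one_mem, by simpa using Z.one_mem⟩
  mul_mem' := by
    rintro x y ⟨hx, hx'⟩ ⟨hy, hy'⟩
    refine ⟨mul_mem hx hy, ?_⟩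
    set z1 := t * x * t⁻¹ * x with hz1
    set z2 := t * y * t⁻¹ * y with hz2
    have e : t * (x * y) * t⁻¹ * (x * y) = z1 * z2 * ⁅x⁻¹, y⁻¹⁆ := by
      have h2 := h.comm_Z (inv_mem hx) (show z2 ∈ Z from hy')
      calc t * (x * y) * t⁻¹ * (x * y) = z1 * ((x⁻¹ * z2) * y⁻¹ * x * y) := by rw [hz1, hz2]; group
        _ = z1 * z2 * ⁅x⁻¹, y⁻¹⁆ := by rw [← h2, commutatorElement_def]; group
    rw [e]
    exact mul_mem (mul_mem hx' hy') (h.comm_mem (inv_mem hx) (inv_mem hy))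
  inv_mem' := by
    rintro x ⟨hx, hx'⟩
    refine ⟨inv_mem hx, ?_⟩
    have e : t * x⁻¹ * t⁻¹ * x⁻¹ = x * (t * x * t⁻¹ * x)⁻¹ * x⁻¹ := by group
    rw [e, ← h.comm_Z hx (inv_mem hx'), mul_inv_cancel_right]
    exact inv_mem hx'

theorem mem_Iv {t : G} (ht : t ∈ centralizer (Z : Set G)) {x : G} :
    x ∈ h.Iv t ht ↔ x ∈ Q ∧ t * x * t⁻¹ * x ∈ Z := Iff.rfl

variable {t : G}

/-- A fixed point modulo `Z` of an involution is a fixed point. -/
theorem fixed_of_mod (ht : t ∈ centralizer (Z : Set G)) (h2 : t * t = 1) {x : G}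
    (hz : t * x * t⁻¹ * x⁻¹ ∈ Z) : t * x * t⁻¹ = x := by
  set z := t * x * t⁻¹ * x⁻¹ with he
  have h1 : t * x * t⁻¹ = z * x := by rw [he]; group
  have ti : t⁻¹ = t := inv_eq_of_mul_eq_one_right h2
  have h3 : x = z * z * x := by
    calc x = (t * t) * x * (t * t)⁻¹ := by rw [h2]; group
      _ = t * (t * x * t⁻¹) * t⁻¹ := by group
      _ = (t * z * t⁻¹) * (t * x * t⁻¹) := by conv_lhs => rw [h1]
                                              group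
      _ = z * (z * x) := by rw [h.conj_Z ht hz, h1]
      _ = z * z * x := by group
  have h4 : z * z = 1 := by simpa using (mul_eq_right.1 h3.symm)
  have h5 := h.Z_cube hz
  rw [pow_succ, pow_two, h4, one_mul] at h5
  rw [h1, h5, one_mul]

/-- A product of a fixed element, an inverted one and an element of `Z`. -/
theorem exists_parts (ht : t ∈ centralizer (Z : Set G)) (h2 : t * t = 1) {x : G} (hx : x ∈ Q) :
    ∃ c ∈ Fx Q t, ∃ i ∈ h.Iv t ht, x = c * i := by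
  set u := t * x * t⁻¹ with hu
  have huQ : u ∈ Q := h.conj_mem ht hx
  have ti : t⁻¹ = t := inv_eq_of_mul_eq_one_right h2
  have hut : t * u * t⁻¹ = x := by
    rw [hu]
    calc t * (t * x * t⁻¹) * t⁻¹ = (t * t) * x * (t * t)⁻¹ := by group
      _ = x := by rw [h2]; group
  -- `i = (x u⁻¹)²`, `c = x i⁻¹`
  set i := (x * u⁻¹) * (x * u⁻¹) with hi
  have hiQ : i ∈ Q := mul_mem (mul_mem hx (inv_mem huQ)) (mul_mem hx (inv_mem huQ))
  have hti : t * i * t⁻¹ = (u * x⁻¹) * (u * x⁻¹) := by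
    rw [hi]
    calc t * (x * u⁻¹ * (x * u⁻¹)) * t⁻¹ =
        (t * x * t⁻¹) * (t * u * t⁻¹)⁻¹ * ((t * x * t⁻¹) * (t * u * t⁻¹)⁻¹) := by group
      _ = _ := by rw [hut]
  have hiv : i ∈ h.Iv t ht := by
    refine ⟨hiQ, ?_⟩
    rw [hti, hi, show u * x⁻¹ * (u * x⁻¹) * (x * u⁻¹ * (x * u⁻¹)) = 1 by group]
    exact Z.one_mem
  refine ⟨x * i⁻¹, mem_Fx.2 ⟨mul_mem hx (inv_mem hiQ), h.fixed_of_mod ht h2 ?_⟩, i, hiv, by group⟩
  -- modulo `Z` all of `Q` commutes and has exponent three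
  have key : t * (x * i⁻¹) * t⁻¹ * (x * i⁻¹)⁻¹ =
      u * (x * u⁻¹ * (x * u⁻¹)) * (x * u⁻¹ * (x * u⁻¹)) * x⁻¹ := by
    calc t * (x * i⁻¹) * t⁻¹ * (x * i⁻¹)⁻¹ = u * (t * i * t⁻¹)⁻¹ * i * x⁻¹ := by rw [hu]; group
      _ = _ := by rw [hti, hi]; group
  rw [key]
  set w := x * u⁻¹ with hw
  have hwQ : w ∈ Q := mul_mem hx (inv_mem huQ)
  have e : u * (w * w) * (w * w) * x⁻¹ = (u * w ^ 3 * u⁻¹) * ⁅u, x⁆ := by
    rw [commutatorElement_def, pow_succ, pow_two, hw]; group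
  rw [e, ← h.comm_Z huQ (h.cube_mem hwQ), mul_inv_cancel_right]
  exact mul_mem (h.cube_mem hwQ) (h.comm_mem huQ hx)

theorem inf_parts (ht : t ∈ centralizer (Z : Set G)) {x : G} (hc : x ∈ Fx Q t)
    (hi : x ∈ h.Iv t ht) : x ∈ Z := by
  obtain ⟨hxQ, hx⟩ := mem_Fx.1 hc
  have h1 := hi.2
  rw [hx] at h1
  rw [show x = x ^ 3 * (x * x)⁻¹ by rw [pow_succ, pow_two]; group]
  exact mul_mem (h.cube_mem hxQ) (inv_mem h1)

theorem comm_parts (ht : t ∈ centralizer (Z : Set G)) {c i : G} (hc : c ∈ Fx Q t)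
    (hi : i ∈ h.Iv t ht) : c * i = i * c := by
  obtain ⟨hcQ, hct⟩ := mem_Fx.1 hc
  set z := t * i * t⁻¹ * i with hz
  have hti : t * i * t⁻¹ = z * i⁻¹ := by rw [hz]; group
  have hzc : ⁅c, z⁆ = 1 := commutatorElement_eq_one_iff_mul_comm.2 (h.comm_Z hcQ hi.2).symm
  have h1 : ⁅c, i⁆ = ⁅c, i⁻¹⁆ := by
    calc ⁅c, i⁆ = t * ⁅c, i⁆ * t⁻¹ := (h.conj_Z ht (h.comm_mem hcQ hi.1)).symm
      _ = ⁅t * c * t⁻¹, t * i * t⁻¹⁆ := by simp only [commutatorElement_def]; group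
      _ = ⁅c, i⁻¹⁆ := by rw [hct, hti, h.comm_mul_right (h.Z_le hi.2) (inv_mem hi.1) hcQ, hzc, one_mul]
  have h2 : ⁅c, i⁆ * ⁅c, i⁻¹⁆ = 1 := by
    rw [← h.comm_mul_right hi.1 (inv_mem hi.1) hcQ, mul_inv_cancel, commutatorElement_one_right]
  rw [← h1] at h2
  have h3 := h.cube c hcQ i hi.1
  rw [pow_succ, pow_two, h2, one_mul] at h3
  exact commutatorElement_eq_one_iff_mul_comm.1 h3

/-- If a 2-element moves `u` by a fixed element of `Q`, it fixes `u`. -/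
theorem fixed_of_fixed_shift {l u v : G} {e : ℕ} (hl : l ^ 2 ^ e = 1) (hv : v ∈ Q)
    (hu : l * u * l⁻¹ = u * v) (hvl : l * v * l⁻¹ = v) : l * u * l⁻¹ = u := by
  have h1 := pow_conj_fixed hu hvl (2 ^ e)
  rw [hl, one_mul, inv_one, mul_one, left_eq_mul] at h1
  have h9 : v ^ 9 = 1 := by
    rw [show 9 = 3 * 3 from rfl, pow_mul, h.Z_cube (h.cube_mem hv)]
  have h2 : v ^ Nat.gcd (2 ^ e) 9 = 1 := pow_gcd_eq_one.2 ⟨h1, h9⟩
  rw [show Nat.gcd (2 ^ e) 9 = 1 from Nat.Coprime.pow_left e (by norm_num), pow_one] at h2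
  rw [hu, h2, mul_one]

theorem fixed_of_mod_two {l u : G} {e : ℕ} (hlC : l ∈ centralizer (Z : Set G)) (hl : l ^ 2 ^ e = 1)
    (hz : u⁻¹ * (l * u * l⁻¹) ∈ Z) : l * u * l⁻¹ = u :=
  h.fixed_of_fixed_shift hl (h.Z_le hz) (mul_inv_cancel_left u _).symm (h.conj_Z hlC hz)

end Setting

end Cfsg.Agent.UThreeLocal
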