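import Cfsg.Agent.Lib.UThreeLocal.Loc.Split

/-!
# Two commuting subgroups of order 27 with product `Q`
-/

set_option autoImplicit false
set_option linter.unusedSectionVars false
set_option linter.style.haveILetI false

namespace Cfsg.Agent.UThreeLocal

open Subgroup
open scoped commutatorElement

universe u

variable {G : Type u} [Group G]

/-- `Q` is the product of `Q1` and `Q2`, commuting groups of order 27 meeting in `Z`. -/
structure Pair (Z Q Q1 Q2 : Subgroup G) : Prop where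
  le1 : Q1 ≤ Q
  le2 : Q2 ≤ Q
  Z1 : Z ≤ Q1
  Z2 : Z ≤ Q2
  card1 : Nat.card Q1 = 27
  card2 : Nat.card Q2 = 27
  comm : ∀ a ∈ Q1, ∀ b ∈ Q2, a * b = b * a
  dec : ∀ x ∈ Q, ∃ a ∈ Q1, ∃ b ∈ Q2, x = a * b

theorem Pair.symm {Z Q Q1 Q2 : Subgroup G} (P : Pair Z Q Q1 Q2) : Pair Z Q Q2 Q1 :=
  ⟨P.le2, P.le1, P.Z2, P.Z1, P.card2, P.card1, fun a ha b hb => (P.comm b hb a ha).symm, fun x hx => by
    obtain ⟨a, ha, b, hb, rfl⟩ := P.dec x hx
    exact ⟨b, hb, a, ha, P.comm a ha b hb⟩⟩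

namespace Pair

variable [Finite G] {Z Q Q1 Q2 : Subgroup G} (P : Pair Z Q Q1 Q2) (h : Setting Z Q)
include P h

theorem norm1 : Q ≤ normalizer (Q1 : Set G) := h.normal_of_Z_le P.le1 P.Z1

theorem inf_eq : Q1 ⊓ Q2 = Z := by
  refine le_antisymm (fun x hx => h.mem_Z_of_comm (P.le1 hx.1) fun y hy => ?_) (le_inf P.Z1 P.Z2)
  obtain ⟨a, ha, b, hb, rfl⟩ := P.dec y hy
  have e1 : a * x = x * a := P.comm a ha x hx.2
  have e2 : b * x = x * b := (P.comm x hx.1 b hb).symm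
  rw [mul_assoc, e2, ← mul_assoc, e1, mul_assoc]

theorem exists_noncomm {a : G} (ha : a ∈ Q1) (haZ : a ∉ Z) : ∃ b ∈ Q1, a * b ≠ b * a := by
  by_contra hc
  push Not at hc
  refine haZ (h.mem_Z_of_comm (P.le1 ha) fun y hy => ?_)
  obtain ⟨u, hu, v, hv, rfl⟩ := P.dec y hy
  rw [mul_assoc, ← P.comm a ha v hv, ← mul_assoc, ← hc u hu, mul_assoc]

/-- The elements of `Q1` commuting with `a ∉ Z` are those of `Z⟨a⟩`. -/
theorem cent_eq {a : G} (ha : a ∈ Q1) (haZ : a ∉ Z) :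
    Q1 ⊓ centralizer ({a} : Set G) = Z ⊔ zpowers a := by
  haveI : Fact (Nat.Prime 3) := ⟨Nat.prime_three⟩
  have hle : Z ⊔ zpowers a ≤ Q1 ⊓ centralizer ({a} : Set G) := sup_le
    (le_inf P.Z1 fun z hz => mem_centralizer_singleton_iff.2 (h.comm_Z (P.le1 ha) hz))
    (zpowers_le.2 ⟨ha, mem_centralizer_singleton_iff.2 rfl⟩)
  obtain ⟨b, hb, hab⟩ := P.exists_noncomm h ha haZ
  obtain ⟨k, hk, ek⟩ := (Nat.dvd_prime_pow Nat.prime_three).1 (show Nat.card ↥(Q1 ⊓ centralizer ({a} : Set G)) ∣ 3 ^ 3 from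
    (by rw [show (3 : ℕ) ^ 3 = Nat.card Q1 by rw [P.card1]; norm_num]; exact card_dvd_of_le inf_le_left))
  obtain ⟨j, hj, ej⟩ := (Nat.dvd_prime_pow Nat.prime_three).1 (show Nat.card ↥(Z ⊔ zpowers a) ∣ 3 ^ k from
    ek ▸ card_dvd_of_le hle)
  have hk3 : k ≠ 3 := fun e => by
    have he : Q1 ⊓ centralizer ({a} : Set G) = Q1 :=
      Subgroup.eq_of_le_of_card_ge inf_le_left (by rw [ek, e, P.card1]; norm_num)
    exact hab (mem_centralizer_singleton_iff.1 (he.ge hb).2).symm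
  have hj1 : 2 ≤ j := by
    by_contra hlt
    refine haZ ?_
    have : Nat.card ↥(Z ⊔ zpowers a) ≤ Nat.card Z := by
      rw [ej, h.Z_card]
      calc 3 ^ j ≤ 3 ^ 1 := Nat.pow_le_pow_right (by norm_num) (by omega)
        _ = 3 := by norm_num
    exact (Subgroup.eq_of_le_of_card_ge le_sup_left this).ge (mem_sup_right (mem_zpowers a))
  exact (Subgroup.eq_of_le_of_card_ge hle (by
    rw [ek, ej]; exact Nat.pow_le_pow_right (by norm_num) (by omega))).symm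

/-- A 2-element fixing some `aZ`, `a ∈ Q1 - Z`, centralises `Q1`. -/
theorem free {l a : G} {e : ℕ} (hlC : l ∈ centralizer (Z : Set G)) (hlN : l ∈ normalizer (Q1 : Set G))
    (hl : l ^ 2 ^ e = 1) (ha : a ∈ Q1) (haZ : a ∉ Z) (hfix : a⁻¹ * (l * a * l⁻¹) ∈ Z) :
    l ∈ centralizer (Q1 : Set G) := by
  have hla : l * a * l⁻¹ = a := h.fixed_of_mod_two hlC hl hfix
  refine mem_centralizer_iff.2 fun u hu => ?_
  have hu' : l * u * l⁻¹ ∈ Q1 := (mem_normalizer_iff.1 hlN u).1 hu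
  set v := u⁻¹ * (l * u * l⁻¹) with hv
  have hvQ1 : v ∈ Q1 := mul_mem (inv_mem hu) hu'
  have h1 : ⁅a, v⁆ = 1 := by
    have e2 : ⁅a, l * u * l⁻¹⁆ = ⁅a, u⁆ := by
      calc ⁅a, l * u * l⁻¹⁆ = ⁅l * a * l⁻¹, l * u * l⁻¹⁆ := by rw [hla]
        _ = l * ⁅a, u⁆ * l⁻¹ := by simp only [commutatorElement_def]; group
        _ = ⁅a, u⁆ := h.conj_Z hlC (h.comm_mem (P.le1 ha) (P.le1 hu))
    rw [hv, h.comm_mul_right (inv_mem (P.le1 hu)) (P.le1 hu') (P.le1 ha), e2,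
      ← h.comm_mul_right (inv_mem (P.le1 hu)) (P.le1 hu) (P.le1 ha), inv_mul_cancel, commutatorElement_one_right]
  have hmem : v ∈ Z ⊔ zpowers a := by
    rw [← P.cent_eq h ha haZ]
    exact ⟨hvQ1, mem_centralizer_singleton_iff.2 (commutatorElement_eq_one_iff_mul_comm.1 h1).symm⟩
  have hle : Z ⊔ zpowers a ≤ centralizer ({l} : Set G) := sup_le
    (fun z hz => mem_centralizer_singleton_iff.2 (mem_centralizer_iff.1 hlC z hz))
    (zpowers_le.2 (mem_centralizer_singleton_iff.2 (mul_inv_eq_iff_eq_mul.1 hla).symm))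
  have hlv : l * v * l⁻¹ = v := by rw [← mem_centralizer_singleton_iff.1 (hle hmem), mul_inv_cancel_right]
  have := h.fixed_of_fixed_shift hl (P.le1 hvQ1) (mul_inv_cancel_left u _).symm hlv
  exact (mul_inv_eq_iff_eq_mul.1 this).symm

/-- An involution normalising `Q1` centralises it or inverts it modulo `Z`. -/
theorem dichotomy {t : G} (htC : t ∈ centralizer (Z : Set G)) (htN : t ∈ normalizer (Q1 : Set G))
    (h2 : t * t = 1) :
    t ∈ centralizer (Q1 : Set G) ∨ ∀ x ∈ Q1, t * x * t⁻¹ * x ∈ Z := by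
  by_cases hex : ∃ a ∈ Q1, a ∉ Z ∧ t * a * t⁻¹ = a
  · obtain ⟨a, ha, haZ, hta⟩ := hex
    exact Or.inl (P.free h (e := 1) htC htN (by rw [pow_one, pow_two]; exact h2) ha haZ
      (by rw [hta, inv_mul_cancel]; exact Z.one_mem))
  · push Not at hex
    refine Or.inr fun x hx => ?_
    set u := t * x * t⁻¹ with hu
    have hu' : u ∈ Q1 := (mem_normalizer_iff.1 htN x).1 hx
    have htu : t * u * t⁻¹ = x := by
      rw [hu]
      calc t * (t * x * t⁻¹) * t⁻¹ = (t * t) * x * (t * t)⁻¹ := by group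
        _ = x := by rw [h2]; group
    have hw : t * (u * x) * t⁻¹ = u * x := h.fixed_of_mod htC h2 (by
      have e : t * (u * x) * t⁻¹ * (u * x)⁻¹ = ⁅x, u⁆ := by
        calc t * (u * x) * t⁻¹ * (u * x)⁻¹ = (t * u * t⁻¹) * (t * x * t⁻¹) * x⁻¹ * u⁻¹ := by group
          _ = _ := by rw [htu, ← hu, commutatorElement_def]
      rw [e]
      exact h.comm_mem (P.le1 hx) (P.le1 hu'))
    by_contra hn
    exact hex _ (mul_mem hu' hx) hn hw

end Pair

end Cfsg.Agent.UThreeLocal
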