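import Cfsg.Prelude
import Cfsg.Agent.Lib.Components.Fitting
import Cfsg.Agent.Lib.Coprime.Commutator

/-!
# A 3-centralizer similar to that of `U₆(2)`: the extraspecial group and the complement `Q₈ × Q₈`

`Setting Z Q` collects what the hypotheses say inside `G`: `Q = F*(C(Z))` is extraspecial of order `3⁵` with
centre `Z`, contains its centralizer, `Z` is weakly closed in `Q`, and `C(Z)` has a 2-subgroup `L ≅ Q₈ × Q₈`
with `QL` normal.
-/

set_option autoImplicit false
set_option linter.unusedSectionVars false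
set_option linter.style.haveILetI false

namespace Cfsg.Agent.UThreeLocal

open Subgroup
open scoped commutatorElement

universe u

variable {G : Type u} [Group G]

/-- The group `Q₈ × Q₈`. -/
abbrev QQ : Type := QuaternionGroup 2 × QuaternionGroup 2

/-- The data of the statement, inside `G`. -/
structure Setting (Z Q : Subgroup G) : Prop where
  Z_card : Nat.card Z = 3
  Q_card : Nat.card Q = 243
  Q_le : Q ≤ centralizer (Z : Set G)
  Q_norm : centralizer (Z : Set G) ≤ normalizer (Q : Set G)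
  Z_eq : (center ↥Q).map Q.subtype = Z
  derived : ⁅Q, Q⁆ ≤ Z
  cube : ∀ x ∈ Q, ∀ y ∈ Q, ⁅x, y⁆ ^ 3 = 1
  cent : centralizer (Q : Set G) = Z
  wc : ∀ g : G, (∀ x ∈ Z, g * x * g⁻¹ ∈ Q) → ∀ x ∈ Z, g * x * g⁻¹ ∈ Z
  L : ∃ L : Subgroup G, L ≤ centralizer (Z : Set G) ∧ Nonempty (↥L ≃* QQ) ∧
    centralizer (Z : Set G) ≤ normalizer ((Q ⊔ L : Subgroup G) : Set G)

theorem card_QQ : Nat.card QQ = 64 := by
  rw [Nat.card_prod, QuaternionGroup.card.symm.trans Nat.card_eq_fintype_card.symm |>.symm]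

namespace Setting

variable {Z Q : Subgroup G} (h : Setting Z Q)
include h

theorem Z_le : Z ≤ Q := h.Z_eq ▸ map_subtype_le _

theorem comm_Z {x z : G} (hx : x ∈ Q) (hz : z ∈ Z) : z * x = x * z :=
  (mem_centralizer_iff.1 (h.Q_le hx) z hz)

theorem comm_mem {x y : G} (hx : x ∈ Q) (hy : y ∈ Q) : ⁅x, y⁆ ∈ Z :=
  h.derived (commutator_mem_commutator hx hy)

/-- An element of `Q` commuting with all of `Q` lies in `Z`. -/
theorem mem_Z_of_comm {x : G} (hx : x ∈ Q) (hc : ∀ y ∈ Q, y * x = x * y) : x ∈ Z := by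
  rw [← h.Z_eq]
  exact ⟨⟨x, hx⟩, mem_center_iff.2 fun y => Subtype.ext (hc y y.2), rfl⟩

theorem Z_cube {z : G} (hz : z ∈ Z) : z ^ 3 = 1 := by
  have := pow_card_eq_one' (x := (⟨z, hz⟩ : ↥Z))
  rw [h.Z_card] at this
  simpa using congrArg Subtype.val this

/-- The commutator is multiplicative in the first argument. -/
theorem comm_mul_left {a b c : G} (ha : a ∈ Q) (hb : b ∈ Q) (hc : c ∈ Q) :
    ⁅a * b, c⁆ = ⁅a, c⁆ * ⁅b, c⁆ := by
  have hz := h.comm_mem hb hc
  have e : a * ⁅b, c⁆ * a⁻¹ = ⁅b, c⁆ := by rw [← h.comm_Z ha hz, mul_inv_cancel_right]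
  calc ⁅a * b, c⁆ = a * ⁅b, c⁆ * a⁻¹ * ⁅a, c⁆ := by simp only [commutatorElement_def]; group
    _ = ⁅b, c⁆ * ⁅a, c⁆ := by rw [e]
    _ = ⁅a, c⁆ * ⁅b, c⁆ := h.comm_Z (h.Z_le (h.comm_mem ha hc)) hz

theorem comm_mul_right {a b c : G} (ha : a ∈ Q) (hb : b ∈ Q) (hc : c ∈ Q) :
    ⁅c, a * b⁆ = ⁅c, a⁆ * ⁅c, b⁆ := by
  rw [← inv_inj, commutatorElement_inv, mul_inv_rev, commutatorElement_inv, commutatorElement_inv,
    h.comm_mul_left ha hb hc]
  exact h.comm_Z (h.Z_le (h.comm_mem hb hc)) (h.comm_mem ha hc)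

theorem cube_mem [Finite G] {x : G} (hx : x ∈ Q) : x ^ 3 ∈ Z := by
  refine h.mem_Z_of_comm (pow_mem hx 3) fun y hy => ?_
  have e : ⁅x ^ 3, y⁆ = 1 := by
    rw [show x ^ 3 = x * x * x by rw [pow_succ, pow_two], h.comm_mul_left (mul_mem hx hx) hx hy, h.comm_mul_left hx hx hy]
    have := h.cube x hx y hy
    rwa [pow_succ, pow_two] at this
  exact (commutatorElement_eq_one_iff_mul_comm.1 e).symm

/-- Conjugates. -/
theorem conj (g : G) :
    Setting (Z.map (MulAut.conj g).toMonoidHom) (Q.map (MulAut.conj g).toMonoidHom) := by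
  set c := MulAut.conj g with hc
  have hinj : Function.Injective c.toMonoidHom := c.injective
  have hcent : ∀ K : Subgroup G, centralizer ((K.map c.toMonoidHom : Subgroup G) : Set G) =
      (centralizer (K : Set G)).map c.toMonoidHom := by
    intro K
    ext x
    rw [mem_map_equiv, mem_centralizer_iff, mem_centralizer_iff]
    constructor
    · intro hx y hy
      refine c.injective ?_
      simp only [map_mul, MulEquiv.apply_symm_apply]
      exact hx _ ⟨y, hy, rfl⟩
    · rintro hx _ ⟨y, hy, rfl⟩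
      have := congrArg c (hx y hy)
      simpa only [map_mul, MulEquiv.apply_symm_apply, MulEquiv.coe_toMonoidHom] using this
  have hnorm : ∀ K : Subgroup G, normalizer ((K.map c.toMonoidHom : Subgroup G) : Set G) =
      (normalizer (K : Set G)).map c.toMonoidHom := fun K =>
    (Subgroup.map_equiv_normalizer_eq K c).symm
  refine ⟨by rw [card_map_of_injective hinj, h.Z_card], by rw [card_map_of_injective hinj, h.Q_card],
    by rw [hcent]; exact map_mono h.Q_le, by rw [hcent, hnorm]; exact map_mono h.Q_norm, ?_, ?_, ?_, ?_, ?_,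
    ?_⟩
  · ext x
    constructor
    · rintro ⟨⟨_, y, hy, rfl⟩, hyc, rfl⟩
      refine ⟨y, h.mem_Z_of_comm hy fun u hu => hinj ?_, rfl⟩
      simp only [map_mul]
      exact congrArg Subtype.val (mem_center_iff.1 hyc ⟨_, u, hu, rfl⟩)
    · rintro ⟨y, hy, rfl⟩
      refine ⟨⟨_, y, h.Z_le hy, rfl⟩, mem_center_iff.2 ?_, rfl⟩
      rintro ⟨_, u, hu, rfl⟩
      refine Subtype.ext ?_
      simp only [Subgroup.coe_mul, ← map_mul, h.comm_Z hu hy]
  · rw [← Subgroup.map_commutator]; exact map_mono h.derived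
  · rintro _ ⟨x, hx, rfl⟩ _ ⟨y, hy, rfl⟩
    rw [← map_commutatorElement, ← map_pow, h.cube x hx y hy, map_one]
  · rw [hcent, h.cent]
  · intro k hk
    have key := h.wc (g⁻¹ * k * g) fun x hx => by
      obtain ⟨y, hy, e⟩ := hk _ ⟨x, hx, rfl⟩
      simp only [MulEquiv.coe_toMonoidHom, hc, MulAut.conj_apply] at e
      have : g⁻¹ * k * g * x * (g⁻¹ * k * g)⁻¹ = y := by
        calc g⁻¹ * k * g * x * (g⁻¹ * k * g)⁻¹ = g⁻¹ * (k * (g * x * g⁻¹) * k⁻¹) * g := by group
          _ = y := by rw [← e]; group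
      rwa [this]
    rintro _ ⟨x, hx, rfl⟩
    refine ⟨_, key x hx, ?_⟩
    simp only [MulEquiv.coe_toMonoidHom, hc, MulAut.conj_apply]
    group
  · obtain ⟨L, hL, ⟨e⟩, hn⟩ := h.L
    refine ⟨L.map c.toMonoidHom, by rw [hcent]; exact map_mono hL,
      ⟨(L.equivMapOfInjective c.toMonoidHom hinj).symm.trans e⟩, ?_⟩
    rw [hcent, ← Subgroup.map_sup, hnorm]
    exact map_mono hn

end Setting

/-- The statement's hypotheses give the setting. -/
theorem exists_setting [Finite G] (Z H : Subgroup G) (hZ3 : Nat.card Z = 3)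
    (hH : H = centralizer (Z : Set G))
    (hQ : Cfsg.IsExtraspecial 3 ↥(Cfsg.generalizedFittingSubgroup ↥H))
    (hQord : Nat.card ↥(Cfsg.generalizedFittingSubgroup ↥H) = 3 ^ 5)
    (hZ : center ↥(Cfsg.generalizedFittingSubgroup ↥H) =
      (center ↥H).subgroupOf (Cfsg.generalizedFittingSubgroup ↥H))
    (hN : ∃ _ : (Cfsg.generalizedFittingSubgroup ↥H).Normal,
      ∃ N : Subgroup (↥H ⧸ Cfsg.generalizedFittingSubgroup ↥H), N.Normal ∧ Nonempty (↥N ≃* QQ))
    (hwc : Cfsg.IsWeaklyClosed Z ((Cfsg.generalizedFittingSubgroup ↥H).map H.subtype)) :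
    Setting Z ((Cfsg.generalizedFittingSubgroup ↥H).map H.subtype) := by
  classical
  haveI : Fact (Nat.Prime 3) := ⟨Nat.prime_three⟩
  obtain ⟨hFn, N, hNn, ⟨eN⟩⟩ := hN
  set F := Cfsg.generalizedFittingSubgroup ↥H with hFd
  set Q := F.map H.subtype with hQd
  have hFF : centralizer (F : Set ↥H) ≤ F := Cfsg.Agent.Components.Fitting.centralizer_genFitting_le
  have hinj : Function.Injective H.subtype := H.subtype_injective
  -- the centre
  have hZH : ∀ x ∈ Z, ∃ hx : x ∈ H, (⟨x, hx⟩ : ↥H) ∈ center ↥H := by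
    intro x hx
    have hxH : x ∈ H := by
      rw [hH]
      exact mem_centralizer_iff.2 fun y hy => by
        haveI : IsCyclic ↥Z := isCyclic_of_prime_card hZ3
        exact congrArg Subtype.val (IsMulCommutative.is_comm.comm (⟨y, hy⟩ : ↥Z) ⟨x, hx⟩)
    refine ⟨hxH, mem_center_iff.2 fun y => Subtype.ext ?_⟩
    exact (mem_centralizer_iff.1 (hH ▸ y.2) x hx).symm
  have hcen : center ↥H ≤ F := fun x hx => hFF (mem_centralizer_iff.2 fun y _ => mem_center_iff.1 hx y)
  have hcard : Nat.card ↥((center ↥F).map F.subtype) = 3 := by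
    rw [card_map_of_injective F.subtype_injective, hQ.2]
  have heq : (center ↥F).map F.subtype = center ↥H := by
    rw [hZ, map_subgroupOf_eq_of_le hcen]
  have hZeq : Z = (center ↥H).map H.subtype := by
    refine Subgroup.eq_of_le_of_card_ge (fun x hx => ?_) ?_
    · obtain ⟨hxH, hxc⟩ := hZH x hx
      exact ⟨_, hxc, rfl⟩
    · rw [card_map_of_injective hinj, ← heq, hcard, hZ3]
  have hFZ : (center ↥Q).map Q.subtype = Z := by
    rw [hZeq, ← heq]
    ext x
    constructor
    · rintro ⟨⟨_, y, hy, rfl⟩, hyc, rfl⟩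
      refine ⟨y, ⟨⟨y, hy⟩, mem_center_iff.2 fun u => Subtype.ext (hinj ?_), rfl⟩, rfl⟩
      simp only [Subgroup.coe_mul, map_mul]
      exact congrArg Subtype.val (mem_center_iff.1 hyc ⟨_, u, u.2, rfl⟩)
    · rintro ⟨_, ⟨⟨y, hy⟩, hyc, rfl⟩, rfl⟩
      refine ⟨⟨_, y, hy, rfl⟩, mem_center_iff.2 ?_, rfl⟩
      rintro ⟨_, u, hu, rfl⟩
      refine Subtype.ext ?_
      simp only [Subgroup.coe_mul, ← map_mul]
      exact congrArg H.subtype (congrArg Subtype.val (mem_center_iff.1 hyc ⟨u, hu⟩))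
  have hder : ⁅Q, Q⁆ ≤ Z := by
    rw [hQd, ← Subgroup.map_commutator, hZeq]
    refine map_mono ?_
    rw [← heq, ← hQ.1.2.2, map_subtype_commutator]
  have hQH : Q ≤ centralizer (Z : Set G) := hH ▸ map_subtype_le _
  have hcentQ : centralizer (Q : Set G) = Z := by
    refine le_antisymm (fun x hx => ?_) ?_
    · have hxH : x ∈ H := by
        rw [hH]
        exact mem_centralizer_iff.2 fun y hy => mem_centralizer_iff.1 hx y
          (map_mono hcen (hZeq ▸ hy))
      have hxF : (⟨x, hxH⟩ : ↥H) ∈ F := hFF (mem_centralizer_iff.2 fun y hy =>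
        Subtype.ext (mem_centralizer_iff.1 hx _ ⟨y, hy, rfl⟩))
      rw [← hFZ]
      exact ⟨⟨x, _, hxF, rfl⟩, mem_center_iff.2 fun y => Subtype.ext (mem_centralizer_iff.1 hx _ y.2), rfl⟩
    · intro x hx
      exact mem_centralizer_iff.2 fun y hy => (mem_centralizer_iff.1 (hQH hy) x hx).symm
  have hQc : Nat.card Q = 243 := by rw [hQd, card_map_of_injective hinj, hQord]; norm_num
  refine ⟨hZ3, hQc, hQH, ?_, hFZ, hder, ?_, hcentQ, ?_, ?_⟩
  · rw [← hH]
    intro g hg
    refine Subgroup.mem_normalizer_fintype fun x hx => ?_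
    obtain ⟨y, hy, rfl⟩ := hx
    exact ⟨⟨g, hg⟩ * y * ⟨g, hg⟩⁻¹, hFn.conj_mem y hy _, rfl⟩
  · intro x hx y hy
    have hz : ⁅x, y⁆ ∈ Z := hder (commutator_mem_commutator hx hy)
    have := pow_card_eq_one' (x := (⟨_, hz⟩ : ↥Z))
    rw [hZ3] at this
    simpa using congrArg Subtype.val this
  · intro g hg x hx
    have hle : Z.map (MulAut.conj g).toMonoidHom ≤ Q := by
      rintro _ ⟨y, hy, rfl⟩; exact hg y hy
    rw [← hwc.2 g hle]
    exact ⟨x, hx, rfl⟩
  · -- the complement
    set M := N.comap (QuotientGroup.mk' F) with hM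
    have hMn : M.Normal := hNn.comap _
    have hFM : F ≤ M := fun x hx => by
      rw [hM, mem_comap, QuotientGroup.mk'_apply, (QuotientGroup.eq_one_iff x).2 hx]; exact one_mem _
    let ρ : ↥M →* ↥N := (QuotientGroup.mk' F).subgroupComap N
    have hρ : Function.Surjective ρ :=
      (QuotientGroup.mk' F).subgroupComap_surjective_of_surjective N (QuotientGroup.mk'_surjective F)
    have hker : ρ.ker = F.subgroupOf M := by
      ext x
      rw [MonoidHom.mem_ker, mem_subgroupOf]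
      constructor
      · intro hx
        exact (QuotientGroup.eq_one_iff _).1 (congrArg Subtype.val hx)
      · intro hx
        exact Subtype.ext ((QuotientGroup.eq_one_iff _).2 hx)
    have hidx : (F.subgroupOf M).index = 64 := by
      rw [← hker, index_ker, MonoidHom.range_eq_top.2 hρ, card_top, Nat.card_congr eN.toEquiv, card_QQ]
    have hFc : Nat.card ↥(F.subgroupOf M) = 243 := by
      rw [Nat.card_congr (subgroupOfEquivOfLe hFM).toEquiv, hQord]; norm_num
    haveI : (F.subgroupOf M).Normal := inferInstance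
    obtain ⟨L, hL⟩ := Subgroup.exists_right_complement'_of_coprime (N := F.subgroupOf M)
      (by rw [hFc, hidx]; norm_num)
    let eL : ↥L ≃* ↥N := MulEquiv.ofBijective (ρ.comp L.subtype) ⟨by
      rw [injective_iff_map_eq_one]
      intro x hx
      have h1 : (x : ↥M) ∈ F.subgroupOf M := hker ▸ hx
      have := hL.disjoint.le_bot ⟨h1, x.2⟩
      exact Subtype.ext (mem_bot.1 this), fun y => by
      obtain ⟨x, rfl⟩ := hρ y
      obtain ⟨⟨a, b⟩, hab, -⟩ := Subgroup.IsComplement.existsUnique hL x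
      refine ⟨b, ?_⟩
      show ρ (b : ↥M) = ρ x
      rw [← hab, map_mul, show ρ (a : ↥M) = 1 by rw [← MonoidHom.mem_ker, hker]; exact a.2, one_mul]⟩
    refine ⟨(L.map M.subtype).map H.subtype, hH ▸ map_subtype_le _,
      ⟨(((L.equivMapOfInjective M.subtype M.subtype_injective).trans
        ((L.map M.subtype).equivMapOfInjective H.subtype hinj)).symm.trans eL).trans eN⟩, ?_⟩
    have hsup : Q ⊔ (L.map M.subtype).map H.subtype = M.map H.subtype := by
      rw [hQd, ← Subgroup.map_sup]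
      congr 1
      rw [← map_subgroupOf_eq_of_le hFM, ← Subgroup.map_sup, hL.sup_eq_top, ← MonoidHom.range_eq_map, range_subtype]
    rw [hsup, ← hH]
    intro g hg
    refine Subgroup.mem_normalizer_fintype fun x hx => ?_
    obtain ⟨y, hy, rfl⟩ := hx
    exact ⟨⟨g, hg⟩ * y * ⟨g, hg⟩⁻¹, hMn.conj_mem y hy _, rfl⟩

end Cfsg.Agent.UThreeLocal
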