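import Cfsg.Agent.Lib.UThreeLocal.Loc.Involutions

/-!
# An involution centralising `Z` inverts `Q/Z` or splits `Q` into two commuting groups of order 27
-/

set_option autoImplicit false
set_option linter.unusedSectionVars false
set_option linter.style.haveILetI false

namespace Cfsg.Agent.UThreeLocal

open Subgroup
open scoped commutatorElement

universe u

variable {G : Type u} [Group G] [Finite G]

theorem card_sup_mul_inf {A B : Subgroup G} (h : B ≤ normalizer (A : Set G)) :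
    Nat.card ↥(A ⊔ B) * Nat.card ↥(A ⊓ B) = Nat.card A * Nat.card B := by
  set H := A ⊔ B
  haveI : (A.subgroupOf H).Normal :=
    normal_subgroupOf_of_le_normalizer (sup_le le_normalizer h)
  have htop : B.subgroupOf H ⊔ A.subgroupOf H = ⊤ := by
    rw [← subgroupOf_sup le_sup_right le_sup_left, sup_comm B A, subgroupOf_self]
  have h1 : A.relIndex H = A.relIndex B := by
    rw [← relIndex_subgroupOf (H := A) (le_refl H), subgroupOf_self, ← htop,
      relIndex_sup_right, relIndex_subgroupOf (le_sup_right : B ≤ H)]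
  have h2 : Nat.card A * A.relIndex H = Nat.card H := by
    rw [← relIndex_bot_left, ← relIndex_bot_left, relIndex_mul_relIndex ⊥ _ _ bot_le le_sup_left]
  have h3 : Nat.card ↥(A ⊓ B) * A.relIndex B = Nat.card B := by
    rw [← relIndex_bot_left, ← inf_relIndex_right A B, ← relIndex_bot_left,
      relIndex_mul_relIndex ⊥ _ _ bot_le inf_le_right]
  rw [← h2, h1, ← h3]
  ring

theorem pgroup_card {P : Subgroup G} (hP : IsPGroup 3 ↥P) {n : ℕ} (h : Nat.card P ∣ 3 ^ n) :
    ∃ k ≤ n, Nat.card P = 3 ^ k := (Nat.dvd_prime_pow Nat.prime_three).1 h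

namespace Setting

variable {Z Q : Subgroup G} (h : Setting Z Q)
include h

theorem normal_of_Z_le {K : Subgroup G} (hK : K ≤ Q) (hZK : Z ≤ K) : Q ≤ normalizer (K : Set G) :=
  fun x hx => Subgroup.mem_normalizer_fintype fun k hk => by
    have e : x * k * x⁻¹ = ⁅x, k⁆ * k := by rw [commutatorElement_def]; group
    rw [SetLike.mem_coe, e]
    exact mul_mem (hZK (h.comm_mem hx (hK hk))) hk

theorem Z_le_Fx {t : G} (ht : t ∈ centralizer (Z : Set G)) : Z ≤ Fx Q t :=
  fun _ hz => mem_Fx.2 ⟨h.Z_le hz, h.conj_Z ht hz⟩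

theorem Z_le_Iv {t : G} (ht : t ∈ centralizer (Z : Set G)) : Z ≤ h.Iv t ht := fun z hz =>
  ⟨h.Z_le hz, by rw [h.conj_Z ht hz]; exact mul_mem hz hz⟩

theorem card_parts {t : G} (ht : t ∈ centralizer (Z : Set G)) (h2 : t * t = 1) :
    Nat.card ↥(Fx Q t) * Nat.card ↥(h.Iv t ht) = 729 := by
  have hiQ : h.Iv t ht ≤ Q := fun _ hx => hx.1
  rw [← card_sup_mul_inf ((hiQ.trans (h.normal_of_Z_le inf_le_left (h.Z_le_Fx ht)))),
    show Fx Q t ⊔ h.Iv t ht = Q from le_antisymm (sup_le inf_le_left hiQ) fun x hx => by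
      obtain ⟨c, hc, i, hi, rfl⟩ := h.exists_parts ht h2 hx
      exact mul_mem_sup hc hi,
    show Fx Q t ⊓ h.Iv t ht = Z from le_antisymm (fun x hx => h.inf_parts ht hx.1 hx.2)
      (le_inf (h.Z_le_Fx ht) (h.Z_le_Iv ht)), h.Q_card, h.Z_card]

/-- A subgroup of order at most nine containing `Z` is abelian. -/
theorem abelian_of_card {K : Subgroup G} (hK : K ≤ Q) (hc : Nat.card K ∣ 9) :
    ∀ x ∈ K, ∀ y ∈ K, x * y = y * x := by
  haveI : Fact (Nat.Prime 3) := ⟨Nat.prime_three⟩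
  intro x hx y hy
  obtain ⟨k, hk, e⟩ := (Nat.dvd_prime_pow Nat.prime_three).1 (show Nat.card K ∣ 3 ^ 2 from hc)
  have hcomm : ∀ a b : ↥K, a * b = b * a := by
    interval_cases k
    · haveI := (Nat.card_eq_one_iff_unique.1 e).1
      exact fun a b => Subsingleton.elim _ _
    · haveI : IsCyclic ↥K := isCyclic_of_prime_card (p := 3) (by rw [e]; norm_num)
      exact IsMulCommutative.is_comm.comm
    · exact (IsPGroup.isMulCommutative_of_card_eq_prime_sq (by rw [e])).is_comm.comm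
  exact congrArg Subtype.val (hcomm ⟨x, hx⟩ ⟨y, hy⟩)

/-- The possible orders of the two parts of an involution centralising `Z`. -/
theorem parts_cases {t : G} (ht : t ∈ centralizer (Z : Set G)) (h2 : t * t = 1) (hne : t ≠ 1) :
    (Fx Q t = Z ∧ h.Iv t ht = Q) ∨
      (Nat.card ↥(Fx Q t) = 27 ∧ Nat.card ↥(h.Iv t ht) = 27) := by
  have hiQ : h.Iv t ht ≤ Q := fun _ hx => hx.1
  have hprod := h.card_parts ht h2
  have hab : ∀ (A B : Subgroup G), A ≤ Q → B ≤ Q → Z ≤ A → (∀ a ∈ A, ∀ b ∈ B, a * b = b * a) →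
      A ⊔ B = Q → Nat.card A ∣ 9 → A = Z := by
    intro A B hA hB hZA hAB hsup hd
    refine le_antisymm (fun a ha => h.mem_Z_of_comm (hA ha) fun y hy => ?_) hZA
    have hle : Q ≤ centralizer ({a} : Set G) := hsup ▸ sup_le
      (fun u hu => mem_centralizer_singleton_iff.2 (h.abelian_of_card hA hd u hu a ha))
      (fun u hu => mem_centralizer_singleton_iff.2 (hAB a ha u hu).symm)
    exact mem_centralizer_singleton_iff.1 (hle hy)
  have hsup : Fx Q t ⊔ h.Iv t ht = Q := le_antisymm (sup_le inf_le_left hiQ) fun x hx => by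
    obtain ⟨c, hc, i, hi, rfl⟩ := h.exists_parts ht h2 hx
    exact mul_mem_sup hc hi
  have hF : Nat.card ↥(Fx Q t) ∣ 243 := h.Q_card ▸ card_dvd_of_le inf_le_left
  have hFQ : Fx Q t ≠ Q := by
    intro e
    have : t ∈ Z := h.cent ▸ mem_centralizer_iff.2 fun x hx => by
      have := (mem_Fx.1 (e.symm ▸ hx : x ∈ Fx Q t)).2
      exact (mul_inv_eq_iff_eq_mul.1 this).symm
    have h3 := h.Z_cube this
    rw [pow_succ, pow_two, h2, one_mul] at h3
    exact hne h3
  obtain ⟨k, hk, ek⟩ := (Nat.dvd_prime_pow Nat.prime_three).1 (show Nat.card ↥(Fx Q t) ∣ 3 ^ 5 from hF)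
  have hF1 : Nat.card ↥(Fx Q t) ∣ 9 → Fx Q t = Z := fun hd =>
    hab _ _ inf_le_left hiQ (h.Z_le_Fx ht) (fun a ha b hb => h.comm_parts ht ha hb) hsup hd
  have hI1 : Nat.card ↥(h.Iv t ht) ∣ 9 → h.Iv t ht = Z := fun hd =>
    hab _ _ hiQ inf_le_left (h.Z_le_Iv ht) (fun a ha b hb => (h.comm_parts ht hb ha).symm)
      ((sup_comm (h.Iv t ht) (Fx Q t)).trans hsup) hd
  rw [ek] at hprod
  interval_cases k
  · have : Nat.card ↥(h.Iv t ht) ≤ 243 := h.Q_card ▸ Subgroup.card_le_of_le hiQ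
    omega
  · exact Or.inl ⟨hF1 (ek ▸ ⟨3, rfl⟩), Subgroup.eq_of_le_of_card_ge hiQ (by rw [h.Q_card]; omega)⟩
  · have := hF1 (ek ▸ ⟨1, rfl⟩)
    rw [this, h.Z_card] at ek
    omega
  · exact Or.inr ⟨ek, by omega⟩
  · have hd : Nat.card ↥(h.Iv t ht) = 9 := by omega
    have := hI1 (by rw [hd])
    rw [this, h.Z_card] at hd
    omega
  · exact absurd (Subgroup.eq_of_le_of_card_ge inf_le_left (by rw [ek, h.Q_card]; norm_num)) hFQ

end Setting

end Cfsg.Agent.UThreeLocal
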